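import Mathlib
import Cfsg.Agent.H83.ClassSize
import Cfsg.Agent.H19.Nilp
import Cfsg.Agent.H19.Supersolvable
import Cfsg.Agent.H4.Basic
import Cfsg.Agent.H3.NilpotentHall
import Cfsg.Agent.H44.Cores
import Cfsg.Agent.S0526

/-! Solvable groups all of whose class sizes are square-free. -/

set_option autoImplicit false
set_option linter.style.haveILetI false

namespace Cfsg.Agent.H84

open Subgroup Cfsg.Agent.H83
open scoped commutatorElement

universe u
variable {G : Type u} [Group G]

theorem le_of_relIndex_dvd_prime {p : ℕ} (hp : p.Prime) {M K P : Subgroup G}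
    (h : M.relIndex P ∣ p) (hMK : M ⊓ P ≤ K) {v : G} (hv : v ∈ P) (hvK : v ∈ K) (hvM : v ∉ M) :
    P ≤ K := by
  have h1 := relIndex_mul_relIndex (M ⊓ P) (K ⊓ P) P (le_inf hMK inf_le_right) inf_le_right
  rw [inf_relIndex_right M P, inf_relIndex_right K P] at h1
  rw [← h1] at h
  rcases (Nat.dvd_prime hp).1 (Dvd.dvd.trans (Dvd.intro_left _ rfl) h) with h2 | h2
  · exact relIndex_eq_one.1 h2
  · exfalso
    rw [h2] at h
    have h3 : (M ⊓ P).relIndex (K ⊓ P) = 1 := by
      have : (M ⊓ P).relIndex (K ⊓ P) * p ∣ 1 * p := by rwa [one_mul]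
      exact Nat.dvd_one.1 (Nat.dvd_of_mul_dvd_mul_right hp.pos this)
    exact hvM (relIndex_eq_one.1 h3 (mem_inf.2 ⟨hvK, hv⟩)).1

theorem inf_le_of_relIndex_dvd_prime {p : ℕ} (hp : p.Prime) {M K P : Subgroup G}
    (h : M.relIndex P ∣ p) (hMK : M ⊓ P ≤ K) (hK : ¬ P ≤ K) : K ⊓ P ≤ M := by
  intro v hv
  by_contra hvM
  exact hK (le_of_relIndex_dvd_prime hp h hMK hv.2 hv.1 hvM)

theorem inf_eq_bot_of_card_dvd_prime [Finite G] {p : ℕ} (hp : p.Prime) {A B : Subgroup G}
    (hB : Nat.card B ∣ p) (h : ¬ B ≤ A) : A ⊓ B = ⊥ := by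
  have h1 := (card_dvd_of_le (inf_le_right : A ⊓ B ≤ B)).trans hB
  rcases (Nat.dvd_prime hp).1 h1 with h2 | h2
  · exact card_eq_one.1 h2
  · exfalso
    apply h
    have : A ⊓ B = B := eq_of_le_of_card_ge inf_le_right (h2 ▸ Nat.le_of_dvd hp.pos hB)
    exact this ▸ inf_le_left

theorem commutatorElement_eq_one_iff_mem_cent {a x : G} :
    ⁅a, x⁆ = 1 ↔ x ∈ centralizer ({a} : Set G) := by
  rw [commutatorElement_eq_one_iff_mul_comm, mem_cent, eq_comm]

/-- Rank one dichotomy: if every element of `G` centralises a subgroup of index dividing `p` of the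
normal subgroup `N` and `N` centralises `⁅G, N⁆`, then `⁅G, N⁆` has order dividing `p` or
`N ∩ Z(G)` has index dividing `p` in `N`. -/
theorem rank_one_dichotomy [Finite G] {p : ℕ} (hp : p.Prime) {N : Subgroup G} [hN : N.Normal]
    (hc : ∀ a : G, ∀ x ∈ N, ∀ y ∈ N, x * ⁅a, y⁆ = ⁅a, y⁆ * x)
    (h : ∀ a : G, (centralizer ({a} : Set G)).relIndex N ∣ p) :
    Nat.card (⁅(⊤ : Subgroup G), N⁆ : Subgroup G) ∣ p ∨ (center G).relIndex N ∣ p := by
  let φ : G → (N →* G) := fun a => MonoidHom.mk' (fun x => ⁅a, (x : G)⁆) fun x y => by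
    have := hc a x x.2 y y.2
    simp only [coe_mul]
    calc ⁅a, (x : G) * y⁆ = ⁅a, (x : G)⁆ * (x * ⁅a, (y : G)⁆) * (x : G)⁻¹ := by
          simp only [commutatorElement_def]; group
      _ = _ := by rw [this]; group
  have hφ : ∀ a (x : N), φ a x = ⁅a, (x : G)⁆ := fun _ _ => rfl
  have hker : ∀ a, (φ a).ker = (centralizer ({a} : Set G)).subgroupOf N := fun a => by
    ext x
    rw [MonoidHom.mem_ker, hφ, commutatorElement_eq_one_iff_mem_cent, mem_subgroupOf]
  have hcard : ∀ a, Nat.card (φ a).range ∣ p := fun a => by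
    rw [← index_ker, hker]; exact h a
  have key : ∀ a b, ¬ N ≤ centralizer ({a} : Set G) → (φ a).range ⊓ (φ b).range = ⊥ →
      centralizer ({a} : Set G) ⊓ N ≤ centralizer ({b} : Set G) := by
    intro a b ha hab
    have h1 : ∀ x ∈ centralizer ({a * b} : Set G) ⊓ N,
        x ∈ centralizer ({a} : Set G) ∧ x ∈ centralizer ({b} : Set G) := by
      rintro x ⟨hx1, hx2⟩
      have hx3 : x * (a * b) = a * b * x := mem_cent.1 hx1
      have h2 : ⁅b, x⁆ ∈ (φ a).range ⊓ (φ b).range := by
        refine mem_inf.2 ⟨?_, ⟨⟨x, hx2⟩, rfl⟩⟩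
        have : ⁅b, x⁆ = (φ a ⟨a⁻¹ * x * a⁻¹⁻¹, hN.conj_mem x hx2 a⁻¹⟩)⁻¹ := by
          rw [hφ]
          simp only [commutatorElement_def]
          calc b * x * b⁻¹ * x⁻¹ = a⁻¹ * (a * b * x) * b⁻¹ * x⁻¹ := by group
            _ = _ := by rw [← hx3]; group
        rw [this]
        exact inv_mem ⟨_, rfl⟩
      rw [hab, mem_bot, commutatorElement_eq_one_iff_mem_cent] at h2
      refine ⟨mem_cent.2 ?_, h2⟩
      have h3 := mem_cent.1 h2
      calc x * a = x * (a * b) * b⁻¹ := by group
        _ = a * (b * x) * b⁻¹ := by rw [hx3]; group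
        _ = a * x := by rw [← h3]; group
    intro x hx
    have h2 := inf_le_of_relIndex_dvd_prime hp (h (a * b)) (fun x hx => (h1 x hx).1) ha hx
    exact (h1 x (mem_inf.2 ⟨h2, hx.2⟩)).2
  by_cases h0 : ∀ a : G, N ≤ centralizer ({a} : Set G)
  · right
    have : N ≤ center G := fun x hx => mem_center_iff.2 fun a => (mem_cent.1 (h0 a hx)).symm
    rw [relIndex_eq_one.2 this]; exact one_dvd _
  push Not at h0
  obtain ⟨a, ha⟩ := h0
  by_cases h1 : ∀ b, (φ b).range ≤ (φ a).range
  · left
    refine (card_dvd_of_le ?_).trans (hcard a)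
    exact commutator_le.2 fun b _ x hx => h1 b ⟨⟨x, hx⟩, rfl⟩
  push Not at h1
  obtain ⟨b, hb⟩ := h1
  right
  have h2 := inf_eq_bot_of_card_dvd_prime hp (hcard b) hb
  have h3 := key a b ha h2
  have hb' : ¬ N ≤ centralizer ({b} : Set G) := by
    intro h4
    apply hb
    rintro _ ⟨x, rfl⟩
    rw [hφ, commutatorElement_eq_one_iff_mem_cent.2 (h4 x.2)]
    exact one_mem _
  have h4 : centralizer ({a} : Set G) ⊓ N ≤ center G := by
    intro x hx
    refine mem_center_iff.2 fun c => (mem_cent.1 ?_).symm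
    by_cases hca : (φ c).range ≤ (φ a).range
    · refine key b c hb' ?_ (mem_inf.2 ⟨h3 hx, hx.2⟩)
      rw [eq_bot_iff, ← h2, inf_comm]
      exact inf_le_inf_right _ hca
    · exact key a c ha (inf_eq_bot_of_card_dvd_prime hp (hcard c) hca) hx
  refine Dvd.dvd.trans ?_ (h a)
  rw [← inf_relIndex_right (centralizer _) N]
  exact relIndex_dvd_of_le_left _ h4

theorem relIndex_dvd_prime_of_squarefree [Finite G] {p : ℕ} [hp : Fact p.Prime] {N S : Subgroup G}
    [N.Normal] (hN : IsPGroup p N) (h : Squarefree S.index) : S.relIndex N ∣ p := by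
  obtain ⟨k, hk⟩ := hN.index (S.subgroupOf N)
  have h1 : Squarefree (p ^ k) := by
    rw [← hk]; exact h.squarefree_of_dvd (H19.relIndex_dvd_index_of_normal_right S N)
  change (S.subgroupOf N).index ∣ p
  rw [hk]
  rcases k with _ | k
  · simp
  · have h2 : k + 1 = 1 := ((Nat.squarefree_pow_iff hp.out.ne_one k.succ_ne_zero).1 h1).2
    rw [h2, pow_one]

theorem commutator_le_centralizer_of_cyclic (F : Subgroup G) [hn : F.Normal]
    (h : IsCyclic F) : commutator G ≤ centralizer (F : Set G) := by
  obtain ⟨g, rfl⟩ := (Subgroup.isCyclic_iff_exists_zpowers_eq_top F).1 h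
  rw [zpowers_eq_closure, centralizer_closure]
  exact S0526.commutator_le_centralizer g

theorem map_commutator_of_surjective {H : Type*} [Group H] (f : G →* H)
    (hf : Function.Surjective f) : (commutator G).map f = commutator H := by
  rw [commutator_def, map_commutator, map_top_of_surjective f hf, commutator_def]

theorem isCyclic_of_card_dvd_prime' [Finite G] {p : ℕ} (hp : p.Prime) {N : Subgroup G}
    (h : Nat.card N ∣ p) : IsCyclic N := by
  haveI := Fact.mk hp
  exact isCyclic_of_card_dvd_prime h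

theorem sqfree_quotient (h : ∀ x : G, Squarefree cs(x)) (N : Subgroup G) [N.Normal]
    (x : G ⧸ N) : Squarefree cs(x) := by
  obtain ⟨x, rfl⟩ := QuotientGroup.mk_surjective x
  exact (h x).squarefree_of_dvd (cs_quotient_dvd N x)

theorem commutator_le_centralizer_of_minimal [Finite G] [Group.IsSolvable G]
    (h : ∀ x : G, Squarefree cs(x)) (N : Subgroup G) [N.Normal] (hN : N ≠ ⊥)
    (hmin : ∀ K : Subgroup G, K.Normal → K ≤ N → K = ⊥ ∨ K = N) :
    commutator G ≤ centralizer (N : Set G) := by
  obtain ⟨hc, p, hp, -, -, hNp⟩ := H19.minimal_normal_of_solvable N hN hmin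
  haveI := Fact.mk hp
  have h1 := rank_one_dichotomy hp (N := N) (fun a x hx y hy =>
    setLike_mul_comm hx (commutator_le_right ⊤ N (commutator_mem_commutator (mem_top a) hy)))
    fun a => relIndex_dvd_prime_of_squarefree hNp (h a)
  by_cases h2 : N ≤ center G
  · exact fun x _ y hy => (mem_center_iff.1 (h2 hy) x).symm
  refine commutator_le_centralizer_of_cyclic N (isCyclic_of_card_dvd_prime' hp ?_)
  rcases h1 with h1 | h1
  · rcases hmin ⁅(⊤ : Subgroup G), N⁆ inferInstance (commutator_le_right _ _) with h3 | h3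
    · exfalso
      apply h2
      rw [commutator_comm, commutator_eq_bot_iff_le_centralizer, coe_top, centralizer_univ] at h3
      exact h3
    · rwa [h3] at h1
  · rcases hmin (center G ⊓ N) inferInstance inf_le_right with h3 | h3
    · rwa [← inf_relIndex_right, h3, relIndex_bot_left] at h1
    · exact absurd (h3 ▸ inf_le_left) h2

theorem isNilpotent_commutator_aux (n : ℕ) : ∀ (G : Type u) [Group G] [Finite G]
    [Group.IsSolvable G], Nat.card G = n → (∀ x : G, Squarefree cs(x)) →
    Group.IsNilpotent (commutator G) := by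
  induction n using Nat.strong_induction_on with
  | _ n ih =>
  intro G _ _ _ hn h
  by_cases h0 : (⊤ : Subgroup G) = ⊥
  · haveI : Subsingleton G := subsingleton_iff.1 (subsingleton_iff_bot_eq_top.1 h0.symm)
    infer_instance
  obtain ⟨N, hN, h1, -, hmin⟩ := H19.exists_minimal_normal_le ⊤ h0
  haveI := ih _ (hn ▸ H19.card_quotient_lt h1) (G ⧸ N) rfl (sqfree_quotient h N)
  have h2 := map_commutator_of_surjective (QuotientGroup.mk' N) (QuotientGroup.mk'_surjective N)
  let f : commutator G →* commutator (G ⧸ N) :=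
    ((QuotientGroup.mk' N).comp (commutator G).subtype).codRestrict _ fun x =>
      h2 ▸ mem_map_of_mem _ x.2
  refine Subgroup.isNilpotent_of_ker_le_center f fun x hx => mem_center_iff.2 fun y => Subtype.ext ?_
  have h3 : (x : G) ∈ N := (QuotientGroup.eq_one_iff _).1 (congrArg Subtype.val hx)
  exact (commutator_le_centralizer_of_minimal h N h1 hmin y.2 _ h3).symm

/-- A normal Sylow subgroup `P` centralises `⁅G, P⁆`. -/
theorem commute_commutator_of_normal_sylow [Finite G] {p : ℕ} [hp : Fact p.Prime] (P : Sylow p G)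
    [hP : (P : Subgroup G).Normal]
    (h : ∀ a : G, (centralizer ({a} : Set G)).relIndex P ∣ p) :
    ∀ a : G, ∀ x ∈ (P : Subgroup G), ∀ y ∈ (P : Subgroup G), x * ⁅a, y⁆ = ⁅a, y⁆ * x := by
  have h1 : ∀ a : G, ∀ x ∈ (P : Subgroup G), ∀ y ∈ (P : Subgroup G),
      ⁅x, y⁆ ∈ centralizer ({a} : Set G) := by
    intro a x hx y hy
    have h2 : commutator P ≤ (centralizer ({a} : Set G)).subgroupOf P := by
      rcases (Nat.dvd_prime hp.out).1 (h a) with h3 | h3
      · rw [index_eq_one.1 h3]; exact le_top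
      · obtain ⟨k, hk⟩ := P.isPGroup'.exists_card_eq
        have hk0 : k ≠ 0 := by
          rintro rfl
          have := ((centralizer ({a} : Set G)).subgroupOf P).index_dvd_card
          rw [hk, pow_zero, show ((centralizer ({a} : Set G)).subgroupOf P).index = p from h3] at this
          exact hp.out.one_lt.ne' (Nat.dvd_one.1 this)
        haveI : ((centralizer ({a} : Set G)).subgroupOf P).Normal :=
          normal_of_index_eq_minFac_card (by rw [hk, hp.out.pow_minFac hk0]; exact h3)
        haveI : IsCyclic (P ⧸ (centralizer ({a} : Set G)).subgroupOf P) :=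
          isCyclic_of_prime_card (p := p) h3
        exact Normal.quotient_commutative_iff_commutator_le.mp inferInstance
    exact h2 (commutator_mem_commutator (mem_top (⟨x, hx⟩ : P)) (mem_top (⟨y, hy⟩ : P)))
  by_cases hab : ∀ x ∈ (P : Subgroup G), ∀ y ∈ (P : Subgroup G), x * y = y * x
  · exact fun a x hx y hy =>
      hab x hx _ (commutator_le_right ⊤ _ (commutator_mem_commutator (mem_top a) hy))
  have hpo : ∀ x ∈ (P : Subgroup G), ∀ g : G, (orderOf g).Coprime p →
      (orderOf g).Coprime (orderOf x) := by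
    intro x hx g hg
    obtain ⟨k, hk⟩ := IsPGroup.iff_orderOf.mp P.isPGroup' ⟨x, hx⟩
    rw [← Subgroup.orderOf_coe] at hk
    rw [hk]; exact hg.pow_right k
  have h2 : ∀ g : G, (orderOf g).Coprime p → (P : Subgroup G) ≤ centralizer ({g} : Set G) := by
    intro g hg
    by_contra hg'
    apply hab
    set M := centralizer ({g} : Set G) with hM
    have h3 : ∀ x ∈ M ⊓ P, M ⊓ P ≤ centralizer ({x} : Set G) := by
      intro x hx
      have h4 := cent_mul_of_coprime (x := g) (y := x) (mem_cent.1 hx.1).symm (hpo x hx.2 g hg)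
      have h5 := inf_le_of_relIndex_dvd_prime hp.out (h (g * x))
        (K := M) (by rw [h4]; exact inf_le_left.trans inf_le_left) hg'
      rw [h4] at h5
      exact h5.trans inf_le_right
    have h4 : ∃ v ∈ (P : Subgroup G), v ∉ M ∧ M ⊓ P ≤ centralizer ({v} : Set G) := by
      by_contra h4
      push Not at h4
      apply hg'
      intro u hu
      have hv : ⁅g, u⁆ ∈ (P : Subgroup G) :=
        commutator_le_right ⊤ _ (commutator_mem_commutator (mem_top g) hu)
      have h5 : ⁅g, u⁆ ∈ M := by
        by_contra h5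
        refine h4 _ hv h5 fun m hm => mem_cent.2 ?_
        have h6 : u⁻¹ * m * u ∈ M := by
          have : u⁻¹ * m * u = ⁅u⁻¹, m⁆ * m := by simp only [commutatorElement_def]; group
          rw [this]
          exact mul_mem (h1 g _ (inv_mem hu) _ hm.2) hm.1
        have h7 := mem_cent.1 (inv_mem h6)
        have h8 := mem_cent.1 hm.1
        have h9 : g⁻¹ * (u⁻¹ * m * u) = (u⁻¹ * m * u) * g⁻¹ :=
          (Commute.inv_right (mem_cent.1 h6)).eq.symm
        calc m * ⁅g, u⁆ = (m * g) * u * g⁻¹ * u⁻¹ := by simp only [commutatorElement_def]; group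
          _ = g * u * ((u⁻¹ * m * u) * g⁻¹) * u⁻¹ := by rw [h8]; group
          _ = _ := by rw [← h9]; simp only [commutatorElement_def]; group
      have h6 : ∀ k : ℕ, g ^ k * u * (g ^ k)⁻¹ = ⁅g, u⁆ ^ k * u := by
        intro k
        induction k with
        | zero => simp
        | succ k ih =>
          have h7 : g * ⁅g, u⁆ ^ k = ⁅g, u⁆ ^ k * g :=
            (Commute.pow_right (mem_cent.1 h5).symm k).eq
          calc g ^ (k + 1) * u * (g ^ (k + 1))⁻¹ = g * (g ^ k * u * (g ^ k)⁻¹) * g⁻¹ := by group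
            _ = ⁅g, u⁆ ^ k * (g * u * g⁻¹) := by rw [ih, ← mul_assoc g, h7]; group
            _ = _ := by rw [pow_succ]; simp only [commutatorElement_def]; group
      have h7 := h6 (orderOf g)
      rw [pow_orderOf_eq_one, one_mul, inv_one, mul_one, eq_comm, mul_eq_right] at h7
      have h8 := (hpo _ hv g hg).symm.eq_one_of_dvd (orderOf_dvd_of_pow_eq_one h7)
      exact commutatorElement_eq_one_iff_mem_cent.1 (orderOf_eq_one_iff.1 h8)
    obtain ⟨v, hv, hvM, h4⟩ := h4
    have h5 : (P : Subgroup G) ≤ centralizer ({v} : Set G) :=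
      le_of_relIndex_dvd_prime hp.out (h g) h4 hv (self_mem_cent v) hvM
    have h6 : ∀ m ∈ M ⊓ P, (P : Subgroup G) ≤ centralizer ({m} : Set G) := fun m hm =>
      le_of_relIndex_dvd_prime hp.out (h g) (h3 m hm) hv (mem_cent_comm.1 (h4 hm)) hvM
    intro x hx y hy
    exact mem_cent.1 (le_of_relIndex_dvd_prime hp.out (h g)
      (fun m hm => mem_cent_comm.1 (h6 m hm hy)) hv (mem_cent_comm.1 (h5 hy)) hvM hx)
  intro a x hx y hy
  obtain ⟨b, c, -, -, ⟨k, hk⟩, hc, rfl⟩ := H3.exists_p_part (p := p) a
  have hb : b ∈ (P : Subgroup G) := by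
    have h3 : IsPGroup p (zpowers b) := by
      obtain ⟨j, -, hj⟩ := (Nat.dvd_prime_pow hp.out).1 (orderOf_dvd_of_pow_eq_one hk)
      exact IsPGroup.of_card (n := j) (by rw [Nat.card_zpowers, hj])
    obtain ⟨Q, hQ⟩ := h3.exists_le_sylow
    haveI := Sylow.unique_of_normal P hP
    rw [Subsingleton.elim P Q]
    exact hQ (mem_zpowers b)
  have h3 : ⁅b * c, y⁆ = ⁅b, y⁆ := by
    have := mem_cent.1 (h2 c hc hy)
    simp only [commutatorElement_def]
    calc b * c * y * (b * c)⁻¹ * y⁻¹ = b * (c * y) * c⁻¹ * b⁻¹ * y⁻¹ := by group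
      _ = _ := by rw [← this]; group
  rw [h3]
  exact (mem_cent.1 (h1 x b hb y hy)).symm

theorem eq_one_of_central_of_abelian_sylow [Finite G] {p : ℕ} [Fact p.Prime] (P : Sylow p G)
    (hP : ∀ x ∈ (P : Subgroup G), ∀ y ∈ (P : Subgroup G), x * y = y * x) {z : G}
    (hz : z ∈ (P : Subgroup G)) (hzc : z ∈ center G) (hzG : z ∈ commutator G) : z = 1 := by
  haveI : IsMulCommutative P := ⟨⟨fun a b => Subtype.ext (hP a a.2 b b.2)⟩⟩
  exact H4.eq_one_of_mem_commutator_of_abelian_sylow P hz
    (fun g _ => mem_center_iff.1 hzc g) hzG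

theorem card_commutator_dvd_prime [Finite G] {p : ℕ} [hp : Fact p.Prime]
    (h : ∀ x : G, Squarefree cs(x)) (hD : IsPGroup p (commutator G)) :
    Nat.card (commutator G) ∣ p := by
  obtain ⟨P, hP⟩ := hD.exists_le_sylow
  haveI hPn : (P : Subgroup G).Normal := Normal.of_commutator_le G hP
  have h1 : ∀ a : G, (centralizer ({a} : Set G)).relIndex P ∣ p := fun a =>
    relIndex_dvd_prime_of_squarefree P.isPGroup' (h a)
  rcases rank_one_dichotomy hp.out (commute_commutator_of_normal_sylow P h1) h1 with h2 | h2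
  · refine (card_dvd_of_le fun z hz => ?_).trans h2
    set L := ⁅(⊤ : Subgroup G), (P : Subgroup G)⁆ with hL
    have hs := QuotientGroup.mk'_surjective L
    have h3 : (P.mapSurjective hs : Subgroup (G ⧸ L)) ≤ center (G ⧸ L) := by
      rintro _ ⟨x, hx, rfl⟩
      refine mem_center_iff.2 fun g => ?_
      obtain ⟨g, rfl⟩ := hs g
      rw [← commutatorElement_eq_one_iff_mul_comm, ← map_commutatorElement]
      exact (QuotientGroup.eq_one_iff _).2 (commutator_mem_commutator (mem_top g) hx)
    have h4 : QuotientGroup.mk' L z ∈ (P.mapSurjective hs : Subgroup (G ⧸ L)) :=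
      mem_map_of_mem _ (hP hz)
    exact (QuotientGroup.eq_one_iff _).1 (eq_one_of_central_of_abelian_sylow (P.mapSurjective hs)
      (fun x _ y hy => mem_center_iff.1 (h3 hy) x) h4 (h3 h4)
      (map_commutator_of_surjective _ hs ▸ mem_map_of_mem _ hz))
  · have h3 : ∀ x ∈ (P : Subgroup G), ∀ y ∈ (P : Subgroup G), x * y = y * x := by
      intro x hx y hy
      by_cases h4 : y ∈ center G
      · exact mem_center_iff.1 h4 x
      · exact mem_cent.1 (le_of_relIndex_dvd_prime hp.out h2 (K := centralizer {y})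
          (fun m hm => mem_cent.2 (mem_center_iff.1 hm.1 y).symm) hy (self_mem_cent y) h4 hx)
    have h4 : center G ⊓ commutator G = ⊥ := eq_bot_iff.2 fun z hz =>
      eq_one_of_central_of_abelian_sylow P h3 (hP hz.2) hz.1 hz.2
    refine Dvd.dvd.trans ?_ h2
    rw [← relIndex_bot_left, ← h4, inf_relIndex_right, ← QuotientGroup.ker_mk' (center G),
      relIndex_ker, relIndex_ker]
    exact card_dvd_of_le (map_mono hP)

theorem squarefree_card_commutator [Finite G] [Group.IsSolvable G]
    (h : ∀ x : G, Squarefree cs(x)) : Squarefree (Nat.card (commutator G)) := by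
  haveI := isNilpotent_commutator_aux _ G rfl h
  refine Nat.squarefree_iff_prime_squarefree.2 fun p hp hd => ?_
  haveI := Fact.mk hp
  have h1 := H3.hasNormalPComplement_iff_coprime.1
    (H3.hasNormalPComplement_of_isNilpotent (p := p) (G := commutator G))
  obtain ⟨k, hk⟩ := H3.exists_index_pResidual_eq_pow (p := p) (G := commutator G)
  set R := pResidual p (commutator G) with hR
  set O := R.map (commutator G).subtype with hO
  haveI : O.Normal := inferInstance
  have h2 := map_commutator_of_surjective _ (QuotientGroup.mk'_surjective O)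
  have h3 : Nat.card (commutator (G ⧸ O)) = R.index := by
    rw [← h2, ← relIndex_ker, QuotientGroup.ker_mk', relIndex, subgroupOf,
      comap_map_eq_self_of_injective (subtype_injective _)]
  have h4 := card_commutator_dvd_prime (sqfree_quotient h O) (IsPGroup.of_card (h3.trans hk))
  rw [h3] at h4
  rw [← R.card_mul_index] at hd
  have h5 := (Nat.Coprime.mul_right h1 h1).symm.dvd_of_dvd_mul_left hd
  have := Nat.le_of_dvd hp.pos (h5.trans h4)
  have := hp.two_le
  nlinarith

theorem isCyclic_commutator_of_squarefree [Finite G] [Group.IsSolvable G]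
    (h : ∀ x : G, Squarefree cs(x)) : IsCyclic (commutator G) := by
  haveI := isNilpotent_commutator_aux _ G rfl h
  haveI := IsZGroup.of_squarefree (squarefree_card_commutator h)
  infer_instance

/-- A proper subgroup of a cyclic subgroup of square-free order misses an element of prime order. -/
theorem exists_prime_order_not_mem [Finite G] {D K : Subgroup G} (hD : Squarefree (Nat.card D))
    (h : ¬ D ≤ K) : ∃ p : ℕ, p.Prime ∧ ∃ u ∈ D, orderOf u = p ∧ u ∉ K := by
  have h1 : K.relIndex D ≠ 1 := fun h1 => h (relIndex_eq_one.1 h1)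
  obtain ⟨p, hp, hd⟩ := Nat.exists_prime_and_dvd h1
  haveI := Fact.mk hp
  obtain ⟨u, hu⟩ := exists_prime_orderOf_dvd_card' (G := D) p (hd.trans (relIndex_dvd_card _ _))
  refine ⟨p, hp, u, u.2, by rw [Subgroup.orderOf_coe, hu], fun h2 => ?_⟩
  have h3 : p ∣ Nat.card (K.subgroupOf D) := hu ▸ orderOf_dvd_natCard _ (mem_subgroupOf.2 h2)
  rw [← (K.subgroupOf D).card_mul_index] at hD
  exact Nat.squarefree_iff_prime_squarefree.1 hD p hp (Nat.mul_dvd_mul h3 hd)

theorem fitting_eq_centralizer_commutator [Finite G] (hc : IsCyclic (commutator G))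
    (hs : Squarefree (Nat.card (commutator G))) :
    fittingSubgroup G = centralizer (commutator G : Set G) := by
  haveI := H44.fitting_characteristic (G := G)
  apply le_antisymm
  · rw [le_centralizer_iff]
    by_contra h1
    obtain ⟨p, hp, u, hu, ho, h2⟩ := exists_prime_order_not_mem hs h1
    haveI : (zpowers u).Normal := H19.normal_of_le_isCyclic (zpowers_le.2 hu)
    haveI := Fact.mk hp
    apply h2
    have h3 := H19.nilpotent_le_centralizer_minimal_normal (B := zpowers u)
      (H44.fitting_isNilpotent (G := G)) fun K _ hK => by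
        by_cases h4 : zpowers u ≤ K
        · exact Or.inr (le_antisymm hK h4)
        · left
          rw [← inf_eq_left.2 hK]
          exact inf_eq_bot_of_card_dvd_prime hp (by rw [Nat.card_zpowers, ho]) h4
    exact le_centralizer_iff.1 h3 (mem_zpowers u)
  · refine H44.le_fitting inferInstance ⟨2, ?_⟩
    refine eq_top_iff.2 fun x _ => Subgroup.mem_upperCentralSeries_succ_iff.2 fun y => ?_
    rw [Subgroup.upperCentralSeries_one]
    refine mem_center_iff.2 fun z => Subtype.ext ?_
    exact (z.2 _ (commutator_mem_commutator (mem_top (x : G)) (mem_top (y : G)))).symm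

end Cfsg.Agent.H84
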