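import Cfsg.Agent.H84.Kegel
import Cfsg.Agent.S0078
import Cfsg.Agent.S0556
import Cfsg.Agent.H2.Basic

set_option autoImplicit false
set_option linter.style.haveILetI false

/-! The Deskins-Janko-Thompson theorem on nilpotent maximal subgroups. -/

namespace Cfsg.Agent.H84

open Subgroup Cfsg.Agent.H4

universe u

variable {G : Type u} [Group G]

theorem le_centralizer_of_sylowIn_nilpotent [Finite G] {M Q : Subgroup G} [Group.IsNilpotent M]
    {p : ℕ} [Fact p.Prime] (hQ : IsSylowIn p Q M) {D : Subgroup G} (hDQ : D ≤ Q)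
    (h : Q ≤ normalizer (D : Set G)) : M ≤ normalizer (D : Set G) := by
  intro m hm
  obtain ⟨k, l, hl, hkl⟩ := Nat.exists_eq_pow_mul_and_not_dvd (orderOf_pos m).ne' p
    (Nat.Prime.ne_one Fact.out)
  have hc : (p ^ k).Coprime l := ((Nat.Prime.coprime_iff_not_dvd Fact.out).2 hl).pow_left k
  have h1 : m ^ l ∈ Q := by
    have h2 : IsPGroup p (zpowers (m ^ l)) := by
      rw [IsPGroup.iff_card]
      refine ⟨k, ?_⟩
      rw [Nat.card_zpowers, orderOf_pow_of_dvd (by rintro rfl; simp at hl) (Dvd.intro_left _ hkl.symm),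
        hkl, Nat.mul_div_cancel _ (Nat.pos_of_ne_zero (by rintro rfl; simp at hl))]
    obtain ⟨g, hg, hc⟩ := hQ.exists_conj h2 (zpowers_le.2 (pow_mem hm l))
    exact (mem_normalizer_iff.1 (le_normalizer_of_sylowIn_nilpotent hQ hg) _).2
      (hc _ (mem_zpowers _))
  have h2 : m ^ (p ^ k) ∈ normalizer (D : Set G) := by
    apply centralizer_le_normalizer
    intro d hd
    obtain ⟨j, hj⟩ := IsPGroup.iff_orderOf.1 hQ.isPGroup ⟨d, hDQ hd⟩
    have := H3.commute_of_coprime_orderOf (⟨d, hQ.le (hDQ hd)⟩ : M) ⟨_, pow_mem hm (p ^ k)⟩ (by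
      rw [← orderOf_coe, ← orderOf_coe]
      rw [← orderOf_coe] at hj
      rw [hj]
      refine Nat.Coprime.pow_left _ (Nat.Coprime.coprime_dvd_right (orderOf_dvd_of_pow_eq_one ?_)
        ((Nat.Prime.coprime_iff_not_dvd Fact.out).2 hl))
      rw [← pow_mul, ← hkl, pow_orderOf_eq_one])
    exact congrArg Subtype.val this
  have h3 := Nat.gcd_eq_gcd_ab (p ^ k) l
  rw [hc.gcd_eq_one] at h3
  rw [← zpow_one m, ← Nat.cast_one, h3, zpow_add, zpow_mul, zpow_mul, zpow_natCast, zpow_natCast]
  exact mul_mem (zpow_mem h2 _) (zpow_mem (h h1) _)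

theorem center_inf_ne_bot [Finite G] {M : Subgroup G} [Group.IsNilpotent M] (h : M ≠ ⊥) :
    M ⊓ centralizer (M : Set G) ≠ ⊥ := by
  haveI : Nontrivial M := (nontrivial_iff_ne_bot M).2 h
  obtain ⟨⟨z, hz⟩, hz1⟩ := ne_bot_iff_exists_ne_one.1 (Group.IsNilpotent.center_ne_bot M)
  refine ne_bot_iff_exists_ne_one.2 ⟨⟨z, z.2, fun g hg => ?_⟩, fun h => hz1 ?_⟩
  · exact congrArg Subtype.val (mem_center_iff.1 hz ⟨g, hg⟩)
  · have h' : (z : G) = 1 := congrArg Subtype.val h
    exact Subtype.ext (Subtype.ext h')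

theorem nilmax_aux (n : ℕ) : ∀ (G : Type u) [Group G] [Finite G], Nat.card G = n →
    ∀ (M Q : Subgroup G), IsCoatom M → Group.IsNilpotent M → IsSylowIn 2 Q M →
      ⁅⁅Q, Q⁆, Q⁆ = ⊥ → Group.IsSolvable G := by
  induction n using Nat.strong_induction_on with
  | _ n ih =>
  intro G _ _ hn M Q hM hnil hQ hcl
  haveI : Fact (Nat.Prime 2) := ⟨Nat.prime_two⟩
  by_cases hcore : ∃ N : Subgroup G, N.Normal ∧ N ≠ ⊥ ∧ N ≤ M
  · obtain ⟨N, hN, hN0, hNM⟩ := hcore
    haveI := ih _ (hn ▸ H19.card_quotient_lt hN0) (G ⧸ N) rfl (M.map (QuotientGroup.mk' N))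
      (Q.map (QuotientGroup.mk' N)) (H2.isCoatom_map_of_surjective (QuotientGroup.mk'_surjective N)
        hM (by rwa [QuotientGroup.ker_mk']))
      (Group.nilpotent_of_surjective _ (MonoidHom.subgroupMap_surjective _ M))
      (isSylowIn_map _ hQ) (by rw [← map_commutator, ← map_commutator, hcl, Subgroup.map_bot])
    haveI : Group.IsSolvable N :=
      Group.isSolvable_of_isSolvable_injective (inclusion_injective hNM)
    exact Group.isSolvable_of_ker_le_range N.subtype (QuotientGroup.mk' N) (by simp)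
  have hnorm : ∀ X : Subgroup G, X ≠ ⊥ → X ≤ M → M ≤ normalizer (X : Set G) →
      normalizer (X : Set G) = M := by
    intro X hX hXM hMX
    by_contra h
    exact hcore ⟨X, normalizer_eq_top_iff.1 (hM.2 _ (lt_of_le_of_ne hMX (Ne.symm h))), hX, hXM⟩
  by_cases hM0 : M = ⊥
  · subst hM0
    exact ⟨⟨3, S0556.result ⊥ hM⟩⟩
  have hsyl : ∀ (p : ℕ) [Fact p.Prime] (P : Subgroup G), IsSylowIn p P M → P ≠ ⊥ →
      ∃ S : Sylow p G, (S : Subgroup G) = P := by
    intro p _ P hP hP0
    obtain ⟨S, hS⟩ := hP.isPGroup.exists_le_sylow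
    refine ⟨S, ?_⟩
    by_contra h
    have h1 := lt_inf_normalizer S.isPGroup' (lt_of_le_of_ne hS (Ne.symm h))
    rw [hnorm P hP0 hP.le (le_normalizer_of_sylowIn_nilpotent hP)] at h1
    exact h1.ne (hP.eq_of_le S.isPGroup'.to_inf_left inf_le_right h1.le).symm
  have hne : ∀ (p : ℕ) [Fact p.Prime] (P : Subgroup G), IsSylowIn p P M → p ∣ Nat.card M →
      P ≠ ⊥ := by
    rintro p _ P hP hp rfl
    exact hP.not_dvd (by rwa [relIndex_bot_left])
  have hHall : (Nat.card M).Coprime M.index := by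
    apply Nat.coprime_of_dvd
    intro p hp hpM hpi
    haveI := Fact.mk hp
    obtain ⟨P, hP, -⟩ := IsSylowIn.exists_le (p := p) IsPGroup.of_bot (bot_le (a := M))
    obtain ⟨S, rfl⟩ := hsyl p P hP (hne p P hP hpM)
    exact S.not_dvd_index (hpi.trans (index_dvd_of_le hP.le))
  have hcomp : ∀ p : ℕ, p.Prime → p ∣ Nat.card M → HasNormalPComplement p G := by
    intro p hp hpM
    haveI := Fact.mk hp
    by_cases hp2 : p = 2
    · subst hp2
      have hQ0 := hne 2 Q hQ hpM
      obtain ⟨S, rfl⟩ := hsyl 2 Q hQ hQ0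
      haveI := S.isPGroup'.isNilpotent
      have hZ0 := center_inf_ne_bot hQ0
      have hZN : ∀ T : Subgroup G,
          T ≤ normalizer ((T ⊓ centralizer (T : Set G) : Subgroup G) : Set G) := fun T t ht =>
        centralizer_le_normalizer _ fun z hz => (hz.2 t ht).symm
      have hNZ := hnorm _ hZ0 (inf_le_left.trans hQ.le)
        (le_centralizer_of_sylowIn_nilpotent hQ inf_le_left (hZN _))
      have hcl' : ∀ (T : Subgroup G), ⁅⁅T, T⁆, T⁆ = ⊥ → ∀ D : Subgroup G,
          T ⊓ centralizer (T : Set G) ≤ D → D ≤ T → T ≤ normalizer (D : Set G) := by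
        intro T hT D h1 h2
        rw [le_normalizer_iff_commutator_le_right]
        refine (commutator_mono le_rfl h2).trans (le_trans (le_inf (commutator_le_self _ ) ?_) h1)
        exact commutator_eq_bot_iff_le_centralizer.1 hT
      have huniq : ∀ T : Sylow 2 G, (S : Subgroup G) ⊓ centralizer (S : Set G) ≤ T → T = S := by
        intro T hT
        obtain ⟨g, hg⟩ := MulAction.exists_smul_eq G S T
        have hTcl : ⁅⁅(T : Subgroup G), (T : Subgroup G)⁆, (T : Subgroup G)⁆ = ⊥ := by
          rw [← hg, coe_sylow_smul, ← map_commutator, ← map_commutator, hcl, Subgroup.map_bot]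
        have h1 : (T : Subgroup G) ⊓ centralizer (T : Set G) ≤ S := by
          have h2 : (T : Subgroup G) ⊓ centralizer (T : Set G) ≤ M := by
            rw [← hNZ]
            exact inf_le_right.trans ((centralizer_le hT).trans (centralizer_le_normalizer _))
          intro x hx
          obtain ⟨g, hg, hc⟩ := hQ.exists_conj T.isPGroup'.to_inf_left h2
          exact (mem_normalizer_iff.1 (le_normalizer_of_sylowIn_nilpotent hQ hg) _).2 (hc _ hx)
        have h3 := hnorm ((S : Subgroup G) ⊓ T) (fun h => hZ0 (eq_bot_iff.2 (h ▸ le_inf inf_le_left hT)))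
          (inf_le_left.trans hQ.le) (le_centralizer_of_sylowIn_nilpotent hQ inf_le_left
            (hcl' _ hcl _ (le_inf inf_le_left hT) inf_le_left))
        have h4 := hcl' _ hTcl ((S : Subgroup G) ⊓ T) (le_inf h1 inf_le_left) inf_le_right
        rw [h3] at h4
        have h5 : (T : Subgroup G) ≤ S := by
          intro x hx
          obtain ⟨g, hg, hc⟩ := hQ.exists_conj T.isPGroup' h4
          exact (mem_normalizer_iff.1 (le_normalizer_of_sylowIn_nilpotent hQ hg) _).2 (hc _ hx)
        exact Sylow.ext (T.is_maximal' S.isPGroup' h5).symm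
      have h6 := S0078.result S (fun T hT => by rw [huniq T hT]) M hNZ.le
      rw [H3.hasNormalPComplement_iff_inf_eq_bot S, h6]
      apply H3.inf_eq_bot_of_isPGroup_of_coprime S.isPGroup'
      rw [card_map_of_injective M.subtype_injective]
      exact H3.hasNormalPComplement_iff_coprime.1 H3.hasNormalPComplement_of_isNilpotent
    · obtain ⟨P, hP, -⟩ := IsSylowIn.exists_le (p := p) IsPGroup.of_bot (bot_le (a := M))
      have hP0 := hne p P hP hpM
      obtain ⟨S, rfl⟩ := hsyl p P hP hP0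
      rw [S0117.result hp2 S, hnorm _ (centerThompsonOf_ne_bot S.isPGroup' hP0)
        ((centerThompsonOf_le p _).trans hP.le) ((le_normalizer_of_sylowIn_nilpotent hP).trans
          (normalizer_le_normalizer_centerThompsonOf p _))]
      exact H3.hasNormalPComplement_of_isNilpotent
  obtain ⟨N, hN, hNM⟩ := H3.exists_normal_complement_of_forall_hasNormalPComplement M hHall hcomp
  obtain ⟨p, hp, x, hx, hxp⟩ := H2.exists_mem_prime_orderOf (center_inf_ne_bot hM0)
  have hx1 : x ≠ 1 := by
    rintro rfl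
    rw [orderOf_one] at hxp
    exact hp.ne_one hxp.symm
  have hC := hnorm (zpowers x) (zpowers_ne_bot.2 hx1) (zpowers_le.2 hx.1) fun m hm =>
    centralizer_le_normalizer _ (by
      rintro _ ⟨k, rfl⟩
      exact (Commute.zpow_right (hx.2 m hm) k).symm)
  have hfpf : MonoidHom.FixedPointFree ((MulAut.conjNormal x : N ≃* N) : N →* N) := by
    intro k hk
    have h3 : x * k * x⁻¹ = k := congrArg Subtype.val hk
    have h4 : (k : G) ∈ M := by
      rw [← hC]
      apply centralizer_le_normalizer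
      rintro _ ⟨j, rfl⟩
      exact Commute.zpow_left (mul_inv_eq_iff_eq_mul.1 h3) j
    have := hNM.disjoint.eq_bot ▸ mem_inf.2 ⟨k.2, h4⟩
    exact Subtype.ext this
  haveI : Group.IsSolvable N := by
    by_cases hN0 : N = ⊥
    · subst hN0
      infer_instance
    haveI := S0033.result (MulAut.conjNormal x : N ≃* N) hfpf p hp (by
      haveI := Fact.mk hp
      exact orderOf_eq_prime (by rw [← map_pow, ← hxp, pow_orderOf_eq_one, map_one]) (by
        intro h'
        obtain ⟨k, hk⟩ := ne_bot_iff_exists_ne_one.1 hN0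
        exact hk (hfpf k (by rw [h']; rfl))))
    infer_instance
  haveI : Group.IsSolvable (G ⧸ N) := Group.isSolvable_of_surjective
    (f := (QuotientGroup.mk' N).comp M.subtype) (by
      intro g
      obtain ⟨g, rfl⟩ := QuotientGroup.mk'_surjective N g
      obtain ⟨⟨a, b⟩, h⟩ := hNM.2 g
      refine ⟨b, ?_⟩
      rw [← h]
      simp [(QuotientGroup.eq_one_iff (a : G)).2 a.2])
  exact Group.isSolvable_of_ker_le_range N.subtype (QuotientGroup.mk' N) (by simp)

/-- **Deskins-Janko-Thompson** -/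
theorem isSolvable_of_nilpotent_coatom [Finite G] {M Q : Subgroup G} (hM : IsCoatom M)
    (hnil : Group.IsNilpotent M) (hQ : IsSylowIn 2 Q M) (hcl : ⁅⁅Q, Q⁆, Q⁆ = ⊥) :
    Group.IsSolvable G :=
  nilmax_aux _ G rfl M Q hM hnil hQ hcl

theorem isSolvable_of_nilpotent_coatom_odd [Finite G] {M : Subgroup G} (hM : IsCoatom M)
    (hnil : Group.IsNilpotent M) (hodd : Odd (Nat.card M)) : Group.IsSolvable G :=
  isSolvable_of_nilpotent_coatom (Q := ⊥) hM hnil ⟨bot_le, IsPGroup.of_bot, by
    rw [relIndex_bot_left]; exact hodd.not_two_dvd_nat⟩ (by simp)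

end Cfsg.Agent.H84
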