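import Cfsg.Agent.S0033
import Cfsg.Agent.S0117
import Cfsg.Agent.H4.Basic
import Cfsg.Agent.H4.ZJe
import Cfsg.Agent.H2.MinNormal
import Cfsg.Agent.H3.NilpotentHall
import Cfsg.Agent.H19.Basic

set_option autoImplicit false
set_option linter.style.haveILetI false

/-! The Hughes-Thompson-Kegel theorem: if all elements outside a proper normal subgroup `N` have
order `p`, then `N` is nilpotent. -/

namespace Cfsg.Agent.H84

open Subgroup Cfsg.Agent.H4
open scoped IsMulCommutative

universe u

variable {G : Type u} [Group G]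

theorem mul_pow_eq_prod_conj (V : Subgroup G) [V.Normal] [IsMulCommutative V] (v : V) (y : G)
    (n : ℕ) : ((v : G) * y) ^ n =
      ((∏ i ∈ Finset.range n, MulAut.conjNormal (y ^ i) v : V) : G) * y ^ n := by
  induction n with
  | zero => simp
  | succ n ih =>
    rw [pow_succ, ih, Finset.prod_range_succ, coe_mul, MulAut.conjNormal_apply, pow_succ]
    group

theorem eq_of_pow_eq_pow_prime {p i : ℕ} (hp : p.Prime) (hi : ¬ p ∣ i) {a b : G} (ha : a ^ p = 1)
    (hb : b ^ p = 1) (h : a ^ i = b ^ i) : a = b := by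
  obtain ⟨j, -, hj⟩ := Nat.exists_mul_mod_eq_one_of_coprime
    ((Nat.Prime.coprime_iff_not_dvd hp).2 hi).symm hp.one_lt
  have h1 : ∀ c : G, c ^ p = 1 → c = (c ^ i) ^ j := fun c hc => by
    rw [← pow_mul, pow_eq_pow_mod _ hc, hj, pow_one]
  rw [h1 a ha, h, ← h1 b hb]

/-- The averaging lemma. -/
theorem centralizes_of_coset_pow [Finite G] {p : ℕ} (hp : p.Prime) (V : Subgroup G) [V.Normal]
    [IsMulCommutative V] (F : Subgroup G) (x : G) (hx : x ∈ normalizer (F : Set G))
    (h : ∀ v ∈ V, ∀ f ∈ F, (v * (x * f)) ^ p = 1) (hc : (Nat.card F).Coprime (Nat.card V)) :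
    ∀ v ∈ V, ∀ f ∈ F, f * v = v * f := by
  classical
  haveI := Fintype.ofFinite F
  have h1 : ∀ f ∈ F, (x * f) ^ p = 1 := fun f hf => by simpa using h 1 (one_mem _) f hf
  have h2 : ∀ (v : V) (f : F), ∏ i ∈ Finset.range p, MulAut.conjNormal ((x * f) ^ i) v = 1 := by
    intro v f
    have := mul_pow_eq_prod_conj V v (x * f) p
    rw [h v v.2 f f.2, h1 f f.2, mul_one] at this
    exact Subtype.ext this.symm
  have h3 : ∀ (i : ℕ) (f : F), (x ^ i)⁻¹ * (x * f) ^ i ∈ F := by
    intro i f
    induction i with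
    | zero => simp
    | succ i ih =>
      have : (x ^ (i + 1))⁻¹ * (x * f) ^ (i + 1) = x⁻¹ * ((x ^ i)⁻¹ * (x * f) ^ i) * x⁻¹⁻¹ * f := by
        rw [pow_succ, pow_succ]; group
      rw [this]
      exact mul_mem ((mem_normalizer_iff.1 (inv_mem hx) _).1 ih) f.2
  have h4 : ∀ v : V, ∏ f : F, MulAut.conjNormal (f : G) v = v ^ Nat.card F := by
    intro v
    obtain ⟨m, rfl⟩ : ∃ m, p = m + 1 := ⟨p - 1, by have := hp.pos; omega⟩
    have h5 : ∀ i ∈ Finset.range m, ∏ f : F, MulAut.conjNormal ((x * f) ^ (i + 1)) v =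
        MulAut.conjNormal (x ^ (i + 1)) (∏ f : F, MulAut.conjNormal (f : G) v) := by
      intro i hi
      let e : F → F := fun f => ⟨_, h3 (i + 1) f⟩
      have he : Function.Bijective e := by
        apply Finite.injective_iff_bijective.1
        intro a b hab
        have := mul_left_cancel (congrArg Subtype.val hab)
        have := eq_of_pow_eq_pow_prime hp (Nat.not_dvd_of_pos_of_lt (Nat.succ_pos i)
          (by have := Finset.mem_range.1 hi; omega)) (h1 a a.2) (h1 b b.2) this
        exact Subtype.ext (mul_left_cancel this)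
      rw [map_prod, ← he.prod_comp (fun f : F =>
        MulAut.conjNormal (x ^ (i + 1)) (MulAut.conjNormal (f : G) v))]
      refine Finset.prod_congr rfl fun f _ => ?_
      rw [← MulAut.mul_apply, ← map_mul, mul_inv_cancel_left]
    have h6 : ∏ i ∈ Finset.range (m + 1), ∏ f : F, MulAut.conjNormal ((x * f) ^ i) v = 1 := by
      rw [Finset.prod_comm]
      simp only [h2, Finset.prod_const_one]
    have h7 := h2 (∏ f : F, MulAut.conjNormal (f : G) v) 1
    rw [Finset.prod_range_succ', Finset.prod_congr rfl h5] at h6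
    simp only [OneMemClass.coe_one, mul_one] at h7
    rw [Finset.prod_range_succ', ← h6] at h7
    have h8 := mul_left_cancel h7
    simpa using h8
  intro v hv f hf
  obtain ⟨w, hw⟩ := (powCoprime (G := V) hc.symm).surjective ⟨v, hv⟩
  rw [powCoprime_apply, ← h4] at hw
  have h9 : MulAut.conjNormal f (⟨v, hv⟩ : V) = ⟨v, hv⟩ := by
    rw [← hw, map_prod, ← Equiv.prod_comp (Equiv.mulLeft (⟨f, hf⟩ : F))
      (fun g : F => MulAut.conjNormal (g : G) w)]
    refine Finset.prod_congr rfl fun g _ => ?_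
    rw [← MulAut.mul_apply, ← map_mul]
    rfl
  have := congrArg Subtype.val h9
  rw [MulAut.conjNormal_apply] at this
  exact mul_inv_eq_iff_eq_mul.1 this

theorem isNilpotent_of_forall_sylowIn [Finite G] (N : Subgroup G)
    (h : ∀ r : ℕ, r.Prime → ∃ R, IsSylowIn r R N ∧ N ≤ normalizer (R : Set G)) :
    Group.IsNilpotent N := by
  refine ((Group.isNilpotent_of_finite_tfae (G := N)).out 0 3 rfl rfl).2 fun r hr S => ?_
  obtain ⟨R, hR, hN⟩ := h r hr.out
  have h1 : (hR.toSylow : Subgroup N).Normal := by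
    rw [hR.coe_toSylow]
    exact (normal_subgroupOf_iff_le_normalizer hR.le).2 hN
  haveI := Sylow.unique_of_normal _ h1
  rwa [Subsingleton.elim S hR.toSylow]

theorem le_normalizer_of_sylowIn_nilpotent [Finite G] {N R : Subgroup G} [Group.IsNilpotent N]
    {r : ℕ} [Fact r.Prime] (hR : IsSylowIn r R N) : N ≤ normalizer (R : Set G) := by
  have : (hR.toSylow : Subgroup N).Normal := inferInstance
  rw [hR.coe_toSylow] at this
  exact (normal_subgroupOf_iff_le_normalizer hR.le).1 this

theorem isSylowIn_map {G' : Type*} [Group G'] [Finite G] (f : G →* G') {N R : Subgroup G}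
    {r : ℕ} [Fact r.Prime] (hR : IsSylowIn r R N) : IsSylowIn r (R.map f) (N.map f) := by
  refine ⟨map_mono hR.le, hR.isPGroup.map f, fun h => hR.not_dvd (h.trans ?_)⟩
  have := index_map_dvd (R.subgroupOf N) (f.subgroupMap_surjective N)
  refine dvd_trans (dvd_of_eq ?_) this
  rw [relIndex]
  congr 1
  ext ⟨y, hy⟩
  constructor
  · rintro ⟨z, hz, rfl⟩
    exact ⟨⟨z, hR.le hz⟩, hz, rfl⟩
  · rintro ⟨z, hz, h⟩
    exact ⟨z, hz, congrArg Subtype.val h⟩

/-- the inductive step when `N` contains an abelian normal `q`-subgroup -/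
theorem kegel_step [Finite G] {p q : ℕ} (hp : p.Prime) [hq : Fact q.Prime] (N V : Subgroup G)
    [hNn : N.Normal] [V.Normal] [IsMulCommutative V] (hVq : IsPGroup q V) (hVN : V ≤ N)
    (hN : N ≠ ⊤) (h : ∀ g, g ∉ N → g ^ p = 1)
    (hnil : Group.IsNilpotent (N.map (QuotientGroup.mk' V))) : Group.IsNilpotent N := by
  apply isNilpotent_of_forall_sylowIn
  intro r hr
  haveI := Fact.mk hr
  obtain ⟨R, hR, -⟩ := IsSylowIn.exists_le (p := r) IsPGroup.of_bot (bot_le (a := N))
  refine ⟨R, hR, ?_⟩
  have h1 := le_normalizer_of_sylowIn_nilpotent (isSylowIn_map (QuotientGroup.mk' V) hR)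
  have h2 : N ≤ normalizer ((R ⊔ V : Subgroup G) : Set G) := by
    intro n hn
    have h3 := h1 (mem_map_of_mem _ hn)
    have h4 : R ⊔ V = (R.map (QuotientGroup.mk' V)).comap (QuotientGroup.mk' V) := by
      rw [comap_map_eq, QuotientGroup.ker_mk']
    rw [h4]
    exact le_normalizer_comap _ h3
  have h3 : V ≤ normalizer (R : Set G) := by
    by_cases hrq : r = q
    · subst hrq
      have : R ⊔ V = R := hR.eq_of_le (hR.isPGroup.to_sup_of_normal_right hVq)
        (sup_le hR.le hVN) le_sup_left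
      exact (le_sup_right.trans this.le).trans le_normalizer
    · obtain ⟨g, hg⟩ : ∃ g, g ∉ N := by
        by_contra! h
        exact hN (eq_top_iff.2 fun g _ => h g)
      obtain ⟨n, hn, hng⟩ := hR.frattini (g := g) (by rw [normalizer_eq_top]; trivial)
      have hx : n * g ∉ N := fun h' => hg ((mul_mem_cancel_left hn).1 h')
      have := centralizes_of_coset_pow hp V R (n * g) hng (fun v hv f hf => h _ fun h' =>
        hx ((mul_mem_cancel_right (hR.le hf)).1 ((mul_mem_cancel_left (hVN hv)).1 h')))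
        (IsPGroup.coprime_card_of_ne r q hrq _ _ hR.isPGroup hVq)
      intro v hv
      refine mem_normalizer_of_conj_mem fun f hf => ?_
      rwa [← this v hv f hf, mul_inv_cancel_right]
  intro n hn
  obtain ⟨w, hw, hwn⟩ := (hR.mono le_sup_left (sup_le hR.le hVN)).frattini (h2 hn)
  exact (mul_mem_cancel_left ((sup_le le_normalizer h3 :) hw)).1 hwn

theorem isPGroup_quotient_of_outside {p : ℕ} (N : Subgroup G) [N.Normal]
    (h : ∀ g, g ∉ N → g ^ p = 1) : IsPGroup p (G ⧸ N) := by
  intro g
  obtain ⟨g, rfl⟩ := QuotientGroup.mk_surjective g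
  refine ⟨1, ?_⟩
  by_cases hg : g ∈ N
  · rw [(QuotientGroup.eq_one_iff g).2 hg, one_pow]
  · rw [pow_one, ← QuotientGroup.mk_pow, h g hg, QuotientGroup.mk_one]

theorem kegel_aux {p : ℕ} (hp : p.Prime) (n : ℕ) : ∀ (G : Type u) [Group G] [Finite G],
    Nat.card G = n → ∀ (N : Subgroup G) [N.Normal], N ≠ ⊤ → (∀ g, g ∉ N → g ^ p = 1) →
      Group.IsNilpotent N := by
  induction n using Nat.strong_induction_on with
  | _ n ih =>
  intro G _ _ hn N hNn hN h
  haveI := Fact.mk hp
  obtain ⟨x, hx⟩ : ∃ g, g ∉ N := by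
    by_contra! h
    exact hN (eq_top_iff.2 fun g _ => h g)
  -- the case of a nontrivial solvable normal subgroup inside `N`
  have key : ∀ L : Subgroup G, L.Normal → Group.IsSolvable L → L ≠ ⊥ → L ≤ N →
      Group.IsNilpotent N := by
    intro L hL hLs hL0 hLN
    obtain ⟨V, q, hq, hV, hV0, hVL, hVc, hVq, -, -⟩ :=
      H2.exists_minimal_normal_le_of_solvable L hL hLs hL0
    haveI := Fact.mk hq
    have hVN := hVL.trans hLN
    have hc : (N.map (QuotientGroup.mk' V)).comap (QuotientGroup.mk' V) = N :=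
      comap_map_eq_self (by rwa [QuotientGroup.ker_mk'])
    haveI := hNn.map _ (QuotientGroup.mk'_surjective V)
    refine kegel_step hp N V hVq hVN hN h (ih _ (hn ▸ H19.card_quotient_lt hV0) _ rfl _ ?_ ?_)
    · intro h'
      rw [h', comap_top] at hc
      exact hN hc.symm
    · intro g hg
      obtain ⟨g, rfl⟩ := QuotientGroup.mk'_surjective V g
      rw [← map_pow, h g fun h' => hg (mem_map_of_mem _ h'), map_one]
  have hfix : ∀ y, y ∉ N → ∀ k ∈ N, y * k = k * y → k ^ p = 1 := by
    intro y hy k hk hyk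
    have h1 := h (y * k) fun h' => hy ((mul_mem_cancel_right hk).1 h')
    rwa [(show Commute y k from hyk).mul_pow, h y hy, one_mul] at h1
  by_cases hp2 : p = 2
  · subst hp2
    have h1 : ∀ k ∈ N, x * k * x = k⁻¹ := fun k hk => by
      have := h (x * k) fun h' => hx ((mul_mem_cancel_right hk).1 h')
      rw [eq_inv_iff_mul_eq_one, ← this, pow_two, mul_assoc, mul_assoc]
    have h2 : x * x = 1 := by rw [← pow_two, h x hx]
    haveI : IsMulCommutative N := H2.isMulCommutative_of_forall fun a ha b hb => by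
      have := h1 _ (mul_mem ha hb)
      rw [mul_inv_rev, ← h1 a ha, ← h1 b hb] at this
      have h3 : x * (a * b) * x = x * (b * a) * x := by
        rw [this]
        calc x * b * x * (x * a * x) = x * b * (x * x) * a * x := by group
          _ = _ := by rw [h2]; group
      exact mul_left_cancel (mul_right_cancel h3)
    infer_instance
  have hQ := isPGroup_quotient_of_outside N h
  obtain ⟨P⟩ : Nonempty (Sylow p G) := inferInstance
  have hPN : ¬ (P : Subgroup G) ≤ N := by
    intro hPN
    have h1 : ¬ p ∣ N.index := fun h => P.not_dvd_index (h.trans (index_dvd_of_le hPN))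
    obtain ⟨k, hk⟩ := IsPGroup.iff_card.1 hQ
    rcases k with _ | k
    · exact hN (index_eq_one.1 hk)
    · exact h1 (by rw [index, hk]; exact dvd_pow_self p (Nat.succ_ne_zero k))
  set Z := centerThompsonOf p (P : Subgroup G) with hZ
  have hZP : Z ≤ P := centerThompsonOf_le p _
  by_cases hM : normalizer (Z : Set G) = ⊤
  · haveI hZn : Z.Normal := normalizer_eq_top_iff.1 hM
    by_cases hZN : Z ⊓ N = ⊥
    · have hZ0 : Z ≠ ⊥ := centerThompsonOf_ne_bot P.isPGroup' fun h => hPN (h ▸ bot_le)
      obtain ⟨⟨z, hz⟩, hz1⟩ := ne_bot_iff_exists_ne_one.1 hZ0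
      have hz2 : z ∉ N := fun h' => hz1 (Subtype.ext (by
        have : z ∈ Z ⊓ N := mem_inf.2 ⟨hz, h'⟩
        rwa [hZN] at this))
      have : IsPGroup p N := H2.isPGroup_of_forall_pow_eq_one fun k hk =>
        hfix z hz2 k hk (commute_of_normal_of_disjoint Z N hZn hNn (disjoint_iff.2 hZN) z k hz hk)
      exact this.isNilpotent
    · refine key (Z ⊓ N) inferInstance ?_ hZN inf_le_right
      haveI := (P.isPGroup'.to_le (inf_le_left.trans hZP : Z ⊓ N ≤ P)).isNilpotent
      infer_instance
  · set M := normalizer (Z : Set G) with hMdef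
    have hPM : (P : Subgroup G) ≤ M :=
      le_normalizer.trans (normalizer_le_normalizer_centerThompsonOf p _)
    have h1 : ∀ g : M, g ∉ N.subgroupOf M → g ^ p = 1 := fun g hg => Subtype.ext (h g hg)
    haveI := ih _ (hn ▸ H19.card_lt_of_ne_top hM) M rfl (N.subgroupOf M)
      (fun h' => hPN (hPM.trans (subgroupOf_eq_top.1 h'))) h1
    have h2 := (S0117.result hp2 P).2 (H3.hasNormalPComplement_of_normal_of_isPGroup_quotient
      (N.subgroupOf M) (isPGroup_quotient_of_outside _ h1) H3.hasNormalPComplement_of_isNilpotent)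
    set K := pResidual p G with hK
    by_cases hK0 : K = ⊥
    · have h3 : IsPGroup p (G ⧸ K) := H3.isPGroup_quotient_pResidual
      have h4 : IsPGroup p G := h3.of_injective (QuotientGroup.mk' K)
        (by rw [← MonoidHom.ker_eq_bot_iff, QuotientGroup.ker_mk', hK0])
      exact (h4.to_subgroup N).isNilpotent
    have hKN : K ≤ N := H3.pResidual_le_of_isPGroup_quotient N hQ
    have hfpf : MonoidHom.FixedPointFree
        ((MulAut.conjNormal x : K ≃* K) : K →* K) := by
      intro k hk
      have h3 : x * k * x⁻¹ = k := congrArg Subtype.val hk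
      have h4 := hfix x hx k (hKN k.2) (mul_inv_eq_iff_eq_mul.1 h3)
      have h5 := H3.hasNormalPComplement_iff_forall_mem.1 h2 k k.2
      exact Subtype.ext (orderOf_eq_one_iff.1
        (h5.eq_one_of_dvd (orderOf_dvd_of_pow_eq_one h4)))
    haveI := S0033.result (MulAut.conjNormal x : K ≃* K) hfpf p hp (orderOf_eq_prime
      (by rw [← map_pow, h x hx, map_one]) (by
        intro h'
        obtain ⟨k, hk⟩ := ne_bot_iff_exists_ne_one.1 hK0
        exact hk (hfpf k (by rw [h']; rfl))))
    exact key K inferInstance inferInstance hK0 hKN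

/-- **Hughes-Thompson-Kegel** -/
theorem isNilpotent_of_outside_pow [Finite G] {p : ℕ} (hp : p.Prime) (N : Subgroup G) [N.Normal]
    (hN : N ≠ ⊤) (h : ∀ g, g ∉ N → g ^ p = 1) : Group.IsNilpotent N :=
  kegel_aux hp _ G rfl N hN h

end Cfsg.Agent.H84
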