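import Mathlib
import Cfsg.Agent.H84.Frob

/-! Any fixed point free action of a finite group on a nonzero abelian group makes it a
Frobenius complement. -/

set_option autoImplicit false
set_option linter.style.haveILetI false
open Cfsg

namespace Cfsg.Agent.H84

/-- For a fixed point free element the norm operator vanishes. -/
theorem sum_pow_apply_eq_zero {C R M : Type*} [Group C] [Semiring R] [AddCommGroup M]
    [Module R M] (ρ : C →* Module.End R M) (c : C) (n : ℕ) (hn : c ^ n = 1)
    (h : ∀ v : M, ρ c v = v → v = 0) (v : M) :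
    ∑ i ∈ Finset.range n, ρ (c ^ i) v = 0 := by
  apply h
  rw [map_sum]
  have h1 : ∀ i, ρ c (ρ (c ^ i) v) = ρ (c ^ (i + 1)) v := by
    intro i
    rw [pow_succ', map_mul]; rfl
  simp_rw [h1]
  have h2 := Finset.sum_range_succ' (fun i => ρ (c ^ i) v) n
  have h3 := Finset.sum_range_succ (fun i => ρ (c ^ i) v) n
  rw [h2, hn, pow_zero] at h3
  exact add_right_cancel h3

theorem sum_pow_apply_of_fixed {C R M : Type*} [Group C] [Semiring R] [AddCommGroup M]
    [Module R M] (ρ : C →* Module.End R M) (c : C) (n : ℕ) (v : M) (hv : ρ c v = v) :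
    ∑ i ∈ Finset.range n, ρ (c ^ i) v = n • v := by
  have : ∀ i, ρ (c ^ i) v = v := by
    intro i
    induction i with
    | zero => simp
    | succ i ih => rw [pow_succ, map_mul, Module.End.mul_apply, hv, ih]
  simp only [this, Finset.sum_const, Finset.card_range]

/-- Reduction modulo `p` of a fixed point free action on a finitely generated infinite abelian
group. -/
theorem exists_fpf_mod_p {C M : Type*} [Group C] [Finite C] [AddCommGroup M]
    [Module.Finite ℤ M] [Infinite M] (ρ : Representation ℤ C M)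
    (h : ∀ c : C, c ≠ 1 → ∀ v : M, ρ c v = v → v = 0) (p : ℕ) (hp : p.Prime)
    (hcop : (Nat.card C).Coprime p) :
    ∃ (W : Submodule ℤ M) (hW : ∀ g, W ≤ W.comap (ρ g)), Finite (M ⧸ W) ∧ Nontrivial (M ⧸ W) ∧
      (∀ v : M ⧸ W, p • v = 0) ∧
      ∀ c : C, c ≠ 1 → ∀ v : M ⧸ W, ρ.quotient W hW c v = v → v = 0 := by
  let W : Submodule ℤ M := LinearMap.range ((p : ℤ) • (LinearMap.id : M →ₗ[ℤ] M))
  have hW : ∀ g, W ≤ W.comap (ρ g) := by
    rintro g _ ⟨v, rfl⟩
    exact ⟨ρ g v, by simp⟩
  have hpv : ∀ v : M ⧸ W, p • v = 0 := by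
    intro v
    obtain ⟨v, rfl⟩ := Submodule.Quotient.mk_surjective W v
    rw [← Submodule.Quotient.mk_smul, Submodule.Quotient.mk_eq_zero]
    exact ⟨v, by simp⟩
  refine ⟨W, hW, ?_, ?_, hpv, ?_⟩
  · apply Module.finite_of_fg_torsion
    intro v
    exact ⟨⟨(p : ℤ), mem_nonZeroDivisors_of_ne_zero (by exact_mod_cast hp.ne_zero)⟩, by
      simpa using hpv v⟩
  · rw [Submodule.Quotient.nontrivial_iff]
    intro htop
    have hfg : (⊤ : Submodule ℤ M).FG := Module.Finite.fg_top
    have hle : (⊤ : Submodule ℤ M) ≤ Ideal.span {(p : ℤ)} • ⊤ := by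
      intro v _
      have : v ∈ W := htop ▸ Submodule.mem_top
      obtain ⟨w, rfl⟩ := this
      exact Submodule.smul_mem_smul (Ideal.mem_span_singleton_self _) Submodule.mem_top
    obtain ⟨r, hr1, hr⟩ :=
      Submodule.exists_sub_one_mem_and_smul_eq_zero_of_fg_of_le_smul _ _ hfg hle
    have hr0 : r ≠ 0 := by
      rintro rfl
      rw [Ideal.mem_span_singleton] at hr1
      have : (p : ℤ) ∣ 1 := by simpa using hr1
      exact hp.one_lt.ne' (by exact_mod_cast Int.eq_one_of_dvd_one (by positivity) this)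
    have : Finite M := by
      apply Module.finite_of_fg_torsion
      intro v
      exact ⟨⟨r, mem_nonZeroDivisors_of_ne_zero hr0⟩, hr v Submodule.mem_top⟩
    exact not_finite M
  · intro c hc v hv
    have h1 := sum_pow_apply_of_fixed (ρ.quotient W hW) c (Nat.card C) v hv
    obtain ⟨w, rfl⟩ := Submodule.Quotient.mk_surjective W v
    have h2 := sum_pow_apply_eq_zero ρ c (Nat.card C) pow_card_eq_one' (h c hc) w
    have h3 : ∑ i ∈ Finset.range (Nat.card C), (ρ.quotient W hW) (c ^ i) (Submodule.Quotient.mk w)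
        = W.mkQ (∑ i ∈ Finset.range (Nat.card C), ρ (c ^ i) w) := by
      rw [map_sum]; rfl
    rw [h3, h2, map_zero] at h1
    have h4 := hpv (Submodule.Quotient.mk w)
    have h5 : addOrderOf (Submodule.Quotient.mk w : M ⧸ W) ∣ Nat.gcd (Nat.card C) p :=
      Nat.dvd_gcd (addOrderOf_dvd_of_nsmul_eq_zero h1.symm) (addOrderOf_dvd_of_nsmul_eq_zero h4)
    rw [hcop, Nat.dvd_one, AddMonoid.addOrderOf_eq_one_iff] at h5
    exact h5

theorem exists_frob_of_fpf_fg {C M : Type*} [Group C] [Finite C] [Nontrivial C] [AddCommGroup M]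
    [Module.Finite ℤ M] [Nontrivial M] (ρ : Representation ℤ C M)
    (h : ∀ c : C, c ≠ 1 → ∀ v : M, ρ c v = v → v = 0) :
    ∃ (L : Type) (_ : Group L) (_ : Finite L) (H : Subgroup L), IsFrobeniusComplement H ∧
      Nonempty (C ≃* H) := by
  rcases finite_or_infinite M with hM | hM
  · obtain ⟨L, i1, i2, H, h1, h2, _⟩ := exists_frob_of_fpf_rep ρ h
    exact ⟨L, i1, i2, H, h1, h2⟩
  · obtain ⟨p, hp1, hp⟩ := Nat.exists_infinite_primes (Nat.card C + 1)
    have hcop : (Nat.card C).Coprime p :=
      (Nat.coprime_comm.1 ((Nat.Prime.coprime_iff_not_dvd hp).2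
        (Nat.not_dvd_of_pos_of_lt Nat.card_pos (by omega))))
    obtain ⟨W, hW, i1, i2, -, h3⟩ := exists_fpf_mod_p ρ h p hp hcop
    obtain ⟨L, i1, i2, H, h1, h2, _⟩ := exists_frob_of_fpf_rep (ρ.quotient W hW) h3
    exact ⟨L, i1, i2, H, h1, h2⟩

/-- The `ℤ`-span of an orbit is a finitely generated invariant submodule. -/
theorem span_orbit_invariant {C R M : Type*} [Group C] [CommRing R] [AddCommGroup M] [Module R M]
    (ρ : Representation R C M) (v : M) (g : C) :
    Submodule.span R (Set.range fun c : C => ρ c v) ≤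
      (Submodule.span R (Set.range fun c : C => ρ c v)).comap (ρ g) := by
  rw [Submodule.span_le]
  rintro _ ⟨c, rfl⟩
  apply Submodule.subset_span
  exact ⟨g * c, by simp⟩

/-- A nontrivial finite group acting fixed point freely on any nonzero abelian group is a
Frobenius complement. -/
theorem exists_frob_of_fpf_int {C M : Type*} [Group C] [Finite C] [Nontrivial C] [AddCommGroup M]
    [Nontrivial M] (ρ : Representation ℤ C M)
    (h : ∀ c : C, c ≠ 1 → ∀ v : M, ρ c v = v → v = 0) :
    ∃ (L : Type) (_ : Group L) (_ : Finite L) (H : Subgroup L), IsFrobeniusComplement H ∧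
      Nonempty (C ≃* H) := by
  obtain ⟨v, hv⟩ := exists_ne (0 : M)
  let W := Submodule.span ℤ (Set.range fun c : C => ρ c v)
  haveI : Module.Finite ℤ W := Module.Finite.span_of_finite ℤ (Set.finite_range _)
  haveI : Nontrivial W := ⟨⟨⟨v, Submodule.subset_span ⟨1, by simp⟩⟩, 0, fun e => hv (by
    simpa using congrArg Subtype.val e)⟩⟩
  apply exists_frob_of_fpf_fg (ρ.subrepresentation W (span_orbit_invariant ρ v))
  intro c hc w hw
  exact Subtype.ext (h c hc w (congrArg Subtype.val hw))

theorem exists_frob_of_fpf_distrib {C M : Type*} [Group C] [Finite C] [Nontrivial C]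
    [AddCommGroup M] [Nontrivial M] [DistribMulAction C M]
    (h : ∀ c : C, c ≠ 1 → ∀ v : M, c • v = v → v = 0) :
    ∃ (L : Type) (_ : Group L) (_ : Finite L) (H : Subgroup L), IsFrobeniusComplement H ∧
      Nonempty (C ≃* H) :=
  exists_frob_of_fpf_int (Representation.ofDistribMulAction ℤ C M) h

theorem exists_frob_of_fpf_end {C R M : Type*} [Group C] [Finite C] [Nontrivial C] [Semiring R]
    [AddCommGroup M] [Module R M] [Nontrivial M] (ρ : C →* Module.End R M)
    (h : ∀ c : C, c ≠ 1 → ∀ v : M, ρ c v = v → v = 0) :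
    ∃ (L : Type) (_ : Group L) (_ : Finite L) (H : Subgroup L), IsFrobeniusComplement H ∧
      Nonempty (C ≃* H) := by
  letI : DistribMulAction C M := DistribMulAction.compHom M ρ
  exact exists_frob_of_fpf_distrib (M := M) (fun c hc v hv => h c hc v hv)

end Cfsg.Agent.H84
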