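import Mathlib
import Cfsg.Agent.H24.FpfBasic
import Cfsg.Agent.H84.FrobFpf

/-! Quaternion actions on abelian groups of odd order. -/

set_option autoImplicit false
set_option linter.style.haveILetI false

namespace Cfsg.Agent.H84

theorem exists_sq_add_sq_add_one {n : ℕ} (hn : Odd n) : ∃ a b : ℤ, (n : ℤ) ∣ a ^ 2 + b ^ 2 + 1 := by
  obtain ⟨t, rfl⟩ := hn
  obtain ⟨p, -, hp, h⟩ := Nat.forall_exists_prime_gt_and_zmodEq 0 (q := 4 * (2 * t + 1))
    (a := 2 * (2 * t + 1) ^ 2 - 1) (by omega)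
    ⟨2 * (2 * t + 1) ^ 2 - 1, -((2 * t + 1) ^ 3 - (2 * t + 1)), by push_cast; ring⟩
  obtain ⟨c, hc⟩ := h.symm.dvd
  haveI := Fact.mk hp
  have h4 : p % 4 ≠ 3 := by
    have : (p : ℤ) = 4 * ((2 * t + 1) * c + 2 * t ^ 2 + 2 * t) + 1 := by
      push_cast at hc; linear_combination hc
    omega
  obtain ⟨a, b, hab⟩ := Nat.Prime.sq_add_sq h4
  refine ⟨a, b, 4 * c + 2 * (2 * t + 1), ?_⟩
  have : (a : ℤ) ^ 2 + b ^ 2 = p := by exact_mod_cast hab
  push_cast at hc ⊢
  linear_combination this + hc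

theorem isSquare_card_of_quat {V : Type*} [AddCommGroup V] [Finite V] (hV : Odd (Nat.card V))
    (i j : V →+ V) (hi : ∀ v, i (i v) = -v) (hj : ∀ v, j (j v) = -v)
    (hij : ∀ v, j (i v) = -i (j v)) : IsSquare (Nat.card V) := by
  obtain ⟨a, b, c, hc⟩ := exists_sq_add_sq_add_one hV
  have hn : ∀ v : V, (Nat.card V : ℤ) • v = 0 := fun v => by
    rw [natCast_zsmul, card_nsmul_eq_zero']
  obtain ⟨t, ht⟩ := hV
  have h2 : ∀ v : V, (t + 1 : ℤ) • (v + v) = v := fun v => by
    have := hn v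
    rw [ht] at this
    push_cast at this
    calc (t + 1 : ℤ) • (v + v) = (2 * t + 1 : ℤ) • v + v := by module
      _ = v := by rw [this, zero_add]
  let s : V →+ V := a • i + b • j
  have hs : ∀ v, s v = a • i v + b • j v := fun _ => rfl
  have hss : ∀ v, s (s v) = v := fun v => by
    simp only [hs, map_add, map_zsmul, hi, hj, hij]
    calc _ = v - (a ^ 2 + b ^ 2 + 1) • v := by module
      _ = v := by rw [hc, mul_comm, mul_smul, hn, smul_zero, sub_zero]
  have hsk : ∀ v, s (i (j v)) = -i (j (s v)) := fun v => by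
    simp only [hs, map_add, map_zsmul, hi, hj, hij, map_neg]
    module
  have hkk : ∀ v, i (j (i (j v))) = -v := fun v => by
    simp only [hi, hj, hij, map_neg, neg_neg]
  let W := (s - AddMonoidHom.id V).ker
  have hW : ∀ v, v ∈ W ↔ s v = v := fun v => by
    change s v - v = 0 ↔ _
    exact sub_eq_zero
  refine ⟨Nat.card W, ?_⟩
  rw [← Nat.card_prod]
  symm
  refine Nat.card_congr (Equiv.ofBijective (fun x : W × W => (x.1 : V) + i (j x.2)) ⟨?_, ?_⟩)
  · rintro ⟨u, w⟩ ⟨u', w'⟩ h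
    have h3 : (u : V) + i (j w) = u' + i (j w') := h
    have h4 := congrArg s h3
    rw [map_add, map_add, hsk, hsk, (hW _).1 u.2, (hW _).1 w.2, (hW _).1 u'.2,
      (hW _).1 w'.2] at h4
    have h5 : (u : V) = u' := by
      rw [← h2 u, ← h2 u']
      congr 1
      linear_combination (norm := abel) h3 + h4
    rw [h5, add_right_inj] at h3
    have h6 := congrArg (fun v => i (j v)) h3
    simp only [hkk, neg_inj] at h6
    exact Prod.ext (Subtype.ext h5) (Subtype.ext h6)
  · intro v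
    refine ⟨(⟨(t + 1 : ℤ) • (v + s v), (hW _).2 ?_⟩,
      ⟨-i (j ((t + 1 : ℤ) • (v - s v))), (hW _).2 ?_⟩), ?_⟩
    · rw [map_zsmul, map_add, hss, add_comm (s v)]
    · rw [map_neg, hsk, map_zsmul s, map_sub, hss, neg_neg, ← map_neg, ← map_neg, ← smul_neg,
        neg_sub]
    · simp only [map_neg, hkk, neg_neg]
      rw [← smul_add, add_add_sub_cancel, h2]

theorem odd_isSquare_of_fpf {H N : Type*} [Group H] [Group N] [Finite N] (φ : H →* MulAut N)
    (hφ : ∀ h : H, h ≠ 1 → ∀ n, φ h n = n → n = 1) {x y z : H} (hz : z ≠ 1) (hz2 : z * z = 1)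
    (hx : x * x = z) (hy : y * y = z) (hxy : y * x = z * (x * y)) :
    Odd (Nat.card N) ∧ IsSquare (Nat.card N) := by
  have h1 : MonoidHom.FixedPointFree (φ z) := hφ z hz
  have h2 : Function.Involutive (φ z) := fun n => by
    rw [← MulAut.mul_apply, ← map_mul, hz2, map_one, MulAut.one_apply]
  have h3 := h1.odd_card_of_involutive h2
  have h4 : ∀ n, φ z n = n⁻¹ := fun n => congrFun (h1.coe_eq_inv_of_involutive h2) n
  refine ⟨h3, ?_⟩
  letI := h1.commGroupOfInvolutive h2
  refine isSquare_card_of_quat (V := Additive N) h3 (MonoidHom.toAdditive (φ x).toMonoidHom)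
    (MonoidHom.toAdditive (φ y).toMonoidHom) (fun v => ?_) (fun v => ?_) fun v => ?_
  · change φ x (φ x v.toMul) = v.toMul⁻¹
    rw [← MulAut.mul_apply, ← map_mul, hx, h4]
  · change φ y (φ y v.toMul) = v.toMul⁻¹
    rw [← MulAut.mul_apply, ← map_mul, hy, h4]
  · change φ y (φ x v.toMul) = (φ x (φ y v.toMul))⁻¹
    rw [← MulAut.mul_apply, ← map_mul, hxy, ← h4, map_mul, map_mul]
    rfl

theorem odd_isSquare_of_frob {L : Type*} [Group L] [Finite L] (H : Subgroup L)
    (hF : Cfsg.IsFrobeniusComplement H)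
    (hZ : ∃ (p : ℕ) (_ : Fact p.Prime) (P : Sylow p H), ¬ IsCyclic P) :
    Odd (Nat.card (Cfsg.frobeniusKernel H)) ∧ IsSquare (Nat.card (Cfsg.frobeniusKernel H)) := by
  obtain ⟨p, _, P, hP⟩ := hZ
  obtain ⟨N, hN1, hN, hc⟩ := S0035.result H hF
  have hN0 : N ≠ ⊥ := by
    rintro rfl
    exact hF.2.1 (Subgroup.isComplement'_bot_left.mp hc)
  have h1 := (S0039.result N H hc hN0 hF.1).mp hF
  obtain ⟨-, n, ⟨e⟩⟩ := (((H24.fpf_of_isFrobeniusComplement hF).subgroup P).cyclic_or_quaternion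
    P.isPGroup').resolve_left hP
  rcases n with _ | n
  · haveI : IsCyclic (QuaternionGroup (2 ^ 0)) := QuaternionGroup.quaternionGroup_one_isCyclic
    exact absurd (isCyclic_of_surjective _ e.symm.surjective) hP
  let ψ : QuaternionGroup (2 ^ (n + 1)) →* L :=
    H.subtype.comp ((P : Subgroup H).subtype.comp e.symm.toMonoidHom)
  have hψ : Function.Injective ψ :=
    H.subtype_injective.comp ((P : Subgroup H).subtype_injective.comp e.symm.injective)
  rw [← hN1]
  have h2 : ((2 ^ (n + 1) : ℕ) : ZMod (2 * 2 ^ (n + 1))) + (2 ^ (n + 1) : ℕ) = 0 := by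
    rw [← two_mul]
    exact_mod_cast ZMod.natCast_self (2 * 2 ^ (n + 1))
  have h3 : ((2 ^ n : ℕ) : ZMod (2 * 2 ^ (n + 1))) + (2 ^ n : ℕ) = (2 ^ (n + 1) : ℕ) := by
    push_cast; ring
  refine odd_isSquare_of_fpf (N := N) (MulAut.conjNormal.comp ψ) (fun h hh m hm => ?_)
    (x := QuaternionGroup.a (2 ^ n : ℕ)) (y := QuaternionGroup.xa 0)
    (z := QuaternionGroup.a (2 ^ (n + 1) : ℕ)) ?_ ?_ ?_ ?_ ?_
  · have h4 : (m : L) ∈ N ⊓ Subgroup.centralizer {ψ h} := by
      refine ⟨m.2, Subgroup.mem_centralizer_singleton_iff.2 ?_⟩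
      have : ψ h * m * (ψ h)⁻¹ = m := congrArg Subtype.val hm
      rw [mul_inv_eq_iff_eq_mul] at this
      exact this.symm
    rw [h1 (ψ h) (e.symm h : H).2 fun h5 => hh (hψ (h5.trans (map_one _).symm))] at h4
    exact Subtype.ext h4
  · intro h4
    have h5 := QuaternionGroup.orderOf_xa (n := 2 ^ (n + 1)) 0
    rw [← QuaternionGroup.xa_sq 0] at h4
    have := orderOf_dvd_of_pow_eq_one h4
    rw [h5] at this
    omega
  · rw [QuaternionGroup.a_mul_a, h2]; rfl
  · rw [QuaternionGroup.a_mul_a, h3]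
  · simp
  · rw [QuaternionGroup.xa_mul_a, QuaternionGroup.a_mul_xa, QuaternionGroup.a_mul_xa]
    congr 1
    linear_combination h2 + h3

/-- A representation of the quaternion group of order eight. -/
theorem exists_quat_hom {R : Type*} [Ring R] (I J : R) (hI : I * I = -1) (hJ : J * J = -1)
    (hIJ : I * J = -(J * I)) : ∃ f : QuaternionGroup 2 →* R, f (QuaternionGroup.a 2) = -1 := by
  have hI4 : I ^ 4 = 1 := by
    rw [show I ^ 4 = (I * I) * (I * I) by noncomm_ring, hI]; simp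
  let e : ZMod (2 * 2) → R := fun n => I ^ n.val
  have he : ∀ m n, e (m + n) = e m * e n := fun m n => by
    simp only [e]
    rw [ZMod.val_add, ← pow_add, ← pow_eq_pow_mod _ hI4]
  have he0 : e 0 = 1 := pow_zero I
  have he2 : e 2 = -1 := (sq I).trans hI
  have h1 : ∀ k : ℕ, I ^ k * J * I ^ k = J := fun k => by
    induction k with
    | zero => simp
    | succ k ih =>
      calc I ^ (k + 1) * J * I ^ (k + 1) = I * (I ^ k * J * I ^ k) * I := by
            nth_rewrite 1 [pow_succ' I k]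
            rw [pow_succ I k]; noncomm_ring
        _ = J := by rw [ih, hIJ, neg_mul, mul_assoc, hI]; simp
  have h2 : ∀ m n, e m * (J * e n) = J * e (n - m) := fun m n => by
    conv_lhs => rw [← add_sub_cancel m n, he, ← mul_assoc, ← mul_assoc]
    rw [show e m * J * e m = J from h1 _]
  refine ⟨⟨⟨fun g => match g with
    | QuaternionGroup.a n => e n
    | QuaternionGroup.xa n => J * e n, he0⟩, ?_⟩, he2⟩
  rintro (m | m) (n | n)
  · exact he m n
  · exact (h2 m n).symm
  · change J * e (m + n) = _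
    rw [he, mul_assoc]
  · change e ((2 : ℕ) + n - m) = J * e m * (J * e n)
    rw [mul_assoc, h2, ← mul_assoc, hJ, add_sub_assoc, he, Nat.cast_ofNat, he2]

end Cfsg.Agent.H84
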