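import Cfsg.Agent.H84.SupFS
import Cfsg.Agent.H84.Quat

/-! Finite abelian `p`-groups whose `p'`-automorphism groups are abelian of exponent `∣ p - 1`. -/

set_option autoImplicit false
set_option linter.style.haveILetI false

namespace Cfsg.Agent.H84

open Subgroup

/-- Every `p'`-group of automorphisms of `G` is abelian of exponent dividing `p - 1`. -/
def PAut (p : ℕ) (G : Type*) [Group G] : Prop :=
  ∀ H : Subgroup (MulAut G), (Nat.card H).Coprime p → IsMulCommutative H ∧ ∀ h ∈ H, h ^ (p - 1) = 1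

theorem PAut.hom {p : ℕ} {G X : Type*} [Group G] [Group X] (h : PAut p G) (φ : X →* MulAut G)
    (hX : (Nat.card X).Coprime p) : (∀ a b, φ (a * b) = φ (b * a)) ∧ ∀ a, φ (a ^ (p - 1)) = 1 := by
  obtain ⟨h1, h2⟩ := h φ.range (hX.coprime_dvd_left (card_range_dvd φ))
  refine ⟨fun a b => ?_, fun a => by rw [map_pow]; exact h2 _ ⟨a, rfl⟩⟩
  rw [map_mul, map_mul]
  exact congrArg Subtype.val (h1.is_comm.comm ⟨φ a, a, rfl⟩ ⟨φ b, b, rfl⟩)

theorem PAut.of_equiv {p : ℕ} {G G' : Type*} [Group G] [Group G'] (h : PAut p G) (e : G ≃* G') :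
    PAut p G' := by
  intro H hH
  obtain ⟨h1, h2⟩ := h.hom ((MulAut.congr e.symm).toMonoidHom.comp H.subtype) hH
  refine ⟨⟨⟨fun a b => Subtype.ext ((MulAut.congr e.symm).injective (h1 a b))⟩⟩, fun a ha =>
    (MulAut.congr e.symm).injective ((h2 ⟨a, ha⟩).trans (map_one _).symm)⟩

theorem PAut.matrix {p : ℕ} {R H X : Type*} [CommRing R] [Group H] [Group X]
    (h : PAut p ((Multiplicative R × Multiplicative R) × H)) (f : X →* Matrix (Fin 2) (Fin 2) R)
    (hX : (Nat.card X).Coprime p) : (∀ a b, f (a * b) = f (b * a)) ∧ ∀ a, f (a ^ (p - 1)) = 1 := by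
  let g : X → (Multiplicative R × Multiplicative R) × H → (Multiplicative R × Multiplicative R) × H :=
    fun x v => ((.ofAdd (f x 0 0 * v.1.1.toAdd + f x 0 1 * v.1.2.toAdd),
        .ofAdd (f x 1 0 * v.1.1.toAdd + f x 1 1 * v.1.2.toAdd)), v.2)
  letI : MulDistribMulAction X ((Multiplicative R × Multiplicative R) × H) :=
    { smul := g
      one_smul := fun v => by
        change g 1 v = v
        simp [g]
      mul_smul := fun x y v => by
        change g (x * y) v = g x (g y v)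
        simp only [g, map_mul, Matrix.mul_apply, Fin.sum_univ_two, toAdd_ofAdd]
        refine Prod.ext (Prod.ext (congrArg Multiplicative.ofAdd ?_)
          (congrArg Multiplicative.ofAdd ?_)) rfl <;> ring
      smul_mul := fun x v w => by
        change g x (v * w) = g x v * g x w
        simp only [g, Prod.fst_mul, Prod.snd_mul, toAdd_mul, Prod.mk_mul_mk, ← ofAdd_add]
        refine Prod.ext (Prod.ext (congrArg Multiplicative.ofAdd ?_)
          (congrArg Multiplicative.ofAdd ?_)) rfl <;> ring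
      smul_one := fun x => by
        change g x 1 = 1
        simp [g] }
  let φ := MulDistribMulAction.toMulAut X ((Multiplicative R × Multiplicative R) × H)
  have key : ∀ a b, φ a = φ b → f a = f b := fun a b hab => by
    have h1 := DFunLike.congr_fun hab ((.ofAdd 1, 1), 1)
    have h2 := DFunLike.congr_fun hab ((1, .ofAdd 1), 1)
    change ((_, _), _) = ((_, _), _) at h1 h2
    simp only [toAdd_ofAdd, mul_one, toAdd_one, mul_zero, add_zero, zero_add, Prod.mk.injEq,
      EmbeddingLike.apply_eq_iff_eq, and_true] at h1 h2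
    ext i j
    fin_cases i <;> fin_cases j
    exacts [h1.1, h2.1, h1.2, h2.2]
  obtain ⟨h1, h2⟩ := h.hom φ hX
  exact ⟨fun a b => key _ _ (h1 a b), fun a => (key _ 1 ((h2 a).trans (map_one _).symm)).trans
    (map_one _)⟩

theorem not_pAut_double {p n : ℕ} [hp : Fact p.Prime] (hn : 0 < n) {H : Type*} [Group H] :
    ¬ PAut p ((Multiplicative (ZMod (p ^ n)) × Multiplicative (ZMod (p ^ n))) × H) := by
  intro h
  haveI : Fact (1 < p ^ n) := ⟨Nat.one_lt_pow hn.ne' hp.out.one_lt⟩
  rcases hp.out.eq_two_or_odd' with rfl | hodd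
  · let u : (Matrix (Fin 2) (Fin 2) (ZMod (2 ^ n)))ˣ := ⟨!![0, -1; 1, -1], !![-1, 1; -1, 0],
      by ext i j; fin_cases i <;> fin_cases j <;> simp,
      by ext i j; fin_cases i <;> fin_cases j <;> simp⟩
    have h1 : u ^ 3 = 1 := by
      ext i j; fin_cases i <;> fin_cases j <;> simp [u, pow_succ]
    have h2 := (h.matrix ((Units.coeHom _).comp (zpowers u).subtype) (by
      rw [Nat.card_zpowers]
      exact (by norm_num : Nat.Coprime 3 2).coprime_dvd_left (orderOf_dvd_of_pow_eq_one h1))).2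
      ⟨u, mem_zpowers u⟩
    have h3 := congrFun (congrFun h2 1) 0
    simp [u] at h3
  · obtain ⟨a, b, hab⟩ := exists_sq_add_sq_add_one (hodd.pow (n := n))
    have h3 : (a : ZMod (p ^ n)) ^ 2 + b ^ 2 + 1 = 0 := by
      exact_mod_cast (ZMod.intCast_zmod_eq_zero_iff_dvd _ (p ^ n)).2 hab
    obtain ⟨f, hf⟩ := exists_quat_hom (R := Matrix (Fin 2) (Fin 2) (ZMod (p ^ n)))
      !![0, -1; 1, 0] !![(a : ZMod (p ^ n)), b; b, -a]
      (by ext i j; fin_cases i <;> fin_cases j <;> simp)
      (by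
        ext i j; fin_cases i <;> fin_cases j <;> simp
        · linear_combination h3
        · ring
        · ring
        · linear_combination h3)
      (by ext i j; fin_cases i <;> fin_cases j <;> simp)
    have h1 := (h.matrix f (by
      rw [Nat.card_eq_fintype_card, QuaternionGroup.card]
      exact (Nat.coprime_two_left.2 hodd).pow_left 3)).1 (.a 1) (.xa 0)
    have h2 : f (.a 2) = 1 := by
      rw [show (QuaternionGroup.a 2 : QuaternionGroup 2) = .a 1 * .xa 0 * (.xa 0 * .a 1)⁻¹ by decide,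
        map_mul, h1, ← map_mul, mul_inv_cancel, map_one]
    rw [hf] at h2
    have h4 : (-1 : ZMod (p ^ n)) = 1 := by simpa using congrFun (congrFun h2 0) 0
    obtain ⟨t, ht⟩ := hodd.pow (n := n)
    have h6 : (2 * t + 1 : ZMod (p ^ n)) = 0 := by
      have := ZMod.natCast_self (p ^ n)
      rw [ht] at this ⊢
      exact_mod_cast this
    exact one_ne_zero (α := ZMod (p ^ n)) (by linear_combination h6 + t * h4)

theorem pAut_pi {p : ℕ} [hp : Fact p.Prime] {ι : Type*} [Fintype ι] (a : ι → ℕ)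
    (ha : Function.Injective a) : PAut p (∀ i, Multiplicative (ZMod (p ^ a i))) := by
  classical
  haveI : ∀ i, NeZero (p ^ a i) := fun i => ⟨pow_ne_zero _ hp.out.ne_zero⟩
  have h0 : ∀ i k, a i ≤ k → ∀ x : Multiplicative (ZMod (p ^ a i)), x ^ p ^ k = 1 :=
    fun i k hk x => orderOf_dvd_iff_pow_eq_one.1 (((orderOf_dvd_natCard x).trans
      (by simp)).trans (pow_dvd_pow p hk))
  obtain ⟨N, hN⟩ : ∃ N : ℕ, ∀ i, a i ≤ N :=
    ⟨Finset.univ.sup a, fun i => Finset.le_sup (f := a) (Finset.mem_univ i)⟩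
  have hG : IsPGroup p (∀ i, Multiplicative (ZMod (p ^ a i))) := fun v =>
    ⟨N, funext fun i => h0 i N (hN i) _⟩
  refine comm_pow_of_frattini_chain hG (fun k => (powMonoidHom (p ^ k)).ker ⊔ frattini _) N ?_ ?_
    (fun _ => le_sup_right) (fun k _ => ?_) fun k α x hx => ?_
  · refine sup_eq_right.2 fun x hx => ?_
    have : x = 1 := by simpa using hx
    rw [this]; exact one_mem _
  · exact eq_top_iff.2 fun v _ => mem_sup_left (funext fun i => h0 i N (hN i) _)
  · obtain ⟨z, hz1, hz2⟩ : ∃ z : ∀ i, Multiplicative (ZMod (p ^ a i)), z ^ p ^ (k + 1) = 1 ∧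
        ∀ i, a i = k + 1 → ∀ x, Pi.mulSingle i x ∈ zpowers z := by
      by_cases h : ∃ i, a i = k + 1
      · obtain ⟨i, hi⟩ := h
        refine ⟨Pi.mulSingle i (.ofAdd 1), by rw [← Pi.mulSingle_pow, h0 i _ hi.le]; simp,
          fun j hj x => ?_⟩
        obtain rfl : j = i := ha (hj.trans hi.symm)
        refine mem_powers_iff_mem_zpowers.1 ⟨x.toAdd.val, ?_⟩
        simp only [← Pi.mulSingle_pow, ← ofAdd_nsmul, nsmul_one, ZMod.natCast_val, ZMod.cast_id',
          id, ofAdd_toAdd]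
      · exact ⟨1, one_pow _, fun i hi => absurd ⟨i, hi⟩ h⟩
    refine ⟨z, mem_sup_left hz1, sup_le (fun v hv => ?_) (le_sup_right.trans le_sup_left)⟩
    rw [← Finset.univ_prod_mulSingle v]
    refine prod_mem fun i _ => ?_
    rcases lt_trichotomy (a i) (k + 1) with h | h | h
    · refine mem_sup_left (mem_sup_left ?_)
      rw [MonoidHom.mem_ker, powMonoidHom_apply, ← Pi.mulSingle_pow, h0 i _ (Nat.lt_succ_iff.1 h)]; simp
    · exact mem_sup_right (hz2 i h _)
    · have h1 : v i ^ p ^ (k + 1) = 1 := congrFun hv i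
      have h2 : ((p ^ (k + 1) * (v i).toAdd.val : ℕ) : ZMod (p ^ a i)) = 0 := by
        rw [Nat.cast_mul, ZMod.natCast_zmod_val, ← nsmul_eq_mul, ← toAdd_pow, h1, toAdd_one]
      rw [ZMod.natCast_eq_zero_iff] at h2
      obtain ⟨c, hc⟩ : p ∣ (v i).toAdd.val := Nat.dvd_of_mul_dvd_mul_left
        (pow_pos hp.out.pos (k + 1)) (((pow_succ p _).symm ▸ pow_dvd_pow p h).trans h2)
      have h3 : v i = Multiplicative.ofAdd (c : ZMod (p ^ a i)) ^ p := by
        rw [← ofAdd_nsmul, nsmul_eq_mul, ← Nat.cast_mul, ← hc, ZMod.natCast_zmod_val, ofAdd_toAdd]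
      rw [h3, Pi.mulSingle_pow]
      exact mem_sup_left (mem_sup_right (H3.pow_mem_frattini hG _))
  · obtain ⟨y, hy, w, hw, rfl⟩ := mem_sup.1 hx
    rw [map_mul]
    refine mul_mem_sup ?_ ((characteristic_iff_map_le.1 inferInstance) α ⟨w, hw, rfl⟩)
    change α y ^ p ^ k = 1
    rw [← map_pow, show y ^ p ^ k = 1 from hy, map_one]

theorem pAut_iff_of_comm {p : ℕ} [hp : Fact p.Prime] {G : Type*} [CommGroup G] [Finite G]
    (hG : IsPGroup p G) : PAut p G ↔ ¬ ∃ (n : ℕ) (H : Type) (_ : CommGroup H), 0 < n ∧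
      Nonempty (G ≃* (Multiplicative (ZMod (p ^ n)) × Multiplicative (ZMod (p ^ n))) × H) := by
  classical
  refine ⟨fun h ⟨n, H, _, hn, ⟨e⟩⟩ => not_pAut_double hn (h.of_equiv e), fun h => ?_⟩
  obtain ⟨ι, _, m, hm, ⟨e⟩⟩ := CommGroup.equiv_prod_multiplicative_zmod_of_finite G
  have h1 : ∀ i, ∃ a, m i = p ^ a := fun i => by
    have h1 := (hG.of_equiv e).of_surjective (Pi.evalMonoidHom _ i) (Function.surjective_eval i)
    haveI : NeZero (m i) := ⟨by have := hm i; omega⟩
    simpa using h1.exists_card_eq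
  choose a ha using h1
  obtain rfl : m = fun i => p ^ a i := funext ha
  refine (pAut_pi a fun i j hij => ?_).of_equiv e.symm
  by_contra hne
  have h2 : 0 < a i := Nat.pos_of_ne_zero fun h2 => by simpa [h2] using hm i
  let c : Multiplicative (ZMod (p ^ a j)) ≃* Multiplicative (ZMod (p ^ a i)) :=
    AddEquiv.toMultiplicative (ZMod.ringEquivCongr (by rw [hij])).toAddEquiv
  let ψ : (∀ k, Multiplicative (ZMod (p ^ a k))) →*
      (Multiplicative (ZMod (p ^ a i)) × Multiplicative (ZMod (p ^ a i))) ×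
        ∀ k : {k // k ≠ i ∧ k ≠ j}, Multiplicative (ZMod (p ^ a k)) :=
    MonoidHom.mk' (fun v => ((v i, c (v j)), fun k => v k)) fun v w => by
      simp only [Pi.mul_apply, map_mul]; rfl
  refine h ⟨a i, _, inferInstance, h2, ⟨e.trans (MulEquiv.ofBijective ψ ⟨fun v w hvw => ?_, ?_⟩)⟩⟩
  · funext k
    by_cases hi : k = i
    · rw [hi]; exact congrArg (·.1.1) hvw
    by_cases hj : k = j
    · rw [hj]; exact c.injective (congrArg (·.1.2) hvw)
    · exact congrFun (congrArg (·.2) hvw) ⟨k, hi, hj⟩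
  · rintro ⟨⟨x, y⟩, w⟩
    refine ⟨Function.update (Function.update
      (fun k => if h : k ≠ i ∧ k ≠ j then w ⟨k, h⟩ else 1) i x) j (c.symm y), ?_⟩
    refine Prod.ext (Prod.ext ?_ ?_) (funext fun ⟨k, hi, hj⟩ => ?_)
    · simp [ψ, Function.update_of_ne hne]
    · simp [ψ]
    · simp [ψ, hi, hj]

end Cfsg.Agent.H84
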