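import Cfsg.Prelude.Def_HallClasses
import Cfsg.Agent.H4.Basic

set_option autoImplicit false
set_option linter.style.haveILetI false

/-! Elementary API for pronormal subgroups. -/

namespace Cfsg.Agent.H84

open Subgroup Cfsg.Agent.H4

variable {G G' : Type*} [Group G] [Group G']

/-- `H` and `g H g⁻¹` are conjugate in the subgroup they generate. -/
def PnGood (H : Subgroup G) (g : G) : Prop :=
  ∃ x ∈ H ⊔ H.map (MulAut.conj g).toMonoidHom, x⁻¹ * g ∈ normalizer (H : Set G)

theorem map_conj_eq_map_conj_iff {H : Subgroup G} {g x : G} :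
    H.map (MulAut.conj g).toMonoidHom = H.map (MulAut.conj x).toMonoidHom ↔
      x⁻¹ * g ∈ normalizer (H : Set G) := by
  rw [← map_conj_eq_iff, ← map_conj_map_conj]
  constructor
  · intro h
    rw [h, map_conj_map_conj, inv_mul_cancel, map_conj_one]
  · intro h
    conv_rhs => rw [← h]
    rw [map_conj_map_conj, map_conj_map_conj, mul_inv_cancel, one_mul]

theorem isPronormal_iff {H : Subgroup G} : Cfsg.IsPronormal H ↔ ∀ g, PnGood H g := by
  unfold Cfsg.IsPronormal PnGood
  simp only [map_conj_eq_map_conj_iff]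

theorem map_conj_le_of_mem {H K : Subgroup G} {x : G} (hx : x ∈ K) (h : H ≤ K) :
    H.map (MulAut.conj x).toMonoidHom ≤ K := by
  rintro _ ⟨y, hy, rfl⟩
  exact mul_mem (mul_mem hx (h hy)) (inv_mem hx)

theorem PnGood.of_mul {H : Subgroup G} {g x : G}
    (hx : x ∈ H ⊔ H.map (MulAut.conj g).toMonoidHom) (h : PnGood H (x⁻¹ * g)) : PnGood H g := by
  obtain ⟨y, hy, h⟩ := h
  refine ⟨x * y, mul_mem hx ?_, by simpa [mul_assoc] using h⟩
  have : H ⊔ H.map (MulAut.conj (x⁻¹ * g)).toMonoidHom ≤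
      H ⊔ H.map (MulAut.conj g).toMonoidHom := by
    refine sup_le le_sup_left ?_
    rw [← map_conj_map_conj]
    exact map_conj_le_of_mem (inv_mem hx) le_sup_right
  exact this hy

theorem PnGood.mul_right {H : Subgroup G} {g n : G} (h : PnGood H g)
    (hn : n ∈ normalizer (H : Set G)) : PnGood H (g * n) := by
  obtain ⟨y, hy, h⟩ := h
  refine ⟨y, ?_, by simpa [mul_assoc] using mul_mem h hn⟩
  rwa [← map_conj_map_conj, map_conj_eq_iff.2 hn]

theorem map_map_conj (f : G →* G') (H : Subgroup G) (g : G) :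
    (H.map (MulAut.conj g).toMonoidHom).map f = (H.map f).map (MulAut.conj (f g)).toMonoidHom := by
  rw [map_map, map_map]
  congr 1
  ext x
  simp

theorem PnGood.map (f : G →* G') {H : Subgroup G} {g : G} (h : PnGood H g) :
    PnGood (H.map f) (f g) := by
  obtain ⟨y, hy, h⟩ := h
  refine ⟨f y, ?_, ?_⟩
  · rw [← map_map_conj, ← Subgroup.map_sup]
    exact mem_map_of_mem f hy
  · rw [← map_inv, ← map_mul]
    exact H.le_normalizer_map f (mem_map_of_mem f h)

theorem PnGood.exists_of_map (f : G →* G') {H : Subgroup G} {g : G} (h : PnGood (H.map f) (f g)) :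
    ∃ x ∈ H ⊔ H.map (MulAut.conj g).toMonoidHom,
      f (x⁻¹ * g) ∈ normalizer ((H.map f : Subgroup G') : Set G') := by
  obtain ⟨y, hy, h⟩ := h
  rw [← map_map_conj, ← Subgroup.map_sup] at hy
  obtain ⟨x, hx, rfl⟩ := hy
  exact ⟨x, hx, by rwa [map_mul, map_inv]⟩

theorem PnGood.of_map (f : G →* G') {H : Subgroup G} {g : G} (hf : f.ker ≤ H)
    (h : PnGood (H.map f) (f g)) : PnGood H g := by
  obtain ⟨x, hx, h⟩ := h.exists_of_map f
  refine ⟨x, hx, ?_⟩
  rw [mem_normalizer_iff] at h ⊢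
  intro y
  have h1 := h (f y)
  rw [← map_inv, ← map_mul, ← map_mul, ← mem_comap, ← mem_comap, comap_map_eq_self hf] at h1
  exact h1

theorem isPronormal_map (f : G →* G') (hf : Function.Surjective f) {H : Subgroup G}
    (h : Cfsg.IsPronormal H) : Cfsg.IsPronormal (H.map f) := by
  rw [isPronormal_iff] at h ⊢
  intro g
  obtain ⟨g, rfl⟩ := hf g
  exact (h g).map f

theorem isPronormal_subgroupOf {H N : Subgroup G} (hHN : H ≤ N) (h : Cfsg.IsPronormal H) :
    Cfsg.IsPronormal (H.subgroupOf N) := by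
  rw [isPronormal_iff] at h ⊢
  intro g
  apply PnGood.of_map N.subtype (by simp)
  rw [subgroupOf_map_subtype, inf_of_le_left hHN]
  exact h g

theorem pnGood_of_subgroupOf {H N : Subgroup G} (hHN : H ≤ N)
    (h : Cfsg.IsPronormal (H.subgroupOf N)) {g : G} (hg : g ∈ N) : PnGood H g := by
  have := (isPronormal_iff.1 h ⟨g, hg⟩).map N.subtype
  rwa [subgroupOf_map_subtype, inf_of_le_left hHN] at this

theorem exists_sylow_le_iff [Finite G] {p : ℕ} [Fact p.Prime] {K : Subgroup G} :
    (∃ P : Sylow p G, (P : Subgroup G) ≤ K) ↔ ¬ p ∣ K.index := by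
  constructor
  · rintro ⟨P, hP⟩ h
    exact P.not_dvd_index (h.trans (index_dvd_of_le hP))
  · intro h
    obtain ⟨Q⟩ : Nonempty (Sylow p K) := inferInstance
    have h1 : ¬ p ∣ ((Q : Subgroup K).map K.subtype).index := by
      rw [index_map_subtype]
      exact Nat.Prime.not_dvd_mul Fact.out Q.not_dvd_index h
    exact ⟨(Q.isPGroup'.map _).toSylow h1, map_subtype_le _⟩

end Cfsg.Agent.H84
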