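import Cfsg.Agent.H84.CUWitt

/-!
`SU₃(q)`, `q ≥ 3`, is generated by two conjugate regular unipotent elements.
-/

set_option autoImplicit false
set_option linter.unusedSectionVars false

namespace Cfsg.Agent.H84.CU

open Module H27 RU

variable {F V : Type*} [Field F] [AddCommGroup V] [Module F V]
  {σ : F →+* F} {B : V →ₛₗ[σ] V →ₗ[F] F} {H : Subgroup (V ≃ₗ[F] V)}

theorem chain8 {c : F} (h2 : (2 : F) = 0) (h6 : c ^ 6 + c ^ 3 + 1 = 0) (P : F → F → F → Prop)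
    (mR : ∀ a b d, P a b d → P a (c ^ 3 * b) d)
    (mT : ∀ a b d, P a b d → P (a + (1 + c ^ 2 + c ^ 4 + c ^ 5) * d) b d)
    (mU : ∀ a b d, P a b d ↔ P ((3 - c) * a + b - (c ^ 2 + c ^ 5) * d)
      (-(c * (1 + c ^ 2 + c ^ 4 + c ^ 5) * a) + c * b) a) (p0 : P 1 0 0) :
    P (c ^ 3 + c ^ 4) 0 0 := by
  have st : ∀ {a b d a' b' d'}, P a b d → a = a' → b = b' → d = d' → P a' b' d' := by
    rintro _ _ _ _ _ _ h rfl rfl rfl; exact h
  have p1 : P 0 0 (c) :=
    (mU _ _ _).2 (st p0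
      (by linear_combination (1) * h6 + 0 * h2)
      (by linear_combination 0 * h6 + 0 * h2)
      (by linear_combination 0 * h6 + 0 * h2))
  have p2 : P (1 + c ^ 2 + c ^ 3 + c ^ 5) (1 + c + c ^ 2) (1 + c + c ^ 5) :=
    st ((mU _ _ _).1 (mT _ _ _ p1))
      (by linear_combination (1 + (-1) * c) * h6 + ((-1) + 2 * c + (-1) * c ^ 2 + c ^ 5) * h2)
      (by linear_combination ((-1) + (-1) * c + (-1) * c ^ 3 + (-1) * c ^ 4 + (-2) * c ^ 5 + (-1) * c ^ 6) * h6 + ((-1) * c ^ 2 + c ^ 3 + c ^ 5) * h2)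
      (by linear_combination (1) * h6 + ((-1)) * h2)
  have p3 : P (1 + c + c ^ 5) (1 + c + c ^ 3 + c ^ 4 + c ^ 5) (1 + c ^ 2 + c ^ 3 + c ^ 4 + c ^ 5) :=
    (mU _ _ _).2 (st (mR _ _ _ p2)
      (by linear_combination (1 + c + c ^ 2 + c ^ 3 + c ^ 4) * h6 + ((-2) + (-2) * c + c ^ 2 + (-1) * c ^ 3 + (-1) * c ^ 4 + (-1) * c ^ 5) * h2)
      (by linear_combination (2 + c ^ 4 + c ^ 5) * h6 + ((-1)) * h2)
      (by linear_combination 0 * h6 + 0 * h2))
  have p4 : P (1 + c + c ^ 2 + c ^ 3 + c ^ 4) (c ^ 2 + c ^ 3) (c + c ^ 3) :=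
    st ((mU _ _ _).1 (mT _ _ _ p3))
      (by linear_combination ((-2) + 5 * c + 3 * c ^ 2 + 3 * c ^ 3 + (-1) * c ^ 5) * h6 + (4 + (-2) * c + c ^ 4 + 3 * c ^ 5) * h2)
      (by linear_combination ((-2) + 3 * c + (-1) * c ^ 2 + (-1) * c ^ 3 + (-6) * c ^ 4 + (-5) * c ^ 5 + (-4) * c ^ 6 + (-5) * c ^ 7 + (-4) * c ^ 8 + (-3) * c ^ 9 + (-1) * c ^ 10) * h6 + (1 + (-2) * c + (-1) * c ^ 3 + c ^ 4) * h2)
      (by linear_combination (2 * c + 2 * c ^ 2 + 2 * c ^ 3 + c ^ 4) * h6 + (1 + (-1) * c + (-1) * c ^ 3 + c ^ 5) * h2)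
  have p5 : P (c + c ^ 3) (1 + c ^ 2 + c ^ 3) (c ^ 3 + c ^ 4) :=
    (mU _ _ _).2 (st (mR _ _ _ p4)
      (by linear_combination (c ^ 2 + c ^ 3) * h6 + ((-1) * c + (-2) * c ^ 3 + c ^ 4) * h2)
      (by linear_combination (2 + c + c ^ 2 + c ^ 3) * h6 + ((-1) + (-1) * c + (-2) * c ^ 3) * h2)
      (by linear_combination 0 * h6 + 0 * h2))
  have p6 : P (c ^ 3 + c ^ 4) 0 0 :=
    (mU _ _ _).2 (st (mT _ _ _ p5)
      (by linear_combination (c + 2 * c ^ 2 + c ^ 3) * h6 + ((-1) * c ^ 2 + (-1) * c ^ 3 + (-1) * c ^ 4) * h2)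
      (by linear_combination ((-1) + c ^ 2 + 2 * c ^ 3 + c ^ 4) * h6 + (1) * h2)
      (by linear_combination 0 * h6 + 0 * h2))
  exact p6

theorem arith58 {q r k : ℕ} (hq : 3 ≤ q) (hr : 2 ≤ r) (hk : 2 ≤ k) (e : q ^ 2 = r ^ k)
    (h : q + 1 ∣ 3 * (r - 1)) : q = 5 ∨ q = 8 := by
  rcases Nat.even_or_odd' k with ⟨j, rfl | rfl⟩
  · rw [mul_comm, pow_mul] at e
    obtain rfl := Nat.pow_left_injective two_ne_zero e
    have h1 := h.trans (Nat.mul_dvd_mul_left 3 (Nat.sub_one_dvd_pow_sub_one r j))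
    have h2 : r ^ j + 1 ∣ 6 :=
      (Nat.dvd_add_right h1).1 (show 3 * (r ^ j - 1) + 6 = (r ^ j + 1) * 3 by omega ▸
        Dvd.intro _ rfl)
    have := Nat.le_of_dvd (by norm_num) h2
    generalize r ^ j = q at *
    have h3 : q ≤ 5 := by omega
    interval_cases q <;> omega
  · have h1 : r ^ j ∣ q := (Nat.pow_dvd_pow_iff two_ne_zero).1 ⟨r, by rw [e]; ring⟩
    obtain ⟨t, rfl⟩ := h1
    have h2 : t ^ 2 = r := Nat.eq_of_mul_eq_mul_left (pow_pos (pow_pos (by omega : 0 < r) j) 2)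
      (by rw [← mul_pow, e]; ring)
    have h3 := Nat.le_of_dvd (by omega) h
    have h4 : r ≤ r ^ j := Nat.le_self_pow (by omega) r
    have h5 : r * t ≤ r ^ j * t := Nat.mul_le_mul_right t h4
    have h6 : t < 3 := by
      by_contra hc
      have : r * 3 ≤ r * t := Nat.mul_le_mul_left r (by omega)
      omega
    have h7 : t = 2 := by interval_cases t <;> omega
    subst h7
    obtain rfl : r = 4 := by omega
    generalize 4 ^ j * 2 = q at *
    have h8 : q ≤ 8 := by omega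
    interval_cases q <;> omega

variable (S : SkH B)
include S

theorem es_valid (hH : H ≤ Iso B) {u v : V} {t : F} (hu : B u u = 0) (hv : B u v = 0) (h0 : u ≠ 0)
    (h : ES B H u v t) : t - σ t = B v v := by
  obtain ⟨g, hg, e⟩ := h.exists
  obtain ⟨z, hz⟩ : ∃ z, B u z ≠ 0 := by
    by_contra hc
    push Not at hc
    exact h0 (S.nd u hc)
  have := hH hg z z
  simp only [e, map_add, LinearMap.map_smulₛₗ, LinearMap.add_apply, LinearMap.smul_apply, hu, hv,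
    S.zero_symm hv, smul_eq_mul, map_mul, RingHom.id_apply, S.skew u z, S.skew v z] at this
  have h1 : σ (B u z) ≠ 0 := (map_ne_zero σ).2 hz
  refine mul_left_cancel₀ (mul_ne_zero hz h1) ?_
  linear_combination -this

theorem qs_of_es (hH : H ≤ Iso B) {z : V} (hz : AS B H z) (h0 : z ≠ 0)
    (h : ∀ y, B z y = 0 → ∃ t, ES B H z y t) : QS B H z :=
  ⟨hz.1, fun y t h1 h2 => by
    obtain ⟨t', ht⟩ := h y h1
    have := es_valid S hH hz.1 h1 h0 ht
    simpa using es_add_t1 S hz.1 h1 ht (hz.2 (t - t') (by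
      rw [map_sub]; linear_combination this - h2))⟩

theorem es_self {z : V} (a : F) : ES B H z (a • z) (-a - σ a) :=
  (has_id H).congr fun x => by
    simp only [LinearMap.map_smulₛₗ, LinearMap.smul_apply, smul_eq_mul]
    module

theorem es_of_smul {u v : V} {t a : F} (h : ES B H (a • u) v t) :
    ES B H u (σ a • v) (σ a * a * t) :=
  Has.congr h fun z => by
    simp only [LinearMap.map_smulₛₗ, LinearMap.smul_apply, smul_eq_mul, S.inv]
    module

omit S in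
theorem t1_conj {v : V} {a : F} (h : T1 H v (a • B v)) {g : V ≃ₗ[F] V} (hg : g ∈ H)
    (hi : g ∈ Iso B) : T1 H (g v) (a • B (g v)) :=
  T1.of_conj hg (by
    rwa [show (a • B (g v)) ∘ₗ (g : V →ₗ[F] V) = a • B v from LinearMap.ext fun x => by
      simp [hi v x]])

omit S in
theorem t1_smul' {v : V} {a l : F} : T1 H (l • v) (a • B (l • v)) ↔ T1 H v ((σ l * l * a) • B v) := by
  rw [t1_smul, LinearMap.map_smulₛₗ, smul_smul, smul_smul, show l * a * σ l = σ l * l * a by ring]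

omit S in
theorem as_of_t1 {v : V} {a : F} (hv : B v v = 0) (ha : a ≠ 0) (ha' : σ a = a)
    (h : T1 H v (a • B v)) (hM : ∀ M : Subring F, (∀ l, (∀ b, T1 H v (b • B v) →
      T1 H v ((l * b) • B v)) → l ∈ M) → ∀ y, σ y = y → y ∈ M) : AS B H v :=
  ⟨hv, fun c hc => by
    have := hM (mult (fun b : F => T1 H v (b • B v)) (by simpa using t1_zero_right v)
      (fun a b ha hb => by rw [add_smul]; exact ha.add_right hb (by simp [hv]))
      (fun a ha => Has.congr (ha.neg_right (by simp [hv])) fun x => by simp)) (fun _ h => h) (c / a)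
      (by rw [map_div₀, hc, ha']) a h
    rwa [div_mul_cancel₀ _ ha] at this⟩

/-- The configuration of the two regular unipotent elements. -/
structure Cfg (B : V →ₛₗ[σ] V →ₗ[F] F) (x w p : V) (c β : F) : Prop where
  xx : B x x = 0
  xw : B x w = 0
  ww : B w w ≠ 0
  pp : B p p = 0
  wp : B w p = 0
  xp : B x p = B w w * β
  span : ∀ v, ∃ a b d : F, v = a • x + b • w + d • p
  dim : finrank F V = 3
  c0 : c ≠ 0
  c1 : c ≠ 1
  cc : σ c = c⁻¹
  hβ : β = (c - 1) ^ 3 / c ^ 2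

namespace Cfg

variable [FiniteDimensional F V] {x w p : V} {c β : F} (C : Cfg B x w p c β)
include C

omit S in
theorem β0 : β ≠ 0 := C.hβ ▸ div_ne_zero (pow_ne_zero _ (sub_ne_zero.2 C.c1)) (pow_ne_zero _ C.c0)

omit S in
theorem σβ : σ β = -(c * β) := by
  have := C.c0
  rw [C.hβ, map_div₀, map_pow, map_pow, map_sub, map_one, C.cc]
  field_simp
  ring

theorem px : B p x = -(B w w * (c * β)) := by
  rw [S.skew, C.xp, map_mul, C.σβ, S.norm_skew]; ring

omit S in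
theorem ext {g g' : V → V} (h : IsLinearMap F g) (h' : IsLinearMap F g') (h1 : g x = g' x)
    (h2 : g w = g' w) (h3 : g p = g' p) (v : V) : g v = g' v := by
  obtain ⟨a, b, d, rfl⟩ := C.span v
  simp only [h.map_add, h.map_smul, h'.map_add, h'.map_smul, h1, h2, h3]

theorem exists_GG (M : Matrix (Fin 3) (Fin 3) F) (hd : M.det = 1) {x' w' p' : V}
    (e1 : x' = M 0 0 • x + M 1 0 • w + M 2 0 • p) (e2 : w' = M 0 1 • x + M 1 1 • w + M 2 1 • p)
    (e3 : p' = M 0 2 • x + M 1 2 • w + M 2 2 • p) (h1 : B x' x' = 0) (h2 : B x' w' = 0)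
    (h3 : B w' w' = B w w) (h4 : B p' p' = 0) (h5 : B w' p' = 0) (h6 : B x' p' = B x p) :
    ∃ g ∈ GG B, g x = x' ∧ g w = w' ∧ g p = p' := by
  let b := basisOfTopLeSpanOfCardEqFinrank (R := F) ![x, w, p] (fun v _ => by
    obtain ⟨a, b, d, rfl⟩ := C.span v
    exact add_mem (add_mem (Submodule.smul_mem _ _ (Submodule.subset_span ⟨0, rfl⟩))
      (Submodule.smul_mem _ _ (Submodule.subset_span ⟨1, rfl⟩)))
      (Submodule.smul_mem _ _ (Submodule.subset_span ⟨2, rfl⟩))) (by simp [C.dim])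
  have hb : ⇑b = ![x, w, p] := coe_basisOfTopLeSpanOfCardEqFinrank _ _ _
  let g := glB b (Matrix.GeneralLinearGroup.mkOfDetNeZero M (hd ▸ one_ne_zero))
  have hg : ∀ i, g (b i) = M 0 i • x + M 1 i • w + M 2 i • p := fun i => by
    change (g : V →ₗ[F] V) _ = _
    rw [glB_coe, Matrix.toLin_self, Fin.sum_univ_three, hb]
    rfl
  have g1 : g x = x' := by simpa [hb, e1] using hg 0
  have g2 : g w = w' := by simpa [hb, e2] using hg 1
  have g3 : g p = p' := by simpa [hb, e3] using hg 2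
  refine ⟨g, ⟨fun v v' => ?_, mem_SLV.2 ((det_glB _ _).trans hd)⟩, g1, g2, g3⟩
  obtain ⟨a, b, d, rfl⟩ := C.span v
  obtain ⟨a', b', d', rfl⟩ := C.span v'
  simp only [map_add, LinearMap.map_smulₛₗ, map_smul, g1, g2, g3, LinearMap.add_apply,
    LinearMap.smul_apply, h1, h2, h3, h4, h5, h6, S.zero_symm h2, S.zero_symm h5, C.xx, C.xw, C.pp,
    C.wp, S.zero_symm C.xw, S.zero_symm C.wp, S.skew x' p', S.skew x p]

theorem exists_pair : ∃ u ∈ GG B, ∃ g ∈ GG B, (u x = (3 - c) • x + (-(c * β)) • w + p ∧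
    u w = x + c • w ∧ u p = (-c⁻¹) • x) ∧ g x = c • p ∧ g w = c⁻¹ • w ∧ g p = -x := by
  have c0 := C.c0
  have hω := C.ww
  have e : ∀ a : F, σ a⁻¹ = (σ a)⁻¹ := map_inv₀ σ
  obtain ⟨u, hu, h⟩ := C.exists_GG S !![3 - c, 1, -c⁻¹; -(c * β), c, 0; 1, 0, 0]
    (by simp [Matrix.det_fin_three, c0]) (x' := (3 - c) • x + (-(c * β)) • w + p)
    (w' := x + c • w) (p' := (-c⁻¹) • x) (by simp) (by simp) (by simp)
    (by
      simp [C.xx, C.xw, C.pp, C.wp, S.zero_symm C.xw, S.zero_symm C.wp, C.xp, C.px S, C.cc, C.σβ,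
        map_ofNat]
      rw [C.hβ]; field_simp; ring)
    (by
      simp [C.xx, C.xw, S.zero_symm C.xw, S.zero_symm C.wp, C.px S, C.cc, C.σβ]
      field_simp; ring)
    (by simp [C.xx, C.xw, S.zero_symm C.xw, C.cc, c0]) (by simp [C.xx])
    (by simp [C.xx, S.zero_symm C.xw])
    (by simp [C.xx, S.zero_symm C.xw, C.px S, C.xp]; field_simp)
  obtain ⟨g, hg, h'⟩ := C.exists_GG S !![0, 0, -1; 0, c⁻¹, 0; c, 0, 0]
    (by simp [Matrix.det_fin_three, c0]) (x' := c • p) (w' := c⁻¹ • w) (p' := -x)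
    (by simp) (by simp) (by simp) (by simp [C.pp]) (by simp [S.zero_symm C.wp])
    (by simp [C.cc, c0]) (by simp [C.xx]) (by simp [S.zero_symm C.xw])
    (by simp [C.px S, C.xp, C.cc]; field_simp)
  exact ⟨u, hu, g, hg, h, h'⟩

end Cfg

end Cfsg.Agent.H84.CU
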