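import Cfsg.Agent.H84.CU3a

/-!
`SU₃(q)`, `q ≥ 3`, is generated by two conjugate regular unipotent elements.
-/

set_option autoImplicit false
set_option linter.unusedSectionVars false

namespace Cfsg.Agent.H84.CU

open Module H27 RU

variable {F V : Type*} [Field F] [AddCommGroup V] [Module F V]
  {σ : F →+* F} {B : V →ₛₗ[σ] V →ₗ[F] F} {H : Subgroup (V ≃ₗ[F] V)}

/-- The special isometry group is generated by two conjugates of a regular unipotent element. -/
def G2 (B : V →ₛₗ[σ] V →ₗ[F] F) (n : ℕ) : Prop :=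
  ∃ u ∈ GG B, ∃ g ∈ GG B, IsNilpotent ((u : End F V) - 1) ∧
    ((u : End F V) - 1) ^ (n - 1) ≠ 0 ∧ GG B ≤ Subgroup.closure {u, g * u * g⁻¹}

theorem G2.g3 {n : ℕ} (h : G2 B n) : G3 B n := by
  obtain ⟨u, hu, g, hg, h1, h2, h3⟩ := h
  exact ⟨u, hu, g, hg, g, hg, h1, h2, by rwa [Set.pair_eq_singleton]⟩

/-- The elements `u` and `h = u v` of the configuration. -/
structure Els (H : Subgroup (V ≃ₗ[F] V)) (x w p : V) (c β : F) (u h : V ≃ₗ[F] V) : Prop where
  hu : u ∈ H
  hh : h ∈ H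
  ux : u x = (3 - c) • x + (-(c * β)) • w + p
  uw : u w = x + c • w
  up : u p = (-c⁻¹) • x
  hx : h x = (-c⁻¹) • x
  hw : h w = c ^ 2 • w
  hp : h p = (-c⁻¹) • (p + (6 - 2 * c + β) • x)

variable [FiniteDimensional F V] (S : SkH B) {x w p : V} {c β : F} (C : Cfg B x w p c β)

include S in
theorem t1_valid (hH : H ≤ Iso B) {v : V} {a : F} (hv : B v v = 0) (h0 : v ≠ 0)
    (h : T1 H v (a • B v)) : σ a = a := by
  have := es_valid S hH (v := 0) (t := a) hv (by simp) h0 (Has.congr h fun z => by simp)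
  rw [map_zero] at this
  linear_combination -this

include S C in
theorem Cfg.g2 (key : ∀ (H : Subgroup (V ≃ₗ[F] V)) u h, H ≤ Iso B → Els H x w p c β u h →
    GG B ≤ H) : G2 B 3 := by
  obtain ⟨u, hu, g, hg, ⟨ux, uw, up⟩, gx, gw, gp⟩ := C.exists_pair S
  have c0 := C.c0
  have h1 : u ∈ Subgroup.closure {u, g * u * g⁻¹} := Subgroup.subset_closure (by simp)
  have h2 : g * u * g⁻¹ ∈ Subgroup.closure {u, g * u * g⁻¹} := Subgroup.subset_closure (by simp)
  have e : ∀ y, (u * (g * u * g⁻¹)) (g y) = u (g (u y)) := fun y => by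
    simp only [le_mul_apply, le_inv_apply]
  refine ⟨u, hu, g, hg, ⟨3, LinearMap.ext (C.ext (LinearMap.isLinear _) (LinearMap.isLinear _)
    ?_ ?_ ?_)⟩, fun h0 => ?_, key _ u _ ?_ ⟨h1, mul_mem h1 h2, ux, uw, up, ?_, ?_, ?_⟩⟩
  iterate 3
    simp only [pow_succ_apply', pow_zero, End.one_apply, NN_apply, ux, uw, up, map_add, map_sub,
      map_smul, LinearMap.zero_apply]
    match_scalars <;> (try rw [C.hβ]) <;> field_simp <;> ring
  · have := congrArg (B x) (LinearMap.congr_fun h0 p)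
    simp only [pow_succ_apply', pow_zero, End.one_apply, NN_apply, ux, up, map_add, map_sub,
      map_smul, LinearMap.zero_apply, C.xx, C.xw, C.xp, smul_eq_mul, map_zero] at this
    refine mul_ne_zero (mul_ne_zero C.ww C.β0) (sub_ne_zero.2 C.c1) ?_
    field_simp at this
    linear_combination this
  · exact (Subgroup.closure_le _).2 (by
      rintro _ (rfl | rfl)
      · exact hu.1
      · exact mul_mem (mul_mem hg.1 hu.1) (inv_mem hg.1))
  · have := e (-p)
    simp only [map_neg, gp, neg_neg, up, map_smul, gx] at this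
    rw [this]
    match_scalars; field_simp
  · have := e (c • w)
    simp only [map_smul, gw, smul_smul, mul_inv_cancel₀ c0, one_smul, uw, map_add, gx, up] at this
    rw [this]
    match_scalars <;> field_simp <;> ring
  · have := e (c⁻¹ • x)
    simp only [map_smul, gx, smul_smul, inv_mul_cancel₀ c0, one_smul, ux, map_add, gw, gp, up, uw,
      map_neg] at this
    rw [this]
    match_scalars <;> field_simp <;> ring

namespace Els

variable {u h : V ≃ₗ[F] V} (E : Els H x w p c β u h) (hH : H ≤ Iso B)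
include E

theorem pow (k : ℕ) : (h ^ k) x = (-c⁻¹) ^ k • x ∧ (h ^ k) w = (c ^ 2) ^ k • w ∧
    (h ^ k) p = (-c⁻¹) ^ k • (p + (k * (6 - 2 * c + β)) • x) := by
  induction k with
  | zero => simp
  | succ k ih =>
    simp only [pow_succ' h, le_mul_apply, ih, map_smul, map_add, E.hx, E.hw, E.hp]
    refine ⟨?_, ?_, ?_⟩ <;> match_scalars <;> push_cast <;> ring

include C in
theorem tv {k : ℕ} (h1 : (-c⁻¹) ^ k = 1) (h2 : (c ^ 2) ^ k = 1) :
    T1 H x ((k * (6 - 2 * c + β) / (B w w * β)) • B x) := by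
  obtain ⟨e1, e2, e3⟩ := E.pow k
  have := mul_ne_zero C.ww C.β0
  refine ⟨h ^ k, pow_mem E.hh k, C.ext (h ^ k).toLinearMap.isLinear
    ⟨fun a b => by simp only [map_add]; module, fun a b => by simp only [map_smul]; module⟩
    ?_ ?_ ?_⟩
  · simp [e1, h1, C.xx]
  · simp [e2, h2, C.xw]
  · simp [e3, h1, C.xp, div_mul_cancel₀ _ this]

include S C in
theorem hom [Fintype F] :
    ∃ r ∈ H, ∀ v, r v = (-c⁻¹) • (v + ((-c ^ 3 - 1) / B w w * B w v) • w) := by
  obtain ⟨e1, e2, e3⟩ := E.pow (Fintype.card F)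
  have := C.ww
  have c0 := C.c0
  simp only [FiniteField.pow_card, FiniteField.cast_card_eq_zero] at e1 e2 e3
  refine ⟨_, pow_mem E.hh (Fintype.card F), C.ext (h ^ Fintype.card F).toLinearMap.isLinear
    ⟨fun a b => by simp only [map_add]; module, fun a b => by
      simp only [map_smul, smul_eq_mul]; module⟩ ?_ ?_ ?_⟩
  · simp [e1, S.zero_symm C.xw]
  · rw [e2]; match_scalars; field_simp; ring
  · simp [e3, C.wp]

include S C hH

theorem le_gen [Fintype F] (htr : ∀ t, σ t = t → ∃ d, t = d + σ d) (h1 : -c ^ 3 ≠ 1)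
    (hgen : ∀ M : Subring F, -c ^ 3 ∈ M → M = ⊤) : GG B ≤ H := by
  have c0 := C.c0
  have hω := C.ww
  have wx := S.zero_symm C.xw
  obtain ⟨r, hr, er⟩ := E.hom S C
  obtain ⟨κ, hκ⟩ : ∃ κ, κ = (-c ^ 3 - 1) / B w w := ⟨_, rfl⟩
  rw [← hκ] at er
  have hσκ : σ κ * (-c ^ 3) = κ := by
    rw [hκ, map_div₀, map_sub, map_neg, map_pow, map_one, C.cc, S.norm_skew]
    field_simp
    ring
  have hκω : κ * B w w = -c ^ 3 - 1 := hκ ▸ div_mul_cancel₀ _ hω
  have h2 : ES B H x ((-(κ * c)) • w) (-κ + σ κ * κ * B w w) := by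
    refine ⟨r * (u * r * u⁻¹)⁻¹, mul_mem hr (inv_mem (mul_mem (mul_mem E.hu hr) (inv_mem E.hu))),
      fun y => ?_⟩
    obtain ⟨y, rfl⟩ := (u * r * u⁻¹).surjective y
    have hu' : B w (u⁻¹ y) = B (u w) y := by rw [← hH E.hu w, le_apply_inv]
    rw [le_mul_apply, le_inv_apply]
    simp only [le_mul_apply, er, map_smul, map_add, le_apply_inv, hu', E.uw,
      LinearMap.map_smulₛₗ, LinearMap.add_apply, LinearMap.smul_apply, smul_eq_mul, C.xx, C.xw, wx,
      map_neg, map_mul, C.cc, RingHom.id_apply]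
    match_scalars
    · ring
    · field_simp; ring
    · field_simp
      linear_combination -(c * B w y) * hσκ - c * σ κ * B w y * hκω
  have h3 : ∀ a : F, ∃ t, ES B H x (a • w) t := fun a => by
    have h4 : -(κ * c) ≠ 0 :=
      neg_ne_zero.2 (mul_ne_zero (hκ ▸ div_ne_zero (sub_ne_zero.2 h1) hω) c0)
    have := hgen (mult (fun a : F => ∃ t, ES B H x (a • w) t) ⟨_, by simpa using es_self S 0⟩
      (fun a b ⟨t, ht⟩ ⟨t', ht'⟩ => ⟨_, by
        rw [add_smul]; exact S.es_comp C.xx (by simp [C.xw]) (by simp [C.xw]) ht ht'⟩)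
      (fun a ⟨t, ht⟩ => ⟨_, by rw [neg_smul]; exact S.es_neg C.xx (by simp [C.xw]) ht⟩))
      fun a ⟨t, ht⟩ => ⟨_, by
        have := ht.conj hr (hH hr)
        rw [er x, wx, mul_zero, zero_smul, add_zero] at this
        convert es_of_smul S this using 1
        simp only [er, map_smul, map_neg, map_inv₀, C.cc, inv_inv]
        match_scalars
        field_simp
        linear_combination -a * hκω⟩
    have h5 : a / -(κ * c) ∈ (⊤ : Subring F) := trivial
    rw [← this] at h5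
    simpa only [div_mul_cancel₀ _ h4] using h5 _ ⟨_, h2⟩
  have hxp : B x p ≠ 0 := C.xp ▸ mul_ne_zero hω C.β0
  obtain ⟨t1, ht1⟩ := h3 1
  have h4 : QS B H x := qs_of_es S hH (S.as_of_es htr C.xx C.xw (by simp [C.xw]) (by simpa using hω)
    h3 ht1) (by rintro rfl; simp at hxp) fun y hy => by
      obtain ⟨a, b, d, rfl⟩ := C.span y
      obtain rfl : d = 0 := by simpa [C.xx, C.xw, hxp] using hy
      obtain ⟨t, ht⟩ := h3 b
      exact ⟨_, by
        simpa using S.es_comp C.xx (by simp [C.xx]) (by simp [C.xw]) (es_self S a) ht⟩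
  exact le_of_qs S hH h4 (h4.conj E.hu (hH E.hu)) (by simpa [E.ux, C.xx, C.xw] using hxp)

theorem le_tri (tri : ∀ y v1 v2 v3, AS B H v1 → AS B H v2 → AS B H v3 → B v1 v2 ≠ 0 → B y v1 = 0 →
    B y v2 = 0 → B y v3 ≠ 0 → GG B ≤ H) (hx : AS B H x) : GG B ≤ H := by
  refine tri w x p (u x) hx ?_ (hx.conj E.hu (hH E.hu)) (C.xp ▸ mul_ne_zero C.ww C.β0)
    (S.zero_symm C.xw) C.wp (by simp [E.ux, S.zero_symm C.xw, C.wp, C.c0, C.β0, C.ww])
  have := (S.as_smul hx (-c⁻¹)).conj (inv_mem E.hu) (hH (inv_mem E.hu))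
  rwa [← E.up, le_inv_apply] at this

theorem as5 (h5 : (5 : F) = 0) (hc : c ^ 2 - c + 1 = 0) (hσ : ∀ y, σ y = y ^ 5) : AS B H x := by
  have c0 := C.c0
  have h3 : c ^ 3 = -1 := by linear_combination (c + 1) * hc
  have h1 := E.tv C (k := 3) (by rw [neg_pow, inv_pow, h3]; norm_num)
    (by rw [← pow_mul, mul_comm, pow_mul, h3]; norm_num)
  have hxp : B x p ≠ 0 := C.xp ▸ mul_ne_zero C.ww C.β0
  have h0 : x ≠ 0 := by rintro rfl; simp at hxp
  refine as_of_t1 C.xx (div_ne_zero (fun e => ?_) (mul_ne_zero C.ww C.β0))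
    (t1_valid S hH C.xx h0 h1) h1 fun M _ y hy => ?_
  · rw [C.hβ] at e
    field_simp at e
    refine one_ne_zero (α := F) ?_
    push_cast at e
    have e1 : 2 * c = 1 := by linear_combination -e + (-3 * c + 6) * hc + (4 * c - 2) * h5
    linear_combination 8 * hc - 2 * (2 * c - 1) * e1 - h5
  · have : y * (y - 1) * (y - 2) * (y - 3) * (y - 4) = 0 := by
      rw [hσ] at hy
      linear_combination hy + (-2 * y ^ 4 + 7 * y ^ 3 - 10 * y ^ 2 + 5 * y) * h5
    simp only [mul_eq_zero, sub_eq_zero] at this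
    rcases this with (((rfl | rfl) | rfl) | rfl) | rfl
    exacts [zero_mem _, one_mem _, ofNat_mem M 2, ofNat_mem M 3, ofNat_mem M 4]

theorem as8 [Fintype F] (h2 : (2 : F) = 0) (h6 : c ^ 6 + c ^ 3 + 1 = 0) (hσ : ∀ y, σ y = y ^ 8) :
    AS B H x := by
  have c0 := C.c0
  have hω := C.ww
  have β0 := C.β0
  have wx := S.zero_symm C.xw
  have h9 : c ^ 9 = 1 := by linear_combination (c ^ 3 - 1) * h6
  have ci : c⁻¹ = c ^ 2 + c ^ 5 := by field_simp; linear_combination -h6 + h2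
  have hβ : β = 1 + c ^ 2 + c ^ 4 + c ^ 5 := by
    rw [C.hβ]; field_simp
    linear_combination (-c - 1) * h6 + (c ^ 3 + 2 * c - 2 * c ^ 2) * h2
  have h1 := E.tv C (k := 9) (by rw [neg_pow, inv_pow, h9]; linear_combination -h2)
    (by rw [← pow_mul, mul_comm, pow_mul, h9]; norm_num)
  rw [show ((9 : ℕ) * (6 - 2 * c + β) / (B w w * β) : F) = (B w w)⁻¹ by
    field_simp; push_cast; linear_combination (27 - 9 * c + 4 * β) * h2] at h1
  obtain ⟨r, hr, er⟩ := E.hom S C
  obtain ⟨t, ht, et⟩ := h1.exists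
  have h3 := fun (k : F) (hk : T1 H x (k • B x)) => chain8 h2 h6
    (fun a b d => T1 H (a • x + b • w + d • p) (k • B (a • x + b • w + d • p)))
    (fun a b d h => by
      have := t1_conj h hr (hH hr)
      rw [er, t1_smul', map_neg, map_inv₀, C.cc, inv_inv, neg_mul_neg, mul_inv_cancel₀ c0,
        one_mul] at this
      have e : a • x + b • w + d • p + ((-c ^ 3 - 1) / B w w * B w (a • x + b • w + d • p)) • w =
          a • x + (c ^ 3 * b) • w + d • p := by
        simp only [map_add, map_smul, wx, C.wp, smul_eq_mul]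
        match_scalars
        · ring
        · field_simp; linear_combination -c ^ 3 * b * B w w * h2
        · ring
      rwa [e] at this)
    (fun a b d h => by
      have := t1_conj h ht (hH ht)
      have e : t (a • x + b • w + d • p) = (a + β * d) • x + b • w + d • p := by
        simp only [et, map_add, map_smul, C.xx, C.xw, C.xp, smul_eq_mul, LinearMap.smul_apply]
        match_scalars
        · field_simp; ring
        · ring
        · ring
      rwa [e, hβ] at this)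
    (fun a b d => by
      have e : u (a • x + b • w + d • p) =
          ((3 - c) * a + b - c⁻¹ * d) • x + (-(c * β * a) + c * b) • w + a • p := by
        simp only [map_add, map_smul, E.ux, E.uw, E.up]
        module
      rw [← ci, ← hβ, ← e]
      exact ⟨fun h => t1_conj h E.hu (hH E.hu), fun h => by
        simpa only [le_inv_apply] using t1_conj h (inv_mem E.hu) (hH (inv_mem E.hu))⟩)
    (by simpa using hk)
  have hxp : B x p ≠ 0 := C.xp ▸ mul_ne_zero C.ww C.β0
  have h0 : x ≠ 0 := by rintro rfl; simp at hxp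
  have h4 : σ (c ^ 3 + c ^ 4) * (c ^ 3 + c ^ 4) = c + c ^ 2 + c ^ 5 := by
    rw [map_add, map_pow, map_pow, C.cc]
    field_simp
    linear_combination (-1) * h6 + (1 + c) * h2
  simp only [zero_smul, add_zero, t1_smul', h4] at h3
  have e1 : (c + c ^ 2 + c ^ 5) ^ 3 + (c + c ^ 2 + c ^ 5) + 1 = 0 :=
    by linear_combination ((-1) + 3 * c + 3 * c ^ 2 + 3 * c ^ 5 + 2 * c ^ 6 + c ^ 9) * h6 + (1 + (-1) * c + (-1) * c ^ 2 + c ^ 3 + (-1) * c ^ 5) * h2
  generalize c + c ^ 2 + c ^ 5 = n at e1 h3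
  have h7 : IsPrimitiveRoot n 7 := by
    have := Fact.mk (show Nat.Prime 7 by norm_num)
    refine IsPrimitiveRoot.iff_orderOf.2 (orderOf_eq_prime ?_ ?_)
    · linear_combination (n ^ 4 - n ^ 2 - n + 1) * e1 + (n ^ 2 - 1) * h2
    · rintro rfl
      exact one_ne_zero (α := F) (by linear_combination e1 - h2)
  refine as_of_t1 C.xx (inv_ne_zero hω) (t1_valid S hH C.xx h0 h1) h1 fun M hM y hy => ?_
  rcases eq_or_ne y 0 with rfl | hy0
  · exact zero_mem M
  obtain ⟨i, -, rfl⟩ := h7.eq_pow_of_pow_eq_one (ξ := y) (mul_left_cancel₀ hy0 (by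
    rw [hσ] at hy; linear_combination hy))
  exact pow_mem (hM n h3) i

end Els

section Std

open H10

theorem g2_su3 {F : Type*} [Field F] [Fintype F] {q : ℕ} [hF : Fact (Fintype.card F = q ^ 2)]
    {ζ : F} (hq : 3 ≤ q) (h0 : ζ ≠ 0) (hζ : cj F q ζ = -ζ) : G2 (suB 3 q ζ) 3 := by
  have U : UH (suB 3 q ζ) := uH_su (by omega) h0 hζ
  have S := U.toSkH
  have cfg : ∀ c : F, c ≠ 1 → c ^ (q + 1) = 1 → ∃ x w p β, Cfg (suB 3 q ζ) x w p c β := by
    intro c c1 hc
    have c0 : c ≠ 0 := by rintro rfl; simp at hc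
    obtain ⟨ι, w, hι, h1, h2, h3, h4⟩ := exists_witt (q := q) h0 hζ 1
    have h5 : ∀ a, ι a = a 0 • ι 1 := fun a => by
      rw [← map_smul]; congr 1; ext i; rw [Subsingleton.elim i 0]; simp
    obtain ⟨b, hb, hb'⟩ := S.exists_perp_one (W := Submodule.span F {w}) (a := ι 1) fun h => by
      obtain ⟨a, ha⟩ := Submodule.mem_span_singleton.1 h
      have := h2 1
      rw [← ha] at this
      obtain rfl : a = 0 := by simpa [h3] using this
      exact one_ne_zero (hι (by simpa using ha.symm))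
    obtain ⟨p, hp, k1, k2⟩ := S.exists_partner (P := perp _ (Submodule.span F {w})) (h1 1 1)
      (fun y hy => by
        obtain ⟨a, rfl⟩ := Submodule.mem_span_singleton.1 hy
        simp [S.zero_symm (h2 1)]) hb (S.ne_symm (hb' ▸ one_ne_zero))
    have k3 := hp w (Submodule.mem_span_singleton_self w)
    have k4 : suB 3 q ζ w w * ((c - 1) ^ 3 / c ^ 2) ≠ 0 :=
      mul_ne_zero h3 (div_ne_zero (pow_ne_zero _ (sub_ne_zero.2 c1)) (pow_ne_zero _ c0))
    refine ⟨ι 1, w, (suB 3 q ζ w w * ((c - 1) ^ 3 / c ^ 2)) • p, _, h1 1 1, h2 1, h3, by simp [k1],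
      by simp [k3], by simp [k2], fun v => ?_, by simp, c0, c1, ?_, rfl⟩
    · obtain ⟨a, y, e⟩ := h4 (v - suB 3 q ζ (ι 1) v • p) fun y => by rw [h5]; simp [k2]
      refine ⟨y 0, a, suB 3 q ζ (ι 1) v / (suB 3 q ζ w w * ((c - 1) ^ 3 / c ^ 2)), ?_⟩
      rw [smul_smul, div_mul_cancel₀ _ k4, ← h5, add_comm (ι y), ← e, sub_add_cancel]
    · rw [← mul_cj_eq_pow] at hc
      exact eq_inv_of_mul_eq_one_right hc
  obtain ⟨s, hs⟩ : ∃ s : F, IsPrimitiveRoot s (q + 1) := by
    obtain ⟨θ, hθ⟩ := IsCyclic.exists_ofOrder_eq_natCard (α := Fˣ)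
    refine ⟨(θ ^ (q - 1) : Fˣ), IsPrimitiveRoot.coe_units_iff.2 (IsPrimitiveRoot.iff_orderOf.2 ?_)⟩
    rw [orderOf_pow_of_dvd (by omega) (hθ ▸ card_units_eq (F := F) (q := q) ▸ Dvd.intro _ rfl), hθ,
      card_units_eq (F := F) (q := q), Nat.mul_div_cancel_left _ (by omega)]
  have hs1 : ∀ k, 0 < k → k < q + 1 → s ^ k ≠ 1 := fun k => hs.pow_ne_one_of_pos_of_lt ∘ Nat.ne_of_gt
  have hc := FiniteField.cast_card_eq_zero F
  rw [hF.out] at hc
  have tri := fun (H : Subgroup ((Fin 3 → F) ≃ₗ[F] (Fin 3 → F))) y v1 v2 v3 =>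
    le_of_three (H := H) (y := y) (v1 := v1) (v2 := v2) (v3 := v3) (by omega : q ≠ 2) h0 hζ
  by_cases h5 : q = 5
  · subst h5
    obtain ⟨x, w, p, β, C⟩ := cfg s (by simpa using hs1 1) hs.pow_eq_one
    refine C.g2 S fun H u h hH E => E.le_tri S C hH (tri H) (E.as5 S C hH
      (pow_eq_zero_iff two_ne_zero |>.1 (by exact_mod_cast hc)) ?_ fun _ => rfl)
    refine mul_left_cancel₀ (mul_ne_zero (sub_ne_zero.2 (hs1 2 (by omega) (by omega)))
      (sub_ne_zero.2 (hs1 3 (by omega) (by omega)))) ?_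
    linear_combination (s - 1) * hs.pow_eq_one
  by_cases h8 : q = 8
  · subst h8
    obtain ⟨x, w, p, β, C⟩ := cfg s (by simpa using hs1 1) hs.pow_eq_one
    refine C.g2 S fun H u h hH E => E.le_tri S C hH (tri H) (E.as8 S C hH
      (pow_eq_zero_iff (n := 6) (by omega) |>.1 (by rw [← hc]; norm_num)) ?_ fun _ => rfl)
    refine mul_left_cancel₀ (sub_ne_zero.2 (hs1 3 (by omega) (by omega))) ?_
    linear_combination hs.pow_eq_one
  have hn : (-1 : F) ^ (q + 1) = 1 := by rw [← mul_cj_eq_pow]; simp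
  obtain ⟨x, w, p, β, C⟩ := cfg (-s) (fun e => hs1 2 (by omega) (by omega) (by
    rw [← neg_sq, e, one_pow])) (by rw [neg_pow, hn, hs.pow_eq_one, one_mul])
  have e3 : -(-s) ^ 3 = s ^ 3 := by ring
  refine C.g2 S fun H u h hH E => E.le_gen S C hH (exists_trace_eq U.ne S.inv)
    (e3 ▸ hs1 3 (by omega) (by omega)) fun M hM => by_contra fun hM' => ?_
  obtain ⟨r, k, hr, hk, e, h1⟩ :=
    card_of_pow_mem hM' (pow_ne_zero 3 (hs.ne_zero (by omega))) (e3 ▸ hM)
  have := arith58 hq hr hk (hF.out.symm.trans e) (hs.dvd_of_pow_eq_one _ (by rw [pow_mul, h1]))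
  omega

theorem G2.su {F : Type*} [Field F] [Fintype F] {q : ℕ} [hF : Fact (Fintype.card F = q ^ 2)]
    {ζ : F} {n : ℕ} (h0 : ζ ≠ 0) (h : G2 (suB n q ζ) n) :
    ∃ u g : SU n F q, (IsNilpotent (sm u - 1) ∧ (sm u - 1) ^ (n - 1) ≠ 0) ∧
      Subgroup.closure ({u, g * u * g⁻¹} : Set (SU n F q)) = ⊤ := by
  obtain ⟨u, hu, g, hg, ⟨k, h1⟩, h2, h3⟩ := h
  rw [← range_jSU h0] at hu hg h3
  obtain ⟨u, rfl⟩ := hu
  obtain ⟨g, rfl⟩ := hg
  have e1 : ∀ k, Matrix.toLinAlgEquiv' ((sm u - 1) ^ k) =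
      ((jSU n F q u : End F (Fin n → F)) - 1) ^ k := fun k => by
    rw [map_pow, map_sub, map_one]; rfl
  refine ⟨u, g, ⟨⟨k, Matrix.toLinAlgEquiv'.injective (by rw [e1, h1, map_zero])⟩,
    fun h0 => h2 (by rw [← e1, h0, map_zero])⟩, eq_top_iff.2 fun x _ => ?_⟩
  rw [← Subgroup.mem_map_iff_mem jSU_injective, MonoidHom.map_closure, Set.image_pair]
  simp only [map_mul, map_inv]
  exact h3 ⟨x, rfl⟩

end Std

end Cfsg.Agent.H84.CU
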