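import Cfsg.Agent.H84.CUReg

/-!
Groups of affine maps whose linear part is `SL(W)` or is generated by two opposite transvections of
a plane: existence of translations.
-/

set_option autoImplicit false
set_option linter.unusedSectionVars false

namespace Cfsg.Agent.H84.CU

open Module H27 RU

variable {F V W : Type*} [Field F] [AddCommGroup V] [Module F V] [AddCommGroup W] [Module F W]
  {ι : W →ₗ[F] V} {x0 : V} {φ : Dual F W} {K : Subgroup (V ≃ₗ[F] V)}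

/-- `k` induces `a` on `W`, fixes `φ` and translates `x0` by a vector with `φ`-value `c`. -/
def Th (ι : W →ₗ[F] V) (x0 : V) (φ : Dual F W) (k : V ≃ₗ[F] V) (a : W ≃ₗ[F] W) (c : F) : Prop :=
  Lf ι k a ∧ (∀ x, φ (a x) = φ x) ∧ ∃ y, k x0 = x0 + ι y ∧ φ y = c

theorem Th.mul {k k' : V ≃ₗ[F] V} {a a' : W ≃ₗ[F] W} {c c' : F} (h : Th ι x0 φ k a c)
    (h' : Th ι x0 φ k' a' c') : Th ι x0 φ (k * k') (a * a') (c + c') := by
  obtain ⟨h1, h2, y, h3, rfl⟩ := h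
  obtain ⟨k1, k2, y', k3, rfl⟩ := h'
  exact ⟨h1.mul k1, fun x => by rw [le_mul_apply, h2, k2], y + a y',
    by rw [le_mul_apply, k3, map_add, h3, h1, map_add, add_assoc], by rw [map_add, h2]⟩

theorem Th.inv {k : V ≃ₗ[F] V} {a : W ≃ₗ[F] W} {c : F} (h : Th ι x0 φ k a c) :
    Th ι x0 φ k⁻¹ a⁻¹ (-c) := by
  obtain ⟨h1, h2, y, h3, rfl⟩ := h
  exact ⟨h1.inv, fun x => by rw [← h2, le_apply_inv], -a⁻¹ y,
    k.injective (by rw [le_apply_inv, map_add, h3, h1]; simp [le_apply_inv]),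
    by rw [map_neg, ← h2, le_apply_inv]⟩

theorem aff3 [FiniteDimensional F W] (hm : 3 ≤ finrank F W) (hφ : ∃ f, φ f = 1)
    (hL : SLV F W ≤ ind ι K)
    (hK : ∀ k ∈ K, ∀ a, Lf ι k a → (∀ x, φ (a x) = φ x) → ∃ y, k x0 = x0 + ι y)
    (hex : finrank F W = 3 → (∃ l : F, l ≠ 0 ∧ l ^ 2 ≠ 1) ∨ ((2 : F) ≠ 0 ∧
      ∀ t ∈ K, ∀ τ, Lf ι t τ → (∀ x, φ (τ x) = -φ x) → ∀ k ∈ K, ∀ a c, Th ι x0 φ k a c →
        Th ι x0 φ (t * k * t⁻¹) (τ * a * τ⁻¹) c))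
    {u : V ≃ₗ[F] V} (hu : u ∈ K) {a : W ≃ₗ[F] W} (ha : a ∈ SLV F W) {c : F}
    (h : Th ι x0 φ u a c) (hc : c ≠ 0) : ∃ n ∈ K, ∃ d, d ≠ 0 ∧ Th ι x0 φ n 1 d := by
  let Z : Subgroup (W ≃ₗ[F] W) :=
    { carrier := {a | ∃ k ∈ K, Th ι x0 φ k a 0}
      mul_mem' := fun ⟨_, h1, h2⟩ ⟨_, k1, k2⟩ => ⟨_, mul_mem h1 k1, by simpa using h2.mul k2⟩
      one_mem' := ⟨1, one_mem _, Lf.one, fun _ => rfl, 0, by simp, by simp⟩
      inv_mem' := fun ⟨_, h1, h2⟩ => ⟨_, inv_mem h1, by simpa using h2.inv⟩ }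
  have lift : ∀ a ∈ SLV F W, (∀ x, φ (a x) = φ x) → ∃ k ∈ K, ∃ c, Th ι x0 φ k a c :=
    fun a ha h => by
      obtain ⟨k, hk, h1⟩ := hL ha
      obtain ⟨y, h2⟩ := hK k hk a h1 h
      exact ⟨k, hk, _, h1, h, y, h2, rfl⟩
  obtain ⟨k, hk, h1⟩ := perf (H := Z) hm (fun t ht h1 a ha h2 => by
    obtain ⟨k, hk, c, k1⟩ := lift t ht h1
    obtain ⟨k', hk', c', k2⟩ := lift a ha h2
    exact ⟨_, mul_mem (mul_mem (mul_mem hk hk') (inv_mem hk)) (inv_mem hk'), by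
      simpa using ((k1.mul k2).mul k1.inv).mul k2.inv⟩)
    (fun h3 => (hex h3).imp_right (And.imp_right fun h t ht h1 a ha h2 => by
      obtain ⟨k, hk, k1⟩ := hL ht
      obtain ⟨k', hk', c', k2⟩ := lift a ha h2
      exact ⟨_, mul_mem (mul_mem (mul_mem hk hk') (inv_mem hk)) (inv_mem hk'), by
        simpa using (h k hk t k1 h1 k' hk' a c' k2).mul k2.inv⟩)) hφ ha h.2.1
  exact ⟨_, mul_mem (inv_mem hk) hu, c, hc, by simpa using h1.inv.mul h⟩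

theorem neg_of_span [Finite F] (h2 : (2 : F) ≠ 0) {L : Subgroup (W ≃ₗ[F] W)} {b b' : W}
    {χ χ' : Dual F W} (h : T1 L b χ) (h' : T1 L b' χ') (hb : χ b = 0) (hb' : χ' b' = 0)
    (h1 : χ b' ≠ 0) (h1' : χ' b ≠ 0) (hs : ∀ w, ∃ r s : F, w = r • b + s • b') :
    ∃ a ∈ L, ∀ w, a w = -w :=
  (t1_neg h2 h h' hb hb' h1 h1').congr fun w => by
    obtain ⟨r, s, rfl⟩ := hs w
    simp only [map_add, map_smul, hb, hb', smul_eq_mul]
    match_scalars <;> field_simp <;> ring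

theorem aff2 [Finite F] (hι : Function.Injective ι) {b b' : W} {χ χ' : Dual F W} (hb : χ b = 0)
    (hb' : χ' b' = 0) (h1 : χ b' ≠ 0) (h1' : χ' b ≠ 0) (hs : ∀ w, ∃ r s : F, w = r • b + s • b')
    (hK : ∀ k ∈ K, ∃ y, k x0 = x0 + ι y) {u u' : V ≃ₗ[F] V} (hu : u ∈ K) (hu' : u' ∈ K)
    (l : Lf ι u (tv b χ hb)) (l' : Lf ι u' (tv b' χ' hb')) {δ : W} (hδ : u x0 = x0 + ι δ)
    (h0 : χ δ ≠ 0) : ∃ n ∈ K, Lf ι n 1 ∧ n x0 ≠ x0 := by
  have hb0 : b ≠ 0 := by rintro rfl; simp at h1'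
  by_cases h2 : (2 : F) = 0
  · refine ⟨u * u, mul_mem hu hu, fun w => ?_, fun e => ?_⟩
    · rw [(l.mul l) w, le_mul_apply, tv_apply, tv_apply, map_add χ, map_smul, hb, smul_zero,
        add_zero, add_assoc, ← two_smul F, h2, zero_smul, add_zero, le_one_apply]
    · rw [le_mul_apply, hδ, map_add, hδ, l, add_assoc, ← map_add, add_eq_left,
        map_eq_zero_iff _ hι, tv_apply, ← add_assoc, ← two_smul F, h2, zero_smul, zero_add] at e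
      exact smul_ne_zero h0 hb0 e
  obtain ⟨a, ⟨j, hj, lj⟩, ha⟩ := neg_of_span h2 (L := ind ι K) (t1_of_tv hb ⟨u, hu, l⟩)
    (t1_of_tv hb' ⟨u', hu', l'⟩) hb hb' h1 h1' hs
  obtain ⟨ε, hε⟩ := hK j hj
  have ha' : ∀ w, a⁻¹ w = -w := fun w => a.injective (by rw [le_apply_inv, ha, neg_neg])
  have hn : Lf ι (j * u * j⁻¹ * u⁻¹) 1 := fun w => by
    rw [(((lj.mul l).mul lj.inv).mul l.inv) w]
    simp [le_mul_apply, ha, ha', le_apply_inv, le_one_apply]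
  refine ⟨_, mul_mem (mul_mem (mul_mem hj hu) (inv_mem hj)) (inv_mem hu), hn, fun e => ?_⟩
  have e1 : j⁻¹ x0 = x0 + ι ε := j.injective (by rw [le_apply_inv, map_add, hε, lj, ha]; simp)
  have e2 : (j * u * j⁻¹ * u⁻¹) (u x0) = x0 + ι δ := by rw [hδ, map_add, e, hn]; rfl
  rw [le_mul_apply, le_inv_apply, le_mul_apply, le_mul_apply, e1, map_add, hδ, l, add_assoc,
    ← map_add ι, map_add j, hε, lj, ha, add_assoc, add_right_inj, ← map_add ι] at e2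
  have := congrArg χ (hι e2)
  simp only [map_add, map_neg, tv_apply, map_smul, hb, smul_zero, add_zero] at this
  exact mul_ne_zero h2 h0 (by linear_combination -this)

end Cfsg.Agent.H84.CU
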