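import Cfsg.Agent.H84.CULin

/-!
Criteria for a group of isometries of a skew-Hermitian form to contain all special isometries;
lifting of `SL(W)` for a totally isotropic subspace `W`.
-/

set_option autoImplicit false
set_option linter.unusedSectionVars false

namespace Cfsg.Agent.H84.CU

open Module H27 RU

variable {F V W : Type*} [Field F] [AddCommGroup V] [Module F V] [AddCommGroup W] [Module F W]
  {σ : F →+* F} {B : V →ₛₗ[σ] V →ₗ[F] F} {H : Subgroup (V ≃ₗ[F] V)}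

/-- The special isometry group is generated by three conjugates of a regular unipotent element. -/
def G3 (B : V →ₛₗ[σ] V →ₗ[F] F) (n : ℕ) : Prop :=
  ∃ u ∈ GG B, ∃ g ∈ GG B, ∃ h ∈ GG B, IsNilpotent ((u : End F V) - 1) ∧
    ((u : End F V) - 1) ^ (n - 1) ≠ 0 ∧ GG B ≤ Subgroup.closure {u, g * u * g⁻¹, h * u * h⁻¹}

/-- The unipotent radical of the stabiliser of the isotropic vector `z` lies in `H`. -/
def QS (B : V →ₛₗ[σ] V →ₗ[F] F) (H : Subgroup (V ≃ₗ[F] V)) (z : V) : Prop :=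
  B z z = 0 ∧ ∀ y t, B z y = 0 → t - σ t = B y y → ES B H z y t

theorem iso_inv {g : V ≃ₗ[F] V} (hg : g ∈ Iso B) (x y : V) : B x (g y) = B (g⁻¹ x) y := by
  rw [← hg (g⁻¹ x), le_apply_inv]

theorem QS.conj {z : V} (h : QS B H z) {g : V ≃ₗ[F] V} (hg : g ∈ H) (hi : g ∈ Iso B) :
    QS B H (g z) :=
  ⟨(hi z z).trans h.1, fun y t h1 h2 => by
    have := (h.2 (g⁻¹ y) t (by rwa [← hi, le_apply_inv])
      (by rwa [← hi, le_apply_inv])).conj hg hi
    rwa [le_apply_inv] at this⟩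

theorem QS.as {z : V} (h : QS B H z) : AS B H z :=
  ⟨h.1, fun c hc => Has.congr (h.2 0 c (by simp) (by simp [hc])) fun x => by simp⟩

theorem closure_le_GG {u g h : V ≃ₗ[F] V} (hu : u ∈ GG B) (hg : g ∈ GG B) (hh : h ∈ GG B) :
    Subgroup.closure {u, g * u * g⁻¹, h * u * h⁻¹} ≤ GG B := by
  rw [Subgroup.closure_le]
  rintro _ (rfl | rfl | rfl)
  · exact hu
  · exact mul_mem (mul_mem hg hu) (inv_mem hg)
  · exact mul_mem (mul_mem hh hu) (inv_mem hh)

variable (S : SkH B)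
include S

theorem es_smul {u v : V} {t a : F} (h : ES B H u (σ a • v) (σ a * a * t)) : ES B H (a • u) v t :=
  Has.congr h fun z => by
    simp only [LinearMap.map_smulₛₗ, LinearMap.smul_apply, smul_eq_mul, S.inv]
    module

theorem QS.smul {z : V} (h : QS B H z) (a : F) : QS B H (a • z) := by
  rcases eq_or_ne a 0 with rfl | ha
  · exact ⟨by simp, fun y t _ _ => (has_id H).congr fun x => by simp⟩
  refine ⟨by simp [h.1], fun y t h1 h2 => es_smul S (h.2 _ _ ?_ ?_)⟩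
  · simpa [ha] using h1
  · simp only [LinearMap.map_smulₛₗ, LinearMap.smul_apply, smul_eq_mul, S.inv, map_mul, ← h2,
      RingHom.id_apply]
    ring

theorem es_add_t1 {u v : V} {t c : F} (hu : B u u = 0) (hv : B u v = 0) (h : ES B H u v t)
    (h' : T1 H u (c • B u)) : ES B H u v (t + c) := by
  have : ES B H u 0 c := Has.congr h' fun x => by simp
  simpa using S.es_comp hu hv (by simp) h this

variable [FiniteDimensional F V]

theorem exists_move {y w : V} (hy : B y y = 0) (hw : B w w = 0) (h : B w y ≠ 0)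
    (h' : σ (B w y) = B w y) : ∃ g ∈ GG B, g y = w ∧ ∀ x, B w x = B y x → g x = x := by
  obtain ⟨g, hg, e⟩ := S.exists_tvS (v := w - y) (c := (B w y)⁻¹)
    (by simp [hy, hw, S.skew w y, h']) (by rw [map_inv₀, h'])
  exact ⟨g, hg, by simp [e, hy, h], fun x hx => by simp [e, hx]⟩

theorem QS.move (hH : H ≤ Iso B) {z a x : V} (h : QS B H z) (ha : B a a = 0) (hx : B x x = 0)
    (h1 : B z a ≠ 0) (h2 : B z x ≠ 0) : ∃ g ∈ H, ∃ c : F, g (c • a) = x := by
  have e1 : B z ((B z x / B z a) • a) = B z x := by simp [div_mul_cancel₀ _ h1]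
  have e3 : B ((B z x / B z a) • a) ((B z x / B z a) • a) = 0 := by simp [ha]
  suffices ∀ a', B z a' = B z x → B a' a' = 0 → ∃ g ∈ H, g a' = x from
    let ⟨g, hg, e⟩ := this _ e1 e3; ⟨g, hg, _, e⟩
  intro a e1 e3
  have h3 : σ (B z x) ≠ 0 := (map_ne_zero σ).2 h2
  obtain ⟨g, hg, e⟩ := (h.2 ((B z x)⁻¹ • (x - a)) (-B x a / (σ (B z x) * B z x))
    (by simp [e1]) (by
      simp only [map_sub, LinearMap.sub_apply, e3, hx, map_neg, S.skew x a, map_div₀, map_mul,
        S.inv, LinearMap.map_smulₛₗ, LinearMap.smul_apply, smul_eq_mul, map_inv₀, RingHom.id_apply]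
      field_simp
      ring)).exists
  refine ⟨g, hg, ?_⟩
  simp only [e, e1, LinearMap.map_smulₛₗ, map_sub, LinearMap.smul_apply, LinearMap.sub_apply, e3,
    smul_eq_mul, map_inv₀]
  match_scalars <;> field_simp <;> ring

theorem le_of_qs (hH : H ≤ Iso B) {z a : V} (h : QS B H z) (ha : QS B H a) (h1 : B z a ≠ 0) :
    GG B ≤ H := by
  have key : ∀ {z a : V}, QS B H z → QS B H a → B z a ≠ 0 → ∀ x, B x x = 0 → B z x ≠ 0 →
      QS B H x := fun h ha h1 x hx h2 => by
    obtain ⟨g, hg, c, rfl⟩ := h.move S hH ha.1 hx h1 h2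
    exact (ha.smul S c).conj hg (hH hg)
  refine S.gen H fun x hx => (QS.as ?_).2
  by_cases h2 : B z x = 0
  swap
  · exact key h ha h1 x hx h2
  rcases eq_or_ne x 0 with rfl | h0
  · simpa using h.smul S 0
  have np : ∀ v : V, v ≠ 0 → v ∉ perp B ⊤ := fun v hv hc =>
    hv (S.nd v fun y => S.zero_symm (hc y trivial))
  obtain ⟨y, -, k1, k2⟩ := S.exists_two_ne (np z (by rintro rfl; simp at h1)) (np x h0)
  obtain ⟨d, hd⟩ := S.tr ((B z y)⁻¹ • y)
  have k3 := S.ne_symm k1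
  have e1 : B z ((B z y)⁻¹ • y) = 1 := by simp [k3]
  have e2 : B ((B z y)⁻¹ • y) x ≠ 0 := by simp [k2, k3]
  generalize (B z y)⁻¹ • y = y' at hd e1 e2
  have e3 : B z (y' + d • z) ≠ 0 := by simp [e1, h.1]
  refine key (key h ha h1 (y' + d • z) ?_ e3) h (S.ne_symm e3) x hx (by simpa [h2] using e2)
  simp only [map_add, map_smul, LinearMap.map_smulₛₗ, LinearMap.add_apply, LinearMap.smul_apply,
    smul_eq_mul, hd, e1, S.one_symm e1, h.1]
  ring

section Lift

variable {ι : W →ₗ[F] V} (hι : Function.Injective ι) (hW : ∀ a b, B (ι a) (ι b) = 0)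

include hι in
theorem exists_rep_ι (χ : Dual F W) : ∃ y, ∀ w, B y (ι w) = χ w := by
  obtain ⟨π, hπ⟩ := ι.exists_leftInverse_of_injective (LinearMap.ker_eq_bot.2 hι)
  obtain ⟨y, hy⟩ := S.exists_rep (χ ∘ₗ π)
  exact ⟨y, fun w => by rw [hy, LinearMap.comp_apply, ← LinearMap.comp_apply π, hπ]; rfl⟩

include hι hW in
theorem exists_lift {g : W ≃ₗ[F] W} (hg : g ∈ SLV F W) : ∃ k ∈ GG B, (∀ w, k (ι w) = ι (g w)) ∧
    ∀ x, (∀ w, B (ι w) x = 0) → ∃ y, k x = x + ι y := by
  have := FiniteDimensional.of_injective ι hι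
  let L : Subgroup (W ≃ₗ[F] W) :=
    { carrier := {g | ∃ k ∈ GG B, (∀ w, k (ι w) = ι (g w)) ∧
        ∀ x, (∀ w, B (ι w) x = 0) → ∃ y, k x = x + ι y}
      mul_mem' := by
        rintro a b ⟨k, h1, h2, h3⟩ ⟨k', k1, k2, k3⟩
        refine ⟨k * k', mul_mem h1 k1, fun w => by rw [le_mul_apply, k2, h2, le_mul_apply],
          fun x hx => ?_⟩
        obtain ⟨y, e⟩ := h3 x hx
        obtain ⟨y', e'⟩ := k3 x hx
        exact ⟨y + a y', by rw [le_mul_apply, e', map_add, e, h2, map_add, add_assoc]⟩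
      one_mem' := ⟨1, one_mem _, fun _ => rfl, fun x _ => ⟨0, by simp⟩⟩
      inv_mem' := by
        rintro a ⟨k, h1, h2, h3⟩
        refine ⟨k⁻¹, inv_mem h1, fun w => k.injective (by rw [le_apply_inv, h2, le_apply_inv]),
          fun x hx => ?_⟩
        obtain ⟨y, e⟩ := h3 x hx
        exact ⟨-a⁻¹ y, k.injective (by rw [le_apply_inv, map_add, e, h2]; simp [le_apply_inv])⟩ }
  refine SLV_le (H := L) (fun v φ hφ => ?_) hg
  obtain ⟨y, hy⟩ := exists_rep_ι S hι φ
  obtain ⟨t, ht⟩ := S.tr y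
  obtain ⟨k, hk, e⟩ := S.exists_E (hW v v) (S.zero_symm ((hy v).trans hφ)) ht.symm
  exact ⟨tv v φ hφ, ⟨k, hk, fun w => by simp [e, hW, hy, tv_apply],
    fun x hx => ⟨B y x • v, by simp [e, hx]⟩⟩, tv_apply _ _ _⟩

include hW in
theorem as_shift (hA : ∀ w, AS B H (ι w)) {a : V} (ha : AS B H a) (h0 : ∃ w, B (ι w) a ≠ 0) {w : W}
    (hi : B (a + ι w) (a + ι w) = 0) : AS B H (a + ι w) := by
  obtain ⟨w0, h0⟩ := h0
  obtain ⟨w1, h1⟩ : ∃ w1, B (ι w1) a = 1 :=
    ⟨σ (B (ι w0) a)⁻¹ • w0, by simp [S.inv, h0]⟩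
  have h2 : σ (B (ι w) a) = B (ι w) a := by
    simp only [map_add, LinearMap.add_apply, ha.1, hW, S.skew (ι w) a] at hi
    linear_combination -hi
  have h3 := S.as_move (hA (w - (B (ι w) a - 1) • w1)) ha (map_one σ)
  have h4 := S.as_move (hA w1) h3 (c := B (ι w) a - 1) (by rw [map_sub, map_one, h2])
  simp only [map_sub, map_smul, LinearMap.map_smulₛₗ, map_add, LinearMap.sub_apply, map_one, h2,
    LinearMap.smul_apply, h1, hW, smul_eq_mul] at h4
  convert h4 using 1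
  module

include hW in
theorem le_of_ti (hH : H ≤ Iso B) (hA : ∀ w, AS B H (ι w))
    (hmax : ∀ x, (∀ w, B (ι w) x = 0) → B x x = 0 → ∃ w, x = ι w)
    (hfix : ∀ a x, (∃ w, B (ι w) a ≠ 0) → (∀ w, B (ι w) (x - a) = 0) →
      ∃ ρ ∈ H, ∃ w, x = ρ a + ι w)
    (hirr : ∀ D : Submodule F W, (∀ k ∈ H, ∀ g : W ≃ₗ[F] W, (∀ w, k (ι w) = ι (g w)) →
      ∀ w ∈ D, g w ∈ D) → D = ⊥ ∨ D = ⊤)
    (hg : ∃ g ∈ H, ∃ w w', B (ι w') (g (ι w)) ≠ 0) : GG B ≤ H := by
  let D : Submodule F V :=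
    { carrier := {x | ∃ a, AS B H a ∧ ∀ w, B (ι w) (x - a) = 0}
      zero_mem' := ⟨0, as_zero, by simp⟩
      smul_mem' := by
        rintro c x ⟨a, ha, h⟩
        exact ⟨c • a, S.as_smul ha c, fun w => by rw [← smul_sub, map_smul, h, smul_zero]⟩
      add_mem' := by
        rintro x x' ⟨a, ha, h⟩ ⟨a', ha', h'⟩
        simp only [map_sub, sub_eq_zero] at h h'
        by_cases h1 : ∃ w, B (ι w) a' = 0 ∧ B (ι w) a ≠ 0
        · obtain ⟨w, h1, h2⟩ := h1
          by_cases h3 : ∃ w, B (ι w) a' ≠ 0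
          · have h4 := as_shift S hW hA ha' h3 (w := σ ((1 - B a' a) / B (ι w) a) • w)
              (by simp [ha'.1, hW, h1, S.zero_symm h1])
            refine ⟨_, S.as_move h4 ha (map_one σ), fun v => ?_⟩
            simp [h, h', hW, S.inv, div_mul_cancel₀ _ h2]
          · push Not at h3
            exact ⟨a, ha, fun v => by simp [h, h', h3]⟩
        · push Not at h1
          by_cases h3 : ∃ w, B (ι w) a' ≠ 0
          · obtain ⟨w0, h0⟩ := h3
            refine ⟨_, S.as_smul ha' (B (ι w0) a / B (ι w0) a' + 1), fun v => ?_⟩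
            have := h1 (v - σ (B (ι v) a' / B (ι w0) a') • w0)
              (by simp [S.inv, div_mul_cancel₀ _ h0])
            simp only [map_sub, map_smul, LinearMap.map_smulₛₗ, LinearMap.sub_apply, S.inv,
              LinearMap.smul_apply, smul_eq_mul, map_add, h, h'] at this ⊢
            linear_combination this
          · push Not at h3
            exact ⟨a, ha, fun v => by simp [h, h', h3]⟩ }
  let D' : Submodule F W :=
    { carrier := {w | ∀ x ∈ D, B (ι w) x = 0}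
      zero_mem' := fun x _ => by simp
      smul_mem' := fun c w hw x hx => by simp [hw x hx]
      add_mem' := fun ha hb x hx => by simp [ha x hx, hb x hx] }
  have h1 : D' = ⊥ := (hirr D' fun k hk g e w hw x ⟨a, ha, h⟩ => by
    rw [← e, ← le_apply_inv k x, hH hk]
    exact hw _ ⟨_, ha.conj (inv_mem hk) (hH (inv_mem hk)), fun v => by
      rw [← map_sub, ← hH hk, le_apply_inv, e, h]⟩).resolve_right fun e => by
    obtain ⟨g, hg, w, w', h⟩ := hg
    exact h ((e ▸ Submodule.mem_top : w' ∈ D') _ ⟨_, (hA w).conj hg (hH hg), by simp⟩)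
  have h2 : ∀ x, x ∈ D := fun x => by
    by_contra hx
    obtain ⟨b, hb, e⟩ := S.exists_perp_one hx
    obtain ⟨w, rfl⟩ : b ∈ LinearMap.range ι := by
      by_contra hc
      obtain ⟨c, hc, e'⟩ := S.exists_perp_one hc
      exact one_ne_zero (e'.symm.trans (hb c ⟨0, as_zero, fun w => by
        simpa using hc _ ⟨w, rfl⟩⟩))
    have : w ∈ D' := fun y hy => S.zero_symm (hb y hy)
    rw [h1, Submodule.mem_bot] at this
    simp [this] at e
  refine S.gen H fun x hx => (?_ : AS B H x).2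
  by_cases h3 : ∀ w, B (ι w) x = 0
  · obtain ⟨w, rfl⟩ := hmax x h3 hx
    exact hA w
  push Not at h3
  obtain ⟨a, ha, h⟩ := h2 x
  obtain ⟨ρ, hρ, w, rfl⟩ := hfix a x (h3.imp fun w hw => by
    rwa [← sub_eq_zero.1 ((map_sub _ _ _).symm.trans (h w))]) h
  exact as_shift S hW hA (ha.conj hρ (hH hρ)) (h3.imp fun v hv => by simpa [hW] using hv) hx

end Lift

end Cfsg.Agent.H84.CU
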