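import Cfsg.Agent.H84.RU3
import Cfsg.Agent.H10.P3D2
import Cfsg.Agent.H27.SkH

/-!
Linear algebra for the generation of classical groups by regular unipotent elements: the group
generated by two opposite transvections, the stabiliser of a linear form in `SL(W)` is perfect.
-/

set_option autoImplicit false
set_option linter.unusedSectionVars false

namespace Cfsg.Agent.H84.CU

open Module H27 RU
open scoped MatrixGroups

variable {F V : Type*} [Field F] [AddCommGroup V] [Module F V] {H : Subgroup (V ≃ₗ[F] V)}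

theorem t1_sl2 {v w : V} {φ ψ : Dual F V} (hv : φ v = 0) (hw : ψ w = 0) (h1 : φ w ≠ 0)
    (h1' : ψ v ≠ 0) : ∃ S : Subgroup SL(2, F), (∀ a, H28.slV (a * φ w) ∈ S ↔ T1 H v (a • φ)) ∧
      (∀ a, H28.slL (a * ψ v) ∈ S ↔ T1 H w (a • ψ)) ∧
      ((-1 : SL(2, F)) ∈ S → Has H fun x => x - (2 * (ψ x / ψ v)) • v - (2 * (φ x / φ w)) • w) := by
  let ρ : SL(2, F) → V → V := fun A x =>
    x + ((A 0 0 - 1) * (ψ x / ψ v) + A 0 1 * (φ x / φ w)) • v +
      (A 1 0 * (ψ x / ψ v) + (A 1 1 - 1) * (φ x / φ w)) • w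
  have hρ : ∀ A B x, ρ A (ρ B x) = ρ (A * B) x := fun A B x => by
    simp only [ρ, map_add, map_smul, hv, hw, smul_eq_mul, Matrix.SpecialLinearGroup.coe_mul,
      Matrix.mul_apply, Fin.sum_univ_two]
    match_scalars <;> field_simp <;> ring
  have hρ1 : ∀ x, ρ 1 x = x := fun x => by simp [ρ]
  let S : Subgroup SL(2, F) :=
    { carrier := {A | Has H (ρ A)}
      mul_mem' := fun hA hB => (Has.comp hA hB).congr (hρ _ _)
      one_mem' := (has_id H).congr fun x => (hρ1 x).symm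
      inv_mem' := fun {A} hA => Has.inv hA fun x => by rw [hρ, mul_inv_cancel, hρ1] }
  refine ⟨S, fun a => ?_, fun a => ?_, fun h => Has.congr h fun x => ?_⟩
  · have : ρ (H28.slV (a * φ w)) = fun x => x + (a • φ) x • v := funext fun x => by
      simp [ρ, H28.slV, mul_assoc, mul_div_cancel₀ _ h1]
    change Has H _ ↔ Has H _
    rw [this]
  · have : ρ (H28.slL (a * ψ v)) = fun x => x + (a • ψ) x • w := funext fun x => by
      simp [ρ, H28.slL, mul_assoc, mul_div_cancel₀ _ h1']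
    change Has H _ ↔ Has H _
    rw [this]
  · simp [ρ]
    module

theorem t1_neg [Finite F] (h2 : (2 : F) ≠ 0) {v w : V} {φ ψ : Dual F V} (h : T1 H v φ)
    (h' : T1 H w ψ) (hv : φ v = 0) (hw : ψ w = 0) (h1 : φ w ≠ 0) (h1' : ψ v ≠ 0) :
    Has H fun x => x - (2 * (ψ x / ψ v)) • v - (2 * (φ x / φ w)) • w := by
  obtain ⟨S, e1, e2, e3⟩ := t1_sl2 (H := H) hv hw h1 h1'
  exact e3 (H10.P3.d2_neg h2 S h1 h1' (by simpa using (e1 1).2 (by simpa using h))
    (by simpa using (e2 1).2 (by simpa using h')))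

theorem t1_field [Finite F] (h2 : (2 : F) = 0) {v w : V} {φ ψ : Dual F V} (h : T1 H v φ)
    (h' : T1 H w ψ) (hv : φ v = 0) (hw : ψ w = 0) (h1 : φ w ≠ 0) (h1' : ψ v ≠ 0) {a : F}
    (ha : T1 H v (a • φ)) (h0 : a ≠ 0) (ha1 : a ≠ 1) :
    ∃ K : Subfield F, 2 < Nat.card K ∧ ∀ b, T1 H v (b • φ) ↔ b ∈ K := by
  obtain ⟨S, e1, e2, -⟩ := t1_sl2 (H := H) hv hw h1 h1'
  have k1 : H28.slV (φ w) ∈ S := by simpa using (e1 1).2 (by simpa using h)
  rcases H10.P3.d2 S h1 h1' k1 (by simpa using (e2 1).2 (by simpa using h')) with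
    ⟨K, k, k2, -⟩ | ⟨k, -⟩ | ⟨-, k, -⟩
  · refine ⟨K, k, fun b => ?_⟩
    have ht := (k2 _).1 k1
    rw [← e1, k2, mul_assoc]
    exact ⟨fun e => by simpa [h1, h1'] using K.div_mem e ht, fun e => K.mul_mem e ht⟩
  · exact absurd (by linear_combination k - h2 : (1 : F) = 0) one_ne_zero
  · rcases k _ ((e1 a).2 ha) with e | e
    · exact absurd e (mul_ne_zero h0 h1)
    · exact absurd (mul_right_cancel₀ h1 (e.trans (one_mul _).symm)) ha1

/-- An additive group stable under two opposite transvections. -/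
theorem irr2 (S : AddSubgroup V) {b b' : V} {χ χ' : Dual F V} (h : ∀ y ∈ S, χ y • b ∈ S)
    (h' : ∀ y ∈ S, χ' y • b' ∈ S) (hgen : ∀ M : Subring F, χ b' * χ' b ∈ M → M = ⊤)
    (h0 : χ b' * χ' b ≠ 0) {y : V} (hy : y ∈ S) (hy0 : χ y ≠ 0 ∨ χ' y ≠ 0) (a : F) :
    a • b ∈ S ∧ a • b' ∈ S := by
  obtain ⟨a0, ha0, h1⟩ : ∃ a0 : F, a0 ≠ 0 ∧ a0 • b ∈ S := by
    rcases hy0 with e | e
    · exact ⟨_, e, h y hy⟩
    · refine ⟨_, ?_, h _ (h' y hy)⟩
      rw [map_smul]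
      exact mul_ne_zero e (left_ne_zero_of_mul h0)
  have key : ∀ a : F, a • b ∈ S := fun a => by
    have := hgen (mult (fun a : F => a • b ∈ S) (by simp)
      (fun a c ha hc => by rw [add_smul]; exact S.add_mem ha hc)
      (fun a ha => by rw [neg_smul]; exact S.neg_mem ha)) fun a ha => by
        have := h _ (h' _ ha)
        rwa [map_smul, map_smul, smul_eq_mul, smul_eq_mul,
          show a * χ' b * χ b' = χ b' * χ' b * a by ring] at this
    have h2 : a / a0 ∈ (⊤ : Subring F) := trivial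
    rw [← this] at h2
    simpa [div_mul_cancel₀ _ ha0] using h2 a0 h1
  refine ⟨key a, ?_⟩
  have := h' _ (key (a / χ' b))
  rwa [map_smul, smul_eq_mul, div_mul_cancel₀ _ (right_ne_zero_of_mul h0)] at this

theorem card_of_pow_mem [Fintype F] {M : Subring F} (hM : M ≠ ⊤) {x : F} (h0 : x ≠ 0)
    (h : x ∈ M) : ∃ r k : ℕ, 2 ≤ r ∧ 2 ≤ k ∧ Fintype.card F = r ^ k ∧ x ^ (r - 1) = 1 := by
  let K : Subfield F := { M with inv_mem' := fun _ => inv_mem_subring M }
  have := Fintype.ofFinite K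
  have h3 := Module.card_eq_pow_finrank (K := K) (V := F)
  refine ⟨Fintype.card K, finrank K F, Fintype.one_lt_card, ?_, h3,
    congrArg Subtype.val (FiniteField.pow_card_sub_one_eq_one (⟨x, h⟩ : K)
      fun e => h0 (congrArg Subtype.val e))⟩
  by_contra hc
  have h7 : finrank K F = 1 := by have := finrank_pos (R := K) (M := F); omega
  rw [h7, pow_one] at h3
  have := AddSubgroup.eq_top_of_card_eq M.toAddSubgroup (by
    rw [Nat.card_eq_fintype_card (α := F), h3, ← Nat.card_eq_fintype_card]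
    rfl)
  exact hM (eq_top_iff.2 fun a _ => (this ▸ AddSubgroup.mem_top a : a ∈ M.toAddSubgroup))

/-- A non-zero element whose square generates the field. -/
theorem exists_sq_gen (F : Type*) [Field F] [Finite F] :
    ∃ c : F, c ≠ 0 ∧ ∀ M : Subring F, c ^ 2 ∈ M → M = ⊤ := by
  obtain ⟨θ, h0, hθ⟩ := exists_prim F
  refine ⟨θ, h0, fun M h => by_contra fun hM => ?_⟩
  have := Fintype.ofFinite F
  obtain ⟨r, k, hr, hk, e, h1⟩ := card_of_pow_mem hM (pow_ne_zero 2 h0) h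
  have h2 := (FiniteField.forall_pow_eq_one_iff F (2 * (r - 1))).1 fun a => by
    obtain ⟨j, hj⟩ := hθ a a.ne_zero
    ext
    rw [Units.val_pow_eq_pow_val, ← hj, ← pow_mul, mul_comm, pow_mul, pow_mul, h1, one_pow,
      Units.val_one]
  have h6 := Nat.le_of_dvd (by omega) h2
  have h8 := Nat.pow_le_pow_right (by omega : 1 ≤ r) hk
  obtain ⟨s, rfl⟩ : ∃ s, r = s + 2 := ⟨r - 2, by omega⟩
  have h9 : (s + 2) ^ 2 ≤ 2 * s + 3 := by omega
  nlinarith

variable [FiniteDimensional F V]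

theorem comm_tv {t : V ≃ₗ[F] V} {b : V} {χ χ' : Dual F V} {l : F} (hχ : χ b = 0) (hχ' : χ' b = 0)
    (h1 : t b = l • b) (h2 : ∀ x, χ' (t x) = χ x)
    (h : t * tv b χ hχ * t⁻¹ * (tv b χ hχ)⁻¹ ∈ H) : T1 H b (l • χ' - χ) :=
  ⟨_, h, fun x => by
    simp only [le_mul_apply, tv_inv_apply, tv_apply, map_add, map_smul, le_apply_inv, h1, ← h2,
      map_sub, hχ', LinearMap.sub_apply, LinearMap.smul_apply, smul_eq_mul]
    module⟩

section Perf

variable (hm : 3 ≤ finrank F V) {φ : Dual F V}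
  (hZ : ∀ t ∈ SLV F V, (∀ x, φ (t x) = φ x) → ∀ a ∈ SLV F V, (∀ x, φ (a x) = φ x) →
    t * a * t⁻¹ * a⁻¹ ∈ H)
  (hex : finrank F V = 3 → (∃ l : F, l ≠ 0 ∧ l ^ 2 ≠ 1) ∨ ((2 : F) ≠ 0 ∧
    ∀ t ∈ SLV F V, (∀ x, φ (t x) = -φ x) → ∀ a ∈ SLV F V, (∀ x, φ (a x) = φ x) →
      t * a * t⁻¹ * a⁻¹ ∈ H))
include hm hZ hex

theorem perf_tv {b : V} {χ : Dual F V} (hb : φ b = 0) (hχ : χ b = 0) : T1 H b χ := by
  have hs := finrank_span_single_le (F := F) b
  have tvP : ∀ (b : V) (χ : Dual F V) (h : χ b = 0), φ b = 0 → ∀ x, φ (tv b χ h x) = φ x :=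
    fun b χ h hb x => by simp [tv_apply, hb]
  by_cases hA : ∃ b', φ b' = 0 ∧ χ b' = 0 ∧ b' ∉ Submodule.span F {b}
  · obtain ⟨b', h1, h2, h3⟩ := hA
    obtain ⟨ψ, k1, k2⟩ := exists_dual_of_not_mem h3
    have k3 := k1 b (Submodule.mem_span_singleton_self b)
    have := comm_tv (t := tv b' χ h2) (χ' := ψ - χ) (l := 1) k3 (by simp [k3, hχ])
      (by simp [tv_apply, hχ]) (fun x => by simp [tv_apply, k2, h2])
      (hZ _ (tv_mem_SLV _ _ _) (tvP _ _ _ h1) _ (tv_mem_SLV _ _ _) (tvP _ _ _ hb))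
    simpa using this.neg_right (by simp [k3, hχ])
  push Not at hA
  rcases eq_or_ne b 0 with rfl | hb0
  · exact t1_zero_left χ
  have h3 : finrank F V = 3 := by
    by_contra hc
    obtain ⟨x, -, h1, h2⟩ := exists_ker_list [φ, χ] (W := ⊤) (S := Submodule.span F {b})
      (by simp; omega)
    exact h2 (hA x (h1 _ (by simp)) (h1 _ (by simp)))
  obtain ⟨e, he1, he2⟩ : ∃ e, φ e = 0 ∧ χ e = 1 := by
    obtain ⟨x, -, h1, h2⟩ := exists_ker_list [φ] (W := ⊤) (S := Submodule.span F {b})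
      (by simp; omega)
    have h4 := h1 φ (by simp)
    have h5 : χ x ≠ 0 := fun e => h2 (hA x h4 e)
    exact ⟨(χ x)⁻¹ • x, by simp [h4], by simp [h5]⟩
  rcases hex h3 with ⟨l, hl0, hl⟩ | ⟨h2, hZ'⟩
  · obtain ⟨β, -, hβ⟩ := exists_dual_of_not_mem (W := (⊥ : Submodule F V)) (u := b)
      (by simpa using hb0)
    obtain ⟨p1, d1⟩ := exists_dil_det hβ hl0
    obtain ⟨p2, d2⟩ := exists_dil_det he2 (inv_ne_zero hl0)
    have hl' : l ^ 2 - 1 ≠ 0 := sub_ne_zero.2 hl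
    have h0 : ((l ^ 2 - 1)⁻¹ • χ) b = 0 := by simp [hχ]
    have := comm_tv (t := dil _ _ p1 * dil _ _ p2) (χ' := (l * (l ^ 2 - 1)⁻¹) • χ) (l := l) h0
      (by simp [hχ]) (by simp [le_mul_apply, dil_apply, hχ, hβ, sub_smul])
      (fun x => by simp [le_mul_apply, dil_apply, hχ, he2]; field_simp; ring)
      (hZ _ (by rw [mem_SLV, det_mul', d1, d2, mul_inv_cancel₀ hl0])
        (fun x => by simp [le_mul_apply, dil_apply, hb, he1]) _ (tv_mem_SLV _ _ _) (tvP _ _ _ hb))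
    rwa [smul_smul, ← sub_smul, show l * (l * (l ^ 2 - 1)⁻¹) - (l ^ 2 - 1)⁻¹ = 1 by
      field_simp, one_smul] at this
  · obtain ⟨f, hf1, hf2⟩ : ∃ f, φ f = 1 ∧ χ f = 0 := by
      obtain ⟨x, -, h1, h4⟩ := exists_ker_list [χ] (W := ⊤) (S := Submodule.span F {b})
        (by simp; omega)
      have h5 := h1 χ (by simp)
      have h6 : φ x ≠ 0 := fun e => h4 (hA x e h5)
      exact ⟨(φ x)⁻¹ • x, by simp [h6], by simp [h5]⟩
    have hn : (-1 : F) ≠ 0 := neg_ne_zero.2 one_ne_zero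
    obtain ⟨p1, d1⟩ := exists_dil_det he2 hn
    obtain ⟨p2, d2⟩ := exists_dil_det hf1 hn
    have h0 : (-(2 : F)⁻¹ • χ) b = 0 := by simp [hχ]
    have := comm_tv (t := dil _ _ p1 * dil _ _ p2) (χ' := (2 : F)⁻¹ • χ) (l := 1) h0
      (by simp [hχ]) (by simp [le_mul_apply, dil_apply, hχ, hb])
      (fun x => by simp [le_mul_apply, dil_apply, he2, hf2]; ring)
      (hZ' _ (by rw [mem_SLV, det_mul', d1, d2]; simp)
        (fun x => by simp [le_mul_apply, dil_apply, he1, hf1]; ring) _ (tv_mem_SLV _ _ _)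
        (tvP _ _ _ hb))
    rwa [show (1 : F) • (2 : F)⁻¹ • χ - -(2 : F)⁻¹ • χ = χ from LinearMap.ext fun x => by
      simp; field_simp; ring] at this

/-- The stabiliser of a linear form in `SL(V)` is perfect. -/
theorem perf (hφ : ∃ f, φ f = 1) {g : V ≃ₗ[F] V} (hg : g ∈ SLV F V) (hg' : ∀ x, φ (g x) = φ x) :
    g ∈ H := by
  let W := LinearMap.ker φ
  let Z : Subgroup (W ≃ₗ[F] W) :=
    { carrier := {h | ∃ z ∈ H, (∀ x, φ (z x) = φ x) ∧ ∀ x : W, z x = h x}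
      mul_mem' := by
        rintro a b ⟨z, h1, h2, h3⟩ ⟨z', k1, k2, k3⟩
        exact ⟨z * z', H.mul_mem h1 k1, fun x => by rw [le_mul_apply, h2, k2],
          fun x => by rw [le_mul_apply, k3, h3, le_mul_apply]⟩
      one_mem' := ⟨1, H.one_mem, fun _ => rfl, fun _ => rfl⟩
      inv_mem' := by
        rintro a ⟨z, h1, h2, h3⟩
        exact ⟨z⁻¹, H.inv_mem h1, fun x => by rw [← h2, le_apply_inv],
          fun x => z.injective (by rw [le_apply_inv, h3, le_apply_inv])⟩ }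
  have hZ1 : SLV F W ≤ Z := SLV_le fun v ψ hψ => by
    obtain ⟨χ, hχ⟩ := ψ.exists_extend
    have h1 : ∀ x : W, χ x = ψ x := fun x => LinearMap.congr_fun hχ x
    obtain ⟨z, hz, e⟩ := perf_tv hm hZ hex (b := v) (χ := χ) v.2 (by rw [h1, hψ])
    exact ⟨tv v ψ hψ, ⟨z, hz, fun x => by simp [e, show φ v = 0 from v.2],
      fun x => by simp [e, tv_apply, h1]⟩, tv_apply _ _ _⟩
  have hW : W ≤ W.comap (g : V →ₗ[F] V) := fun x hx => (hg' x).trans hx
  let g1 : W ≃ₗ[F] W := LinearEquiv.ofInjectiveEndo ((g : V →ₗ[F] V).restrict hW)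
    fun x y h => Subtype.ext (g.injective (congrArg Subtype.val h))
  have hg1 : g1 ∈ SLV F W := by
    have h1 := LinearMap.det_eq_det_mul_det W (g : V →ₗ[F] V) hW
    rw [mem_SLV.1 hg, show W.mapQ W (g : V →ₗ[F] V) hW = LinearMap.id from
      Submodule.linearMap_qext _ (LinearMap.ext fun x => (Submodule.Quotient.eq _).2 (by
        simp [W, hg'])), LinearMap.det_id, mul_one] at h1
    exact mem_SLV.2 h1.symm
  obtain ⟨z, h1, h2, h3⟩ := hZ1 hg1
  obtain ⟨f, hf⟩ := hφ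
  have h4 : φ (z⁻¹ (g f) - f) = 0 := by rw [map_sub, ← h2, le_apply_inv, hg', sub_self]
  have h5 := (perf_tv hm hZ hex h4 h4).mem (g := z⁻¹ * g) fun x => by
    have h6 : z (x - φ x • f) = g (x - φ x • f) := h3 ⟨_, by simp [W, hf]⟩
    have h7 := congrArg (z⁻¹ : V ≃ₗ[F] V) h6
    simp only [le_inv_apply, map_sub, map_smul] at h7
    rw [le_mul_apply, smul_sub, sub_eq_iff_eq_add.1 h7.symm]
    abel
  simpa using H.mul_mem h1 h5

end Perf

end Cfsg.Agent.H84.CU
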