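import Cfsg.Agent.H84.CUAff
import Cfsg.Agent.H84.CU3b

/-!
`SU_n(q)`, `n` odd, is generated by three conjugate regular unipotent elements.
-/

set_option autoImplicit false
set_option linter.unusedSectionVars false

namespace Cfsg.Agent.H84.CU

open Module H27 RU

variable {F V W : Type*} [Field F] [Finite F] [AddCommGroup V] [Module F V] [AddCommGroup W]
  [Module F W] {σ : F →+* F} {B : V →ₛₗ[σ] V →ₗ[F] F} {H : Subgroup (V ≃ₗ[F] V)}
  [FiniteDimensional F V] {ι : W →ₗ[F] V} {x0 : V}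

/-- The maps inducing an automorphism of `W` and translating `x0`. -/
def aff (ι : W →ₗ[F] V) (x0 : V) : Subgroup (V ≃ₗ[F] V) where
  carrier := {k | ∃ a y, Lf ι k a ∧ k x0 = x0 + ι y}
  mul_mem' := fun {k k'} ⟨a, y, h1, h2⟩ ⟨a', y', k1, k2⟩ => ⟨_, y + a y', h1.mul k1, by
    rw [le_mul_apply, k2, map_add, h2, h1, map_add, add_assoc]⟩
  one_mem' := ⟨1, 0, Lf.one, by simp⟩
  inv_mem' := fun {k} ⟨a, y, h1, h2⟩ => ⟨_, -a⁻¹ y, h1.inv,
    k.injective (by rw [le_apply_inv, map_add, h2, h1]; simp [le_apply_inv])⟩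

theorem Lf.nn {k : V ≃ₗ[F] V} {a : W ≃ₗ[F] W} (h : Lf ι k a) (w : W) :
    ((k : End F V) - 1) (ι w) = ι (NN a w) := by
  rw [NN_apply, NN_apply, h, map_sub]

theorem closure_le_ind' {u u' : V ≃ₗ[F] V} {a a' : W ≃ₗ[F] W} (hu : Lf ι u a) (hu' : Lf ι u' a')
    (h1 : u ∈ H) (h2 : u' ∈ H) : Subgroup.closure {a, a'} ≤ ind ι H := by
  rw [Subgroup.closure_le]
  rintro _ (rfl | rfl)
  · exact ⟨_, h1, hu⟩
  · exact ⟨_, h2, hu'⟩

/-- Two conjugate transvections of the plane with a prescribed product. -/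
theorem exists_plane {c : F} (hc : c ≠ 0) : ∃ (b b' : Fin 2 → F) (χ χ' : Dual F (Fin 2 → F))
    (hb : χ b = 0) (hb' : χ' b' = 0), χ b' = 1 ∧ χ' b = -c ^ 2 ∧ (∀ w, ∃ r s : F, w = r • b + s • b') ∧
      ∃ g ∈ SLV F (Fin 2 → F), g * tv b χ hb * g⁻¹ = tv b' χ' hb' := by
  let b : Fin 2 → F := ![1, 0]
  let b' : Fin 2 → F := ![0, 1]
  let χ : Dual F (Fin 2 → F) := LinearMap.proj 1
  let ξ : Dual F (Fin 2 → F) := LinearMap.proj 0
  refine ⟨b, b', χ, (-c ^ 2) • ξ, by simp [χ, b], by simp [ξ, b'], by simp [χ, b'], by simp [ξ, b],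
    fun w => ⟨w 0, w 1, by ext i; fin_cases i <;> simp [b, b']⟩,
    tv (c • b' - b) (ξ + c⁻¹ • χ) (by simp [ξ, χ, b, b', hc]), tv_mem_SLV _ _ _, ?_⟩
  rw [mul_inv_eq_iff_eq_mul]
  ext w i
  fin_cases i <;> simp [le_mul_apply, tv_apply, ξ, χ, b, b', Matrix.vecHead, Matrix.vecTail] <;>
    field_simp <;> ring

variable (U : UH B) (hι : Function.Injective ι) (hW : ∀ a b, B (ι a) (ι b) = 0)
  (hx : ∀ a, B (ι a) x0 = 0) (hκ : B x0 x0 ≠ 0)
  (hp : ∀ x, (∀ w, B (ι w) x = 0) → ∃ (c : F) (w : W), x = c • x0 + ι w)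
include U hι hW hx hκ hp

theorem rad_apply {n : V ≃ₗ[F] V} (hn : n ∈ Iso B) (l : Lf ι n 1) {y : W} (e : n x0 = x0 + ι y)
    (x : V) : ∃ ω, n x = x + (-(B (ι y) x / B x0 x0)) • x0 + ι ω := by
  obtain ⟨c, ω, h⟩ := hp (n x - x) fun w => by
    rw [map_sub, sub_eq_zero, ← hn (ι w) x, l]; rfl
  have h1 := hn x0 x
  rw [e, sub_eq_iff_eq_add'.1 h] at h1
  simp only [map_add, map_smul, LinearMap.add_apply, hx, hW, U.zero_symm (hx _), smul_eq_mul] at h1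
  exact ⟨ω, by rw [sub_eq_iff_eq_add'.1 h, add_assoc, show c = -(B (ι y) x / B x0 x0) by
    field_simp; linear_combination h1]⟩

theorem le_of_rad (hH : H ≤ Iso B) (hA : ∀ y, ∃ n ∈ H, Lf ι n 1 ∧ n x0 = x0 + ι y)
    (hirr : ∀ D : Submodule F W, (∀ k ∈ H, ∀ g : W ≃ₗ[F] W, (∀ w, k (ι w) = ι (g w)) →
      ∀ w ∈ D, g w ∈ D) → D = ⊥ ∨ D = ⊤)
    (hg : ∃ g ∈ H, ∃ w w', B (ι w') (g (ι w)) ≠ 0) : GG B ≤ H := by
  have S := U.toSkH
  refine le_of_ti S hW hH (fun y => ⟨hW y y, fun c hc => ?_⟩) (fun x h1 h2 => ?_)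
    (fun a x ⟨w0, h0⟩ h1 => ?_) hirr hg
  · obtain ⟨α, hα⟩ := U.exists_sub (μ := c * B x0 x0) (by rw [map_mul, hc, S.norm_skew]; ring)
    obtain ⟨n, hn, l, e⟩ := hA y
    obtain ⟨n', hn', l', e'⟩ := hA (α • y)
    refine ⟨(n' * n)⁻¹ * (n * n'), mul_mem (inv_mem (mul_mem hn' hn)) (mul_mem hn hn'),
      fun x => (n' * n).injective ?_⟩
    obtain ⟨ω, h1⟩ := rad_apply U hι hW hx hκ hp (hH hn) l e x
    obtain ⟨ω', h2⟩ := rad_apply U hι hW hx hκ hp (hH hn') l' e' x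
    have l1 : ∀ w, n (ι w) = ι w := l
    have l2 : ∀ w, n' (ι w) = ι w := l'
    rw [le_mul_apply (n' * n)⁻¹, le_apply_inv]
    simp only [le_mul_apply, h1, h2, map_add, map_smul, l1, l2, e, e', LinearMap.map_smulₛₗ,
      LinearMap.smul_apply, smul_eq_mul]
    match_scalars
    · ring
    · ring
    · ring
    · field_simp; linear_combination B (ι y) x * hα
    · ring
  · obtain ⟨c, w, rfl⟩ := hp x h1
    obtain rfl : c = 0 := by simpa [hx, hW, S.zero_symm (hx _), hκ] using h2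
    exact ⟨w, by simp⟩
  · obtain ⟨c, w, e⟩ := hp _ h1
    obtain ⟨n, hn, l, e'⟩ := hA (σ (-c * B x0 x0 / B (ι w0) a) • w0)
    obtain ⟨ω, h2⟩ := rad_apply U hι hW hx hκ hp (hH hn) l e' a
    refine ⟨n, hn, w - ω, ?_⟩
    rw [h2, sub_eq_iff_eq_add'.1 e]
    simp only [map_sub, map_smul, LinearMap.map_smulₛₗ, LinearMap.smul_apply, smul_eq_mul, S.inv]
    match_scalars <;> field_simp <;> ring

theorem su_main {a g' : W ≃ₗ[F] W} (ha : a ∈ SLV F W) (hg' : g' ∈ SLV F W) {k : ℕ} {ψ : Dual F W}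
    {f : W} (h1 : NN a ^ (k + 1) = 0) (h2 : ψ ((NN a ^ k) f) = 1)
    (hirr : ∀ A : AddSubgroup W, (∀ y ∈ A, a y ∈ A) → (∀ y ∈ A, (g' * a * g'⁻¹) y ∈ A) →
      ∀ y ∈ A, y ≠ 0 → ∀ b, b ∈ A)
    (haff : ∀ K ≤ aff ι x0, ∀ u ∈ K, ∀ u' ∈ K, Lf ι u a → Lf ι u' (g' * a * g'⁻¹) →
      ∀ δ, u x0 = x0 + ι δ → ψ ((NN a ^ k) δ) ≠ 0 → ∃ n ∈ K, Lf ι n 1 ∧ n x0 ≠ x0)
    {n : ℕ} (hn : n - 1 ≤ k + (k + 1 + 1)) : G3 B n := by
  have S := U.toSkH
  set φ : Dual F W := ψ ∘ₗ (NN a ^ k) with hφ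
  have φN : ∀ w, φ (NN a w) = 0 := fun w => by
    rw [hφ, LinearMap.comp_apply, ← pow_succ_apply, h1]; simp
  have φa : ∀ w, φ (a w) = φ w := fun w => sub_eq_zero.1 ((map_sub _ _ _).symm.trans (φN w))
  have φf : φ f = 1 := h2
  obtain ⟨y0, hy0, hy⟩ : ∃ y0, B y0 y0 = 0 ∧ ∀ w, B y0 (ι w) = φ w := by
    obtain ⟨y, hy⟩ := exists_rep_ι S hι φ
    obtain ⟨d, hd⟩ := S.tr y
    exact ⟨y - d • ι f, by simp [hd, hy, hW, φf, S.skew y (ι f)], fun w => by simp [hy, hW]⟩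
  obtain ⟨y1, hy1⟩ := exists_rep_ι S hι ψ
  obtain ⟨u, hu, l, pu, δ, hδ, h0⟩ : ∃ u ∈ GG B, Lf ι u a ∧
      (∀ x, (∀ w, B (ι w) x = 0) → ∃ y, u x = x + ι y) ∧ ∃ δ, u x0 = x0 + ι δ ∧ φ δ ≠ 0 := by
    obtain ⟨u, hu, l, pu⟩ := exists_lift S hι hW ha
    obtain ⟨δ, hδ⟩ := pu x0 hx
    by_cases h0 : φ δ = 0
    · obtain ⟨t, ht⟩ := S.tr x0
      obtain ⟨e, he, ee⟩ := S.exists_E (hW f f) (hx f) ht.symm
      refine ⟨u * e, mul_mem hu he, fun w => ?_, fun x hx' => ?_, δ + B x0 x0 • a f, ?_, ?_⟩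
      · simp [le_mul_apply, ee, hW, S.zero_symm (hx w), l w]
      · obtain ⟨y, hy⟩ := pu x hx'
        exact ⟨y + B x0 x • a f, by simp [le_mul_apply, ee, hx', hy, l f, add_assoc]⟩
      · simp [le_mul_apply, ee, hx, hδ, l f, add_assoc]
      · simp [h0, φa, φf, hκ]
    · exact ⟨u, hu, l, pu, δ, hδ, h0⟩
  obtain ⟨g, hg, lg, pg⟩ := exists_lift S hι hW hg'
  have e1 : B (ι f) y0 = -1 := S.one_symm ((hy f).trans φf)
  obtain ⟨h, hh, eh, -⟩ := exists_move S hy0 (hW f f) (by simp [e1]) (by simp [e1])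
  obtain ⟨c, w0, e0⟩ := hp (u y0 - y0) fun w => S.zero_symm (by
    rw [map_sub, LinearMap.sub_apply, hy, ← le_apply_inv a w, φa, ← l, hu.1, hy, sub_self])
  have c0 : c ≠ 0 := by
    rintro rfl
    have := hu.1 y0 x0
    rw [sub_eq_iff_eq_add'.1 e0, hδ] at this
    exact h0 (by simpa [hy, hx, hW] using this)
  refine ⟨u, hu, g, hg, h, hh, l.nilpotent S hu.1 h1 pu, pow_ne_of_le (fun e => ?_) hn, ?_⟩
  · obtain ⟨w2, e2⟩ := pu _ fun w => S.zero_symm (l.top hu.1 h1 (y0 := y0) (y1 := y1)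
      (fun w => by rw [hy, hy1]; rfl) w)
    have e3 : NN u ((NN u ^ k) y1) = ((-1) ^ k * c) • x0 + ι ((-1 : F) ^ k • w0 + w2) := by
      rw [map_sub, map_smul, sub_eq_iff_eq_add'.1 e0] at e2
      rw [NN_apply, sub_eq_iff_eq_add.1 e2, map_add, map_smul]
      module
    have := congrArg (B y1) (LinearMap.congr_fun e y1)
    rw [pow_add_apply, pow_succ_apply', pow_succ_apply', e3, map_add, map_smul, NN_apply, hδ,
      add_sub_cancel_left, l.nn, ← map_smul, ← map_add, l.pow, hy1] at this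
    change φ _ = _ at this
    rw [map_add, φN] at this
    simp [c0, h0] at this
  have m1 : u ∈ Subgroup.closure {u, g * u * g⁻¹, h * u * h⁻¹} := Subgroup.subset_closure (by simp)
  have m2 : g * u * g⁻¹ ∈ Subgroup.closure {u, g * u * g⁻¹, h * u * h⁻¹} :=
    Subgroup.subset_closure (by simp)
  have m3 : h * u * h⁻¹ ∈ Subgroup.closure {u, g * u * g⁻¹, h * u * h⁻¹} :=
    Subgroup.subset_closure (by simp)
  have hH := (closure_le_GG hu hg hh).trans inf_le_left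
  generalize Subgroup.closure {u, g * u * g⁻¹, h * u * h⁻¹} = H at m1 m2 m3 hH
  have a1 : u ∈ aff ι x0 := ⟨a, δ, l, hδ⟩
  have a2 : g ∈ aff ι x0 := let ⟨y, e⟩ := pg x0 hx; ⟨g', y, lg, e⟩
  have a3 := mul_mem (mul_mem a2 a1) (inv_mem a2)
  have l' : Lf ι (g * u * g⁻¹) (g' * a * g'⁻¹) := (Lf.mul lg l).mul (Lf.inv lg)
  obtain ⟨n, hn, ln, n0⟩ := haff (H ⊓ aff ι x0) inf_le_right u ⟨m1, a1⟩ _ ⟨m2, a3⟩ l l' δ hδ h0
  let A : AddSubgroup W :=
    { carrier := {y | ∃ n ∈ H, Lf ι n 1 ∧ n x0 = x0 + ι y}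
      zero_mem' := ⟨1, one_mem _, Lf.one, by simp⟩
      add_mem' := fun {y y'} ⟨n, h1, h2, h3⟩ ⟨n', k1, k2, k3⟩ => ⟨n * n', mul_mem h1 k1,
        by simpa using h2.mul k2, by
          rw [le_mul_apply, k3, map_add, h3, h2, map_add, add_assoc]; rfl⟩
      neg_mem' := fun {y} ⟨n, h1, h2, h3⟩ => ⟨n⁻¹, inv_mem h1, by simpa using h2.inv,
        n.injective (by rw [le_apply_inv, map_add, h3, h2]; simp)⟩ }
  have hA : ∀ k ∈ H, k ∈ aff ι x0 → ∀ b, Lf ι k b → ∀ y ∈ A, b y ∈ A := by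
    rintro k hk hk' b lb y ⟨n, h1, h2, h3⟩
    obtain ⟨-, z, -, e⟩ := inv_mem hk'
    refine ⟨k * n * k⁻¹, mul_mem (mul_mem hk h1) (inv_mem hk), by
      simpa using (lb.mul h2).mul lb.inv, ?_⟩
    rw [le_mul_apply, le_mul_apply, e, map_add, h3, h2, le_one_apply, add_right_comm, ← e, map_add,
      le_apply_inv, lb]
  obtain ⟨-, y, -, ey⟩ := hn.2
  refine le_of_rad U hι hW hx hκ hp hH (hirr A (hA u m1 a1 _ l) (hA _ m2 a3 _ l') y
    ⟨n, hn.1, ln, ey⟩ (by rintro rfl; simp [n0] at ey)) (fun D hD => ?_) ⟨_, m3, f, f, ?_⟩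
  · rcases eq_or_ne D ⊥ with e | e
    · exact Or.inl e
    obtain ⟨y, hy, hy0⟩ := Submodule.exists_mem_ne_zero_of_ne_bot e
    exact Or.inr (eq_top_iff.2 fun b _ =>
      hirr D.toAddSubgroup (hD u m1 a l) (hD _ m2 _ l') y hy hy0 b)
  · rw [← eh, le_mul_apply, le_mul_apply, le_inv_apply, hh.1]
    intro e
    have e2 : B y0 (u y0 - y0) = 0 := by simp [e, hy0]
    have e3 : B (u y0 - y0) (u y0 - y0) = 0 := by
      simp [hu.1 y0 y0, hy0, e, S.zero_symm e]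
    rw [e0] at e3
    simp [hx, hW, S.zero_symm (hx _), c0, hκ] at e3

omit hι hW hx hκ hp in
theorem exists_sq_ne : ∃ l : F, l ≠ 0 ∧ l ^ 2 ≠ 1 := by
  obtain ⟨l, hl⟩ := U.exists_ne
  refine ⟨l, by rintro rfl; simp at hl, fun e => hl ?_⟩
  rcases sq_eq_one_iff.1 e with rfl | rfl <;> simp

omit hι hW hx hp in
theorem su_two_le {m : ℕ} {ι : (Fin m → F) →ₗ[F] V} (hm : 2 ≤ m) (hι : Function.Injective ι)
    (hW : ∀ a b, B (ι a) (ι b) = 0) (hx : ∀ a, B (ι a) x0 = 0)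
    (hp : ∀ x, (∀ w, B (ι w) x = 0) → ∃ (c : F) (w : Fin m → F), x = c • x0 + ι w) :
    G3 B (2 * m + 1) := by
  rcases hm.eq_or_lt with rfl | hm
  · obtain ⟨c, c0, hc⟩ := exists_sq_gen F
    obtain ⟨b, b', χ, χ', hb, hb', h1, h2, hs, g, hg, e⟩ := exists_plane c0
    have c2 : -c ^ 2 ≠ 0 := neg_ne_zero.2 (pow_ne_zero 2 c0)
    have eN : ∀ w, NN (tv b χ hb) w = χ w • b := fun w => by simp [tv_apply]
    refine su_main U hι hW hx hκ hp (tv_mem_SLV b χ hb) hg (k := 1) (ψ := (-c ^ 2)⁻¹ • χ') (f := b')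
      (LinearMap.ext fun w => by simp [pow_succ_apply, eN, hb])
      (by simp only [pow_one, eN, h1, one_smul, LinearMap.smul_apply, h2, smul_eq_mul,
        inv_mul_cancel₀ c2])
      (fun A hA hA' y hy hy0 w => ?_) (fun K hK u hu u' hu' l l' δ hδ h0 => ?_) le_rfl
    · obtain ⟨r, s, rfl⟩ := hs w
      have := irr2 A (b := b) (b' := b') (χ := χ) (χ' := χ')
        (fun y hy => by simpa [tv_apply] using A.sub_mem (hA y hy) hy)
        (fun y hy => by simpa [e, tv_apply] using A.sub_mem (hA' y hy) hy)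
        (fun M hM => hc M (by simpa [h1, h2] using hM)) (by simpa [h1, h2] using c0) hy (by
          obtain ⟨r, s, rfl⟩ := hs y
          by_contra h
          simp [hb, hb', h1, h2, c0] at h
          simp [h] at hy0)
      exact A.add_mem (this r).1 (this s).2
    · refine aff2 hι hb hb' (h1 ▸ one_ne_zero) (h2 ▸ c2) hs
        (fun k hk => let ⟨_, y, _, e⟩ := hK hk; ⟨y, e⟩) hu hu' l (e ▸ l') hδ fun h => h0 ?_
      simp [eN, h]
  obtain ⟨a, ha, g, hg, k, ψ, f, h1, h2, h3, h4⟩ := gen2_le F hm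
  refine su_main U hι hW hx hκ hp ha hg h2 h3 (fun A hA hA' y hy hy0 => ?_)
    (fun K hK u hu u' hu' l l' δ hδ h0 => ?_) (by omega)
  · refine irr_SLV (F := F) (by simp; omega) A (fun t ht => ?_) hy hy0
    replace ht := h4 ht
    induction ht using Subgroup.closure_induction with
    | mem t h => rcases h with rfl | rfl <;> assumption
    | one => exact fun y hy => hy
    | mul t t' _ _ h h' => exact fun y hy => h _ (h' y hy)
    | inv t _ h =>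
      intro y hy
      obtain ⟨⟨z, hz⟩, e⟩ := (Finite.injective_iff_surjective (f := fun z : A => (⟨t z, h z z.2⟩ : A))).1
        (fun z z' e => Subtype.ext (t.injective (congrArg Subtype.val e))) ⟨y, hy⟩
      rwa [← show t z = y from congrArg Subtype.val e, le_inv_apply]
  · obtain ⟨n, hn, d, hd, ln, -, y, e1, e2⟩ := aff3 (x0 := x0) (φ := ψ ∘ₗ (NN a ^ k)) (by simp; omega)
      ⟨f, h3⟩ (h4.trans (closure_le_ind' l l' hu hu')) (fun k hk _ _ _ =>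
        let ⟨_, y, _, e⟩ := hK hk; ⟨y, e⟩) (fun _ => Or.inl (exists_sq_ne U)) hu ha
      ⟨l, fun w => sub_eq_zero.1 ((map_sub _ _ _).symm.trans (by
        rw [← NN_apply, LinearMap.comp_apply, ← pow_succ_apply, h2]; simp)), δ, hδ, rfl⟩ h0
    refine ⟨n, hn, ln, fun e => hd ?_⟩
    rw [e, left_eq_add, map_eq_zero_iff _ hι] at e1
    rw [← e2, e1, map_zero]

end Cfsg.Agent.H84.CU
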