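import Cfsg.Agent.H84.CUForm

/-!
Isometries lifting a regular unipotent element of `SL(W)`, `W` totally isotropic.
-/

set_option autoImplicit false
set_option linter.unusedSectionVars false

namespace Cfsg.Agent.H84.CU

open Module H27 RU

variable {F V W : Type*} [Field F] [AddCommGroup V] [Module F V] [AddCommGroup W] [Module F W]
  {σ : F →+* F} {B : V →ₛₗ[σ] V →ₗ[F] F} {H : Subgroup (V ≃ₗ[F] V)}

/-- `u - 1` as an endomorphism. -/
abbrev NN (u : V ≃ₗ[F] V) : End F V := (u : End F V) - 1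

theorem NN_apply (u : V ≃ₗ[F] V) (x : V) : NN u x = u x - x := rfl

theorem pow_succ_apply (N : End F V) (j : ℕ) (x : V) : (N ^ (j + 1)) x = (N ^ j) (N x) := by
  rw [pow_succ]; rfl

theorem pow_succ_apply' (N : End F V) (j : ℕ) (x : V) : (N ^ (j + 1)) x = N ((N ^ j) x) := by
  rw [pow_succ']; rfl

theorem pow_add_apply (N : End F V) (i j : ℕ) (x : V) : (N ^ (i + j)) x = (N ^ i) ((N ^ j) x) := by
  rw [pow_add]; rfl

theorem NN_inv_pow {u : V ≃ₗ[F] V} {k : ℕ} (h : NN u ^ (k + 1) = 0) :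
    NN u⁻¹ ^ k = (-1 : F) ^ k • NN u ^ k ∧ NN u⁻¹ ^ (k + 1) = 0 := by
  have e1 : NN u⁻¹ = (-1 : F) • (((u⁻¹ : V ≃ₗ[F] V) : End F V) * NN u) :=
    LinearMap.ext fun x => by simp [NN_apply, le_inv_apply]
  have hc : Commute ((u⁻¹ : V ≃ₗ[F] V) : End F V) (NN u) :=
    LinearMap.ext fun x => by simp [NN_apply, le_inv_apply, le_apply_inv]
  have e2 : ((u⁻¹ : V ≃ₗ[F] V) : End F V) * NN u ^ k = NN u ^ k := LinearMap.ext fun x => by
    have := LinearMap.congr_fun h x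
    rw [pow_succ_apply', NN_apply, LinearMap.zero_apply, sub_eq_zero] at this
    change u⁻¹ _ = _
    rw [← this, le_inv_apply, this]
  have e3 : ∀ j, ((u⁻¹ : V ≃ₗ[F] V) : End F V) ^ j * NN u ^ k = NN u ^ k := fun j => by
    induction j with
    | zero => simp
    | succ j ih => rw [pow_succ, mul_assoc, e2, ih]
  rw [e1, smul_pow, smul_pow, hc.mul_pow, hc.mul_pow, e3, h]
  simp

/-- `k` induces `a` on the image of `ι`. -/
def Lf (ι : W →ₗ[F] V) (k : V ≃ₗ[F] V) (a : W ≃ₗ[F] W) : Prop := ∀ w, k (ι w) = ι (a w)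

variable {ι : W →ₗ[F] V} {k k' : V ≃ₗ[F] V} {a a' : W ≃ₗ[F] W}

theorem Lf.mul (h : Lf ι k a) (h' : Lf ι k' a') : Lf ι (k * k') (a * a') := fun w => by
  rw [le_mul_apply, h', h, le_mul_apply]

theorem Lf.inv (h : Lf ι k a) : Lf ι k⁻¹ a⁻¹ := fun w =>
  k.injective (by rw [le_apply_inv, h, le_apply_inv])

theorem Lf.one : Lf ι 1 1 := fun _ => rfl

theorem Lf.pow (h : Lf ι k a) (j : ℕ) (w : W) : (NN k ^ j) (ι w) = ι ((NN a ^ j) w) := by
  induction j with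
  | zero => rfl
  | succ j ih => rw [pow_succ_apply', pow_succ_apply', ih, NN_apply, NN_apply, h, map_sub]

theorem Lf.adj (h : Lf ι k a) (hk : k ∈ Iso B) (j : ℕ) (x : V) (w : W) :
    B ((NN k ^ j) x) (ι w) = B x (ι ((NN a⁻¹ ^ j) w)) := by
  induction j generalizing w with
  | zero => rfl
  | succ j ih =>
    rw [pow_succ_apply', pow_succ_apply, ← ih, NN_apply, NN_apply, map_sub, map_sub, map_sub,
      LinearMap.sub_apply, ← h.inv, ← hk _ (k⁻¹ _), le_apply_inv]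

/-- The group induced by `H` on the image of `ι`. -/
def ind (ι : W →ₗ[F] V) (H : Subgroup (V ≃ₗ[F] V)) : Subgroup (W ≃ₗ[F] W) where
  carrier := {a | ∃ k ∈ H, Lf ι k a}
  mul_mem' := fun ⟨_, h1, h2⟩ ⟨_, k1, k2⟩ => ⟨_, mul_mem h1 k1, h2.mul k2⟩
  one_mem' := ⟨1, one_mem _, Lf.one⟩
  inv_mem' := fun ⟨_, h1, h2⟩ => ⟨_, inv_mem h1, h2.inv⟩

theorem closure_le_ind {u g : V ≃ₗ[F] V} {u' g' : W ≃ₗ[F] W} (hu : Lf ι u u') (hg : Lf ι g g')
    (h1 : u ∈ H) (h2 : g * u * g⁻¹ ∈ H) : Subgroup.closure {u', g' * u' * g'⁻¹} ≤ ind ι H := by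
  rw [Subgroup.closure_le]
  rintro _ (rfl | rfl)
  · exact ⟨_, h1, hu⟩
  · exact ⟨_, h2, (hg.mul hu).mul hg.inv⟩

theorem Lf.nilpotent (S : SkH B) (h : Lf ι k a) (hk : k ∈ Iso B) {j : ℕ} (ha : NN a ^ (j + 1) = 0)
    (h1 : ∀ x, (∀ w, B (ι w) x = 0) → ∃ y, k x = x + ι y) : IsNilpotent (NN k) :=
  ⟨j + 1 + (j + 1 + 1), LinearMap.ext fun x => by
    obtain ⟨y, e⟩ := h1 ((NN k ^ (j + 1)) x) fun w => S.zero_symm (by
      rw [h.adj hk, (NN_inv_pow ha).2]; simp)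
    rw [pow_add_apply, pow_succ_apply' _ (j + 1), NN_apply, e, add_sub_cancel_left, h.pow, ha]
    simp⟩

theorem Lf.top (h : Lf ι k a) (hk : k ∈ Iso B) {j : ℕ} (ha : NN a ^ (j + 1) = 0) {y0 y1 : V}
    (h1 : ∀ w, B y0 (ι w) = B y1 (ι ((NN a ^ j) w))) (w : W) :
    B ((NN k ^ j) y1 - (-1 : F) ^ j • y0) (ι w) = 0 := by
  rw [map_sub, LinearMap.sub_apply, h.adj hk, (NN_inv_pow ha).1]
  simp [h1]

theorem pow_ne_of_le {N : End F V} {i j : ℕ} (h : N ^ j ≠ 0) (hij : i ≤ j) : N ^ i ≠ 0 :=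
  fun e => h (pow_eq_zero_of_le hij e)

/-- An additive group stable under `SL(W)`. -/
theorem irr_SLV [FiniteDimensional F W] (hm : 2 ≤ finrank F W) (S : AddSubgroup W)
    (h : ∀ a ∈ SLV F W, ∀ y ∈ S, a y ∈ S) {y : W} (hy : y ∈ S) (h0 : y ≠ 0) (b : W) : b ∈ S := by
  have key : ∀ b, b ∉ Submodule.span F {y} → b ∈ S := fun b hb => by
    obtain ⟨χ, h1, h2⟩ := exists_dual_of_not_mem (not_mem_span_symm hb h0)
    have := h _ (tv_mem_SLV b χ (h1 b (Submodule.mem_span_singleton_self b))) y hy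
    rw [tv_apply, h2, one_smul] at this
    simpa using S.sub_mem this hy
  by_cases hb : b ∈ Submodule.span F {y}
  · obtain ⟨c, -, hc⟩ := exists_not_mem_of_finrank_lt (W := ⊤) (S := Submodule.span F {y})
      (by have := finrank_span_single_le (F := F) y; simp; omega)
    simpa using S.sub_mem (key (b + c) fun e => hc (by simpa using Submodule.sub_mem _ e hb))
      (key c hc)
  · exact key b hb

/-- `SL_m(q)`, `m ≥ 3`, is generated by two conjugate regular unipotent elements. -/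
theorem gen2_le (F : Type*) [Field F] [Finite F] {m : ℕ} (hm : 3 ≤ m) :
    ∃ u ∈ SLV F (Fin m → F), ∃ g ∈ SLV F (Fin m → F), ∃ (k : ℕ) (ψ : Dual F (Fin m → F))
      (f : Fin m → F), m - 1 ≤ k ∧ NN u ^ (k + 1) = 0 ∧ ψ ((NN u ^ k) f) = 1 ∧
      SLV F (Fin m → F) ≤ Subgroup.closure {u, g * u * g⁻¹} := by
  classical
  obtain ⟨u, g, ⟨h1, h2⟩, h3⟩ := gen2 (F := F) hm
  let j : Matrix.SpecialLinearGroup (Fin m) F →* ((Fin m → F) ≃ₗ[F] (Fin m → F)) :=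
    (toLE (Fin m) F : GL (Fin m) F →* _).comp Matrix.SpecialLinearGroup.toGL
  have hj : ∀ A, j A ∈ SLV F (Fin m → F) := fun A => mem_SLV.2 (by
    change LinearMap.det (Matrix.toLin' (A : Matrix (Fin m) (Fin m) F)) = 1
    rw [LinearMap.det_toLin', A.2])
  have e : ∀ k, NN (j u) ^ k = Matrix.toLinAlgEquiv' (((u : Matrix (Fin m) (Fin m) F) - 1) ^ k) :=
    fun k => by rw [map_pow, map_sub, map_one]; rfl
  have h4 : ∃ k, NN (j u) ^ k = 0 := h1.imp fun k hk => by rw [e, hk, map_zero]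
  have h5 : NN (j u) ^ (m - 1) ≠ 0 := fun h => h2 (by
    rwa [e, map_eq_zero_iff _ Matrix.toLinAlgEquiv'.injective] at h)
  have h6 : m - 1 < Nat.find h4 := by
    by_contra hc
    exact h5 (pow_eq_zero_of_le (not_lt.1 hc) (Nat.find_spec h4))
  obtain ⟨k, hk⟩ : ∃ k, Nat.find h4 = k + 1 := ⟨Nat.find h4 - 1, by omega⟩
  obtain ⟨f, hf⟩ : ∃ f, (NN (j u) ^ k) f ≠ 0 := by
    by_contra hc
    push Not at hc
    exact Nat.find_min h4 (m := k) (by omega) (LinearMap.ext hc)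
  obtain ⟨ψ, -, hψ⟩ := exists_dual_of_not_mem (W := (⊥ : Submodule F (Fin m → F)))
    (u := (NN (j u) ^ k) f) (by simpa using hf)
  refine ⟨j u, hj u, j g, hj g, k, ψ, f, by omega, hk ▸ Nat.find_spec h4, hψ, fun a ha => ?_⟩
  obtain ⟨A, rfl⟩ := (toLE (Fin m) F).surjective a
  have hA : (A : Matrix (Fin m) (Fin m) F).det = 1 := by
    rw [← LinearMap.det_toLin']; exact mem_SLV.1 ha
  have : j ⟨A, hA⟩ ∈ (Subgroup.closure {u, g * u * g⁻¹}).map j :=
    Subgroup.mem_map_of_mem j (h3 ▸ Subgroup.mem_top _)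
  rwa [MonoidHom.map_closure, Set.image_pair, map_mul, map_mul, map_inv,
    show j ⟨A, hA⟩ = toLE (Fin m) F A from congrArg (toLE (Fin m) F) (Units.ext rfl)] at this

/-- Transfer of generation to a matrix group. -/
theorem G3.transfer {n : ℕ} (h : G3 B n) {G : Type*} [Group G] (j : G →* (V ≃ₗ[F] V))
    (hj : Function.Injective j) (hr : j.range = GG B) {A : Type*} [Ring A] [Algebra F A]
    (e : A ≃ₐ[F] End F V) (c : G → A) (hc : ∀ g, e (c g) = (j g : End F V)) :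
    ∃ u g h : G, IsNilpotent (c u - 1) ∧ (c u - 1) ^ (n - 1) ≠ 0 ∧
      Subgroup.closure ({u, g * u * g⁻¹, h * u * h⁻¹} : Set G) = ⊤ := by
  obtain ⟨u, hu, g, hg, h, hh, ⟨k, h1⟩, h2, h3⟩ := h
  rw [← hr] at hu hg hh
  obtain ⟨u, rfl⟩ := hu
  obtain ⟨g, rfl⟩ := hg
  obtain ⟨h, rfl⟩ := hh
  have e1 : ∀ k, e ((c u - 1) ^ k) = ((j u : End F V) - 1) ^ k := fun k => by
    rw [map_pow, map_sub, map_one, hc]
  refine ⟨u, g, h, ⟨k, e.injective (by rw [e1, h1, map_zero])⟩,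
    fun h0 => h2 (by rw [← e1, h0, map_zero]), eq_top_iff.2 fun x _ => ?_⟩
  rw [← Subgroup.mem_map_iff_mem hj, MonoidHom.map_closure, Set.image_insert_eq, Set.image_pair]
  simp only [map_mul, map_inv]
  exact h3 (hr ▸ ⟨x, rfl⟩)

end Cfsg.Agent.H84.CU
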