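import Cfsg.Agent.H84.CUAff
import Cfsg.Agent.H84.CU3a
import Cfsg.Agent.H27.SkHInst

/-!
`Sp_{2m}(q)`, `m ≥ 3`, `(m, q) ≠ (3, 2)`, is generated by three conjugate regular unipotent
elements.
-/

set_option autoImplicit false
set_option linter.unusedSectionVars false

namespace Cfsg.Agent.H84.CU

open Module H27 RU

variable {F V W : Type*} [Field F] [Finite F] [AddCommGroup V] [Module F V] [AddCommGroup W]
  [Module F W] {B : V →ₗ[F] V →ₗ[F] F} {H : Subgroup (V ≃ₗ[F] V)}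
  [FiniteDimensional F V] {ι : W →ₗ[F] V}

theorem exists_mv [FiniteDimensional F W] {φ : Dual F W} {w w' y : W} (h1 : φ w = 0)
    (h2 : φ w' = 0) (h3 : φ y ≠ 0) (h4 : w' ∉ Submodule.span F {w}) :
    ∃ t ∈ SLV F W, t w = w ∧ t w' = y := by
  obtain ⟨χ, k1, k2⟩ := exists_dual_of_not_mem h4
  have k3 := k1 w (Submodule.mem_span_singleton_self w)
  exact ⟨tv (y - w') (χ + ((1 - χ y) / φ y) • φ) (by simp [k2, h2, div_mul_cancel₀ _ h3]),
    tv_mem_SLV _ _ _, by simp [tv_apply, k3, h1], by simp [tv_apply, k2, h2]⟩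

theorem sq_of_two (h2 : (2 : F) = 0) (c : F) : ∃ l, c = l * l :=
  FiniteField.isSquare_of_char_two (by
    have : CharP F 2 := CharTwo.of_one_ne_zero_of_two_eq_zero one_ne_zero h2
    exact ringChar.eq F 2) c

variable (hA : ∀ x, B x x = 0) (hB : ∀ x, (∀ y, B x y = 0) → x = 0) (hι : Function.Injective ι)
  (hW : ∀ a b, B (ι a) (ι b) = 0) (hp : ∀ x, (∀ w, B (ι w) x = 0) → ∃ w, x = ι w)
include hA hB hι hW hp

theorem sp_shift {k : V ≃ₗ[F] V} (hk : k ∈ Iso B) {a : W ≃ₗ[F] W} (l : Lf ι k a) {x x' : V}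
    (h : ∀ w, B x' (ι (a w)) = B x (ι w)) : ∃ y, k x = x' + ι y := by
  obtain ⟨y, e⟩ := hp (k x - x') fun w => by
    rw [alt_skew hA, map_sub, LinearMap.sub_apply, ← le_apply_inv a w, h, ← l, hk, sub_self,
      neg_zero]
  exact ⟨y, sub_eq_iff_eq_add'.1 e⟩

theorem sp_as (hm : 3 ≤ finrank F W) (hH : H ≤ Iso B) (hL : SLV F W ≤ ind ι H) {φ : Dual F W}
    {y0 : V} (hy : ∀ w, B y0 (ι w) = φ w) {n : V ≃ₗ[F] V} (hn : n ∈ H) (ln : Lf ι n 1) {y : W}
    (e : n y0 = y0 + ι y) (hd : φ y ≠ 0) (w : W) : AS B H (ι w) := by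
  have S := skH_alt hA hB
  have := FiniteDimensional.of_injective ι hι
  have l1 : ∀ w, n (ι w) = ι w := ln
  have h1 : ∀ w, φ w = 0 → ES B H (ι w) (-ι y) (-φ y) := fun w hw => by
    obtain ⟨k, hk, lk⟩ := hL (tv_mem_SLV w φ hw)
    refine ⟨k * n * k⁻¹ * n⁻¹, mul_mem (mul_mem (mul_mem hk hn) (inv_mem hk)) (inv_mem hn),
      fun x => ?_⟩
    obtain ⟨x, rfl⟩ := n.surjective x
    obtain ⟨s, hs⟩ := sp_shift hA hB hι hW hp (hH hn) ln (x := x) (x' := x) fun _ => rfl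
    obtain ⟨z, hz⟩ := sp_shift hA hB hι hW hp (hH (inv_mem hk)) lk.inv (x := x)
      (x' := x + B x (ι w) • y0) fun v => by simp [tv_inv_apply, hy, hw, mul_comm]
    have h2 := hH hn y0 x
    rw [e, hs] at h2
    simp only [map_add, LinearMap.add_apply, hy, hW] at h2
    have h3 : n (k⁻¹ x) = k⁻¹ x + ι (s + B x (ι w) • y) := by
      rw [hz]; simp only [map_add, map_smul, hs, e, l1]; module
    rw [le_mul_apply, le_inv_apply, le_mul_apply, le_mul_apply, h3, map_add, le_apply_inv, lk, hs,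
      tv_apply]
    simp only [map_add, map_smul, map_neg, LinearMap.neg_apply, hW, alt_skew hA x (ι w),
      smul_eq_mul, show φ s = -B (ι y) x by linear_combination h2]
    module
  have h2 : ∀ w w', φ w = 0 → φ w' = 0 → ES B H (ι w) (ι w') 0 := fun w w' hw hw' => by
    have k1 := h1 (w - (φ y)⁻¹ • w') (by simp [hw, hw'])
    have k2 := S.es_neg (hW _ _) (by simp [hW]) (h1 w hw)
    have k3 := S.es_neg (hW _ _) (by simp [hW]) (h1 (-(φ y)⁻¹ • w') (by simp [hw']))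
    refine ((k1.comp k2).comp k3).congr fun x => ?_
    simp only [map_add, map_smul, map_neg, map_sub, LinearMap.neg_apply, LinearMap.sub_apply,
      LinearMap.smul_apply, hW, smul_eq_mul, neg_smul]
    match_scalars <;> field_simp <;> ring
  have ex : ∀ w, ∃ w', φ w' = 0 ∧ w' ∉ Submodule.span F {w} := fun w => by
    obtain ⟨w', -, k1, k2⟩ := exists_ker_list [φ] (W := ⊤) (S := Submodule.span F {w})
      (by have := finrank_span_single_le (F := F) w; simp; omega)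
    exact ⟨w', k1 φ (by simp), k2⟩
  have h3 : ∀ w, φ w = 0 → T1 H (ι w) ((-φ y) • B (ι w)) := fun w hw => by
    obtain ⟨w', k1, k2⟩ := ex w
    obtain ⟨t, ht, t1, t2⟩ := exists_mv hw k1 hd k2
    obtain ⟨k, hk, lk⟩ := hL ht
    have := (h2 w w' hw k1).conj hk (hH hk)
    rw [lk, lk, t1, t2] at this
    refine Has.congr (S.es_comp (hW _ _) (by simp [hW]) (hW _ _) (h1 w hw) this) fun x => ?_
    simp [hW]
  have h4 : ∀ w, φ w = 0 → AS B H (ι w) := fun w hw => ⟨hW _ _, fun c _ => by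
    by_cases h : (2 : F) = 0
    · obtain ⟨l, hl⟩ := sq_of_two h (c / -φ y)
      have := h3 (l • w) (by simp [hw])
      rwa [map_smul ι, t1_smul', RingHom.id_apply, ← hl, div_mul_cancel₀ _ (neg_ne_zero.2 hd)]
        at this
    · refine Has.congr (h2 w ((c / 2) • w) hw (by simp [hw])) fun x => ?_
      simp only [map_smul, LinearMap.smul_apply, smul_eq_mul]
      match_scalars <;> field_simp <;> ring⟩
  by_cases hw : φ w = 0
  · exact h4 w hw
  obtain ⟨w', k1, k2⟩ := ex 0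
  obtain ⟨t, ht, -, t2⟩ := exists_mv (map_zero φ) k1 hw k2
  obtain ⟨k, hk, lk⟩ := hL ht
  simpa only [lk w', t2] using (h4 w' k1).conj hk (hH hk)

theorem sp_main (hm : 3 ≤ finrank F W)
    (hex : finrank F W = 3 → (∃ l : F, l ≠ 0 ∧ l ^ 2 ≠ 1) ∨ (2 : F) ≠ 0)
    {a g' : W ≃ₗ[F] W} (ha : a ∈ SLV F W) (hg' : g' ∈ SLV F W) {k : ℕ} {ψ : Dual F W}
    {f : W} (h1 : NN a ^ (k + 1) = 0) (h2 : ψ ((NN a ^ k) f) = 1)
    (hL : SLV F W ≤ Subgroup.closure {a, g' * a * g'⁻¹}) {n : ℕ} (hn : n - 1 ≤ k + (k + 1)) :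
    G3 B n := by
  have S := skH_alt hA hB
  have := FiniteDimensional.of_injective ι hι
  set φ : Dual F W := ψ ∘ₗ (NN a ^ k) with hφ
  have φN : ∀ w, φ (NN a w) = 0 := fun w => by
    rw [hφ, LinearMap.comp_apply, ← pow_succ_apply, h1]; simp
  have φa : ∀ w, φ (a w) = φ w := fun w => sub_eq_zero.1 ((map_sub _ _ _).symm.trans (φN w))
  have φf : φ f = 1 := h2
  obtain ⟨y0, hy⟩ := exists_rep_ι S hι φ
  obtain ⟨y1, hy1⟩ := exists_rep_ι S hι ψ
  have e1 : B (ι f) y0 = -1 := S.one_symm ((hy f).trans φf)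
  have hK : ∀ k ∈ Iso B, ∀ a, Lf ι k a → (∀ x, φ (a x) = φ x) → ∃ y, k y0 = y0 + ι y :=
    fun k hk a l h => sp_shift hA hB hι hW hp hk l fun w => by rw [hy, hy, h]
  obtain ⟨u, hu, l, δ, hδ, h0⟩ : ∃ u ∈ GG B, Lf ι u a ∧ ∃ δ, u y0 = y0 + ι δ ∧ φ δ ≠ 0 := by
    obtain ⟨u, hu, l, -⟩ := exists_lift S hι hW ha
    obtain ⟨δ, hδ⟩ := hK u hu.1 a l φa
    by_cases h0 : φ δ = 0
    · obtain ⟨e, he, ee⟩ := S.exists_tvS (hW f f) (map_one _)
      refine ⟨u * e, mul_mem hu he, fun w => ?_, δ - a f, ?_, ?_⟩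
      · simp [le_mul_apply, ee, hW, l w]
      · simp [le_mul_apply, ee, e1, hδ, l f, add_assoc, sub_eq_add_neg]
      · simp [h0, φa, φf]
    · exact ⟨u, hu, l, δ, hδ, h0⟩
  obtain ⟨g, hg, lg, -⟩ := exists_lift S hι hW hg'
  obtain ⟨h, hh, eh, -⟩ := exists_move S (hA y0) (hW f f) (by simp [e1]) rfl
  refine ⟨u, hu, g, hg, h, hh, l.nilpotent S hu.1 h1 fun x hx => ?_,
    pow_ne_of_le (fun e => ?_) hn, ?_⟩
  · obtain ⟨w, rfl⟩ := hp x hx
    exact ⟨a w - w, by simp [l w]⟩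
  · obtain ⟨w2, e2⟩ := hp _ fun w => S.zero_symm (l.top hu.1 h1 (y0 := y0) (y1 := y1)
      (fun w => by rw [hy, hy1]; rfl) w)
    have e3 : NN u ((NN u ^ k) y1) = ι ((-1 : F) ^ k • δ + NN a w2) := by
      rw [sub_eq_iff_eq_add'.1 e2]
      simp only [NN_apply, map_add, map_smul, map_sub, hδ, l w2]
      module
    have := congrArg (B y1) (LinearMap.congr_fun e y1)
    rw [pow_add_apply, pow_succ_apply', e3, l.pow, hy1] at this
    change φ _ = _ at this
    rw [map_add, φN] at this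
    simp [h0] at this
  have m1 : u ∈ Subgroup.closure {u, g * u * g⁻¹, h * u * h⁻¹} := Subgroup.subset_closure (by simp)
  have m2 : g * u * g⁻¹ ∈ Subgroup.closure {u, g * u * g⁻¹, h * u * h⁻¹} :=
    Subgroup.subset_closure (by simp)
  have m3 : h * u * h⁻¹ ∈ Subgroup.closure {u, g * u * g⁻¹, h * u * h⁻¹} :=
    Subgroup.subset_closure (by simp)
  have hH := (closure_le_GG hu hg hh).trans inf_le_left
  generalize Subgroup.closure {u, g * u * g⁻¹, h * u * h⁻¹} = H at m1 m2 m3 hH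
  replace hL := hL.trans (closure_le_ind l lg m1 m2)
  obtain ⟨n, hn, d, hd, ln, -, y, e2, rfl⟩ := aff3 (x0 := y0) hm ⟨f, φf⟩ hL
    (fun k hk => hK k (hH hk)) (fun h3 => (hex h3).imp_right fun h2 =>
      ⟨h2, fun t ht τ lt hτ k _ b c ⟨k1, k2, y, k3, k4⟩ => by
        obtain ⟨z, hz⟩ := sp_shift hA hB hι hW hp (hH (inv_mem ht)) lt.inv (x := y0) (x' := -y0)
          fun v => by rw [map_neg, LinearMap.neg_apply, hy, hy, ← hτ, le_apply_inv]
        refine ⟨(lt.mul k1).mul lt.inv, fun x => ?_, τ (b z - y - z), ?_, ?_⟩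
        · rw [le_mul_apply, le_mul_apply, hτ, k2, ← hτ, le_apply_inv]
        · have : k (t⁻¹ y0) = t⁻¹ y0 + ι (b z - y - z) := by
            rw [hz]
            simp only [map_add, map_neg, map_sub, k3, k1 z]
            module
          rw [le_mul_apply, le_mul_apply, this, map_add, le_apply_inv, lt]
        · simp [hτ, k2, k4]⟩) m1 ha ⟨l, φa, δ, hδ, rfl⟩ h0
  refine le_of_ti S hW hH (sp_as hA hB hι hW hp hm hH hL hy hn ln e2 hd) (fun x h _ => hp x h)
    (fun a x _ h => ⟨1, one_mem _, (hp _ h).imp fun w e => sub_eq_iff_eq_add'.1 e⟩)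
    (fun D hD => ?_) ⟨_, m3, f, f, ?_⟩
  · rcases eq_or_ne D ⊥ with e | e
    · exact Or.inl e
    obtain ⟨y, hy, hy0⟩ := Submodule.exists_mem_ne_zero_of_ne_bot e
    exact Or.inr (eq_top_iff.2 fun b _ => irr_SLV (F := F) (by omega) D.toAddSubgroup
      (fun t ht => let ⟨k, hk, lk⟩ := hL ht; hD k hk t lk) hy hy0 b)
  · rw [← eh, le_mul_apply, le_mul_apply, le_inv_apply, hh.1, hδ]
    simpa [hA, hy] using h0

omit hA hB hι hW hp

open scoped Matrix

/-- `Sp` as a group of linear automorphisms. -/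
noncomputable def jSp (m : ℕ) (F : Type*) [Field F] : Matrix.symplecticGroup (Fin m) F →*
    ((Fin m ⊕ Fin m → F) ≃ₗ[F] (Fin m ⊕ Fin m → F)) :=
  (toLE (Fin m ⊕ Fin m) F : GL (Fin m ⊕ Fin m) F →* _).comp
    (Matrix.symplecticGroup (Fin m) F).subtype.toHomUnits

theorem jSp_apply {m : ℕ} (g : Matrix.symplecticGroup (Fin m) F) (x : Fin m ⊕ Fin m → F) :
    jSp m F g x = g.1 *ᵥ x := rfl

theorem G3.sp {m n : ℕ} (h : G3 (sympBilin m F) n) :
    ∃ u g h : Matrix.symplecticGroup (Fin m) F, IsNilpotent (u.1 - 1) ∧ (u.1 - 1) ^ (n - 1) ≠ 0 ∧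
      Subgroup.closure ({u, g * u * g⁻¹, h * u * h⁻¹} : Set _) = ⊤ :=
  h.transfer (jSp m F) (fun _ _ e => sp_ext fun x => by rw [← jSp_apply, e, jSp_apply]) (by
    rw [GG_alt (B := sympBilin m F) sympBilin_isAlt sympBilin_nondegenerate.1]
    ext g
    refine ⟨?_, fun hg => ?_⟩
    · rintro ⟨A, rfl⟩ x y
      rw [sympBilin_apply, sympBilin_apply, jSp_apply, jSp_apply, sp_sympForm]
    · obtain ⟨A, e⟩ := exists_sp_of_isometry g.toLinearMap fun x y => by
        rw [← sympBilin_apply, ← sympBilin_apply]; exact hg x y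
      exact ⟨A, LinearEquiv.ext e⟩) Matrix.toLinAlgEquiv' (fun u => u.1) fun _ => rfl

theorem sp_three_le {m : ℕ} (hm : 3 ≤ m)
    (hex : m = 3 → (∃ l : F, l ≠ 0 ∧ l ^ 2 ≠ 1) ∨ (2 : F) ≠ 0) : G3 (sympBilin m F) (2 * m) := by
  obtain ⟨a, ha, g, hg, k, ψ, f, h1, h2, h3, h4⟩ := gen2_le F hm
  let ι : (Fin m → F) →ₗ[F] (Fin m ⊕ Fin m → F) :=
    { toFun := fun w => Sum.elim w 0
      map_add' := fun _ _ => by ext (i | i) <;> simp
      map_smul' := fun _ _ => by ext (i | i) <;> simp }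
  refine sp_main (ι := ι) sympBilin_isAlt sympBilin_nondegenerate.1
    (fun a b e => funext fun i => congrFun e (Sum.inl i))
    (fun a b => by simp [ι, sympBilin_apply, sympForm_eq]) (fun x hx => ⟨x ∘ Sum.inl, ?_⟩)
    (by simpa using hm) (by simpa using hex) ha hg h2 h3 h4 (by omega)
  ext (i | i)
  · rfl
  · have := hx (Pi.single i 1)
    simpa [ι, sympBilin_apply, sympForm_eq, Pi.single_apply] using this

end Cfsg.Agent.H84.CU
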