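import Cfsg.Agent.H84.CUSp

/-!
`Sp₄(q)`, `q ≥ 3`, is generated by three conjugate regular unipotent elements.
-/

set_option autoImplicit false
set_option linter.unusedSectionVars false

namespace Cfsg.Agent.H84.CU

open Module H27 RU

variable {F V : Type*} [Field F] [Finite F] [AddCommGroup V] [Module F V]
  {B : V →ₗ[F] V →ₗ[F] F} {H : Subgroup (V ≃ₗ[F] V)} [FiniteDimensional F V]

/-- An Eichler element with centre `z` composed with the transvection with centre `e`. -/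
def UF (B : V →ₗ[F] V →ₗ[F] F) (z e y : V) (t : F) (x : V) : V :=
  x + B e x • e + B z x • y + (B y x + B e x * B y e + t * B z x) • z

theorem UF_conj {k u : V ≃ₗ[F] V} (hk : k ∈ Iso B) {z e y : V} {t : F}
    (hu : ∀ x, u x = UF B z e y t x) (x : V) : (k * u * k⁻¹) x = UF B (k z) (k e) (k y) t x := by
  obtain ⟨x, rfl⟩ := k.surjective x
  simp only [le_mul_apply, le_inv_apply, hu, UF, map_add, map_smul, hk _ _]

/-- A hyperbolic basis of a four-dimensional symplectic space. -/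
structure Hyp (B : V →ₗ[F] V →ₗ[F] F) (z e f p : V) : Prop where
  alt : ∀ x, B x x = 0
  zp : B z p = 1
  ef : B e f = 1
  ze : B z e = 0
  zf : B z f = 0
  pe : B p e = 0
  pf : B p f = 0
  span : ∀ x, x = (-B p x) • z + (-B f x) • e + B e x • f + B z x • p

namespace Hyp

variable {z e f p : V} (C : Hyp B z e f p)
include C

theorem S : SkH B := skH_alt C.alt fun x hx => by
  rw [C.span x]; simp [alt_skew C.alt x, hx]

theorem tab : B z z = 0 ∧ B e e = 0 ∧ B f f = 0 ∧ B p p = 0 ∧ B z p = 1 ∧ B e f = 1 ∧ B z e = 0 ∧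
    B z f = 0 ∧ B p e = 0 ∧ B p f = 0 ∧ B p z = -1 ∧ B f e = -1 ∧ B e z = 0 ∧ B f z = 0 ∧
    B e p = 0 ∧ B f p = 0 :=
  ⟨C.alt _, C.alt _, C.alt _, C.alt _, C.zp, C.ef, C.ze, C.zf, C.pe, C.pf, C.S.one_symm C.zp,
    C.S.one_symm C.ef, C.S.zero_symm C.ze, C.S.zero_symm C.zf, C.S.zero_symm C.pe,
    C.S.zero_symm C.pf⟩

theorem es_z {y : V} {t s : F} (hy : B z y = 0) (h : ES B H z (y + s • z) t) :
    ES B H z y (t + 2 * s) :=
  Has.congr h fun x => by
    simp only [map_add, map_smul, LinearMap.add_apply, LinearMap.smul_apply, smul_eq_mul]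
    module

theorem es_UF (hH : H ≤ Iso B) {e' y y1 : V} {t t1 : F} (h : Has H (UF B z e' y t))
    (he : B z e' = 0) (hy : B z y = 0) (h1 : B z y1 = 0) (h2 : ES B H z y1 t1) :
    ∃ s, ES B H z (y1 + B e' y1 • e') (t1 + 2 * s) := by
  obtain ⟨k, hk, ek⟩ := h
  have := h2.conj hk (hH hk)
  simp only [ek, UF, C.alt, C.S.zero_symm he, C.S.zero_symm hy, h1, zero_smul, add_zero, zero_mul,
    mul_zero] at this
  exact ⟨_, C.es_z (by simp [h1, he]) this⟩

theorem irr {c : F} (c0 : c ≠ 0) (hc : ∀ M : Subring F, c ^ 2 ∈ M → M = ⊤) (A : AddSubgroup V)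
    (hz : ∀ s : F, s • z ∈ A) (h : ∀ y ∈ A, y + B e y • e ∈ A)
    (h' : ∀ y ∈ A, y + B (c • f) y • c • f ∈ A) {y : V} (hy : y ∈ A) (h0 : B e y ≠ 0 ∨ B f y ≠ 0)
    {x : V} (hx : B z x = 0) : x ∈ A := by
  have := irr2 A (b := e) (b' := f) (χ := B e) (χ' := c ^ 2 • B f)
    (fun y hy => by simpa using A.sub_mem (h y hy) hy)
    (fun y hy => by
      have := A.sub_mem (h' y hy) hy
      simp only [add_sub_cancel_left, map_smul, LinearMap.smul_apply, smul_smul] at this ⊢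
      convert this using 2
      simp only [smul_eq_mul]; ring)
    (fun M hM => hc M (by simpa [C.tab] using hM)) (by simpa [C.tab] using c0) hy
    (by simpa [c0] using h0)
  rw [C.span x, hx, zero_smul, add_zero]
  exact A.add_mem (A.add_mem (hz _) (this _).1) (this _).2

theorem fin (hH : H ≤ Iso B) (hz : AS B H z) (h : ∀ y, B z y = 0 → ∃ t, ES B H z y t)
    {v : V ≃ₗ[F] V} (hv : v ∈ H) (h0 : B z (v z) ≠ 0) : GG B ≤ H :=
  have := qs_of_es C.S hH hz (by rintro rfl; simp at h0) h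
  le_of_qs C.S hH this (this.conj hv (hH hv)) h0

theorem odd (h2 : (2 : F) ≠ 0) (hH : H ≤ Iso B) {c : F} (c0 : c ≠ 0)
    (hc : ∀ M : Subring F, c ^ 2 ∈ M → M = ⊤) {y : V} {t t' : F} (hy : B z y = 0)
    (hu : Has H (UF B z e f t)) (hu' : Has H (UF B z (c • f) y t')) :
    AS B H z ∧ ∀ y, B z y = 0 → ∃ t, ES B H z y t := by
  have S := C.S
  let L : Subgroup (V ≃ₗ[F] V) :=
    { carrier := {a | (∀ x, B z (a x) = B z x) ∧ ∃ k ∈ H, k z = z ∧
        ∀ x, B z x = 0 → ∃ s : F, k x = a x + s • z}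
      mul_mem' := by
        rintro a b ⟨h0, k, h1, h2, h3⟩ ⟨k0, k', k1, k2, k3⟩
        refine ⟨fun x => by rw [le_mul_apply, h0, k0], k * k', mul_mem h1 k1,
          by rw [le_mul_apply, k2, h2], fun x hx => ?_⟩
        obtain ⟨s, e⟩ := k3 x hx
        obtain ⟨s', e'⟩ := h3 (b x) ((k0 x).trans hx)
        exact ⟨s' + s, by rw [le_mul_apply, e, map_add, e', map_smul, h2, add_smul, add_assoc]; rfl⟩
      one_mem' := ⟨fun _ => rfl, 1, one_mem _, rfl, fun x _ => ⟨0, by simp⟩⟩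
      inv_mem' := by
        rintro a ⟨h0, k, h1, h2, h3⟩
        have h4 : ∀ x, B z (a⁻¹ x) = B z x := fun x => by rw [← h0, le_apply_inv]
        refine ⟨h4, k⁻¹, inv_mem h1, k.injective (by rw [le_apply_inv, h2]), fun x hx => ?_⟩
        obtain ⟨s, e⟩ := h3 (a⁻¹ x) ((h4 x).trans hx)
        exact ⟨-s, k.injective (by
          rw [le_apply_inv, map_add, e, map_smul, h2, le_apply_inv]; simp)⟩ }
  have hL : ∀ {e' y : V} {t : F}, B z e' = 0 → B z y = 0 → Has H (UF B z e' y t) →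
      T1 L e' (B e') := fun he hy ⟨k, hk, ek⟩ => t1_of_tv (C.alt _) ⟨fun x => by
        simp [tv_apply, he], k, hk, by
        simp [ek, UF, C.alt, S.zero_symm he, S.zero_symm hy], fun x hx =>
        ⟨_, by rw [ek, UF, hx, zero_smul, add_zero, tv_apply]⟩⟩
  obtain ⟨a, ⟨-, j, hj, jz, lj⟩, ha⟩ := t1_neg h2 (hL C.ze C.zf hu)
    (hL (by simp [C.zf]) hy hu') (C.alt _) (C.alt _) (by simpa [C.tab] using c0)
    (by simpa [C.tab] using c0)
  obtain ⟨s1, je⟩ := lj e C.ze
  obtain ⟨s2, jf⟩ := lj f C.zf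
  have ae : a e = -e := by
    simp only [ha, map_smul, LinearMap.smul_apply, C.tab, smul_eq_mul]
    match_scalars <;> field_simp <;> ring
  have af : a f = -f := by
    simp only [ha, map_smul, LinearMap.smul_apply, C.tab, smul_eq_mul]
    match_scalars <;> field_simp <;> ring
  have hn : ES B H z (-(2 : F) • f - s1 • e) (s1 ^ 2 + 2 * s2) := by
    obtain ⟨u, hu, eu⟩ := hu
    refine ⟨j * u * j⁻¹ * u⁻¹, mul_mem (mul_mem (mul_mem hj hu) (inv_mem hj)) (inv_mem hu),
      fun x => ?_⟩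
    obtain ⟨x, rfl⟩ := u.surjective x
    rw [le_mul_apply, le_inv_apply, UF_conj (hH hj) eu, jz, je, jf, ae, af, eu]
    simp only [UF, map_add, map_sub, map_neg, map_smul, LinearMap.add_apply, LinearMap.sub_apply,
      LinearMap.neg_apply, LinearMap.smul_apply, smul_eq_mul, C.tab]
    module
  let A : AddSubgroup V :=
    { carrier := {y | B z y = 0 ∧ ∃ t, ES B H z y t}
      zero_mem' := ⟨by simp, _, by simpa using es_self S (z := z) 0⟩
      add_mem' := fun ⟨h1, _, h2⟩ ⟨k1, _, k2⟩ =>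
        ⟨by simp [h1, k1], _, S.es_comp (C.alt _) h1 k1 h2 k2⟩
      neg_mem' := fun ⟨h1, _, h2⟩ => ⟨by simp [h1], _, S.es_neg (C.alt _) h1 h2⟩ }
  have key : ∀ y, B z y = 0 → ∃ t, ES B H z y t := fun y' hy' => (C.irr c0 hc A
    (fun s => ⟨by simp [C.alt], _, es_self S s⟩)
    (fun y1 ⟨h1, _, h3⟩ => ⟨by simp [h1, C.ze], _, (C.es_UF hH hu C.ze C.zf h1 h3).choose_spec⟩)
    (fun y1 ⟨h1, _, h3⟩ => ⟨by simp [h1, C.zf], _,
      (C.es_UF hH hu' (by simp [C.zf]) hy h1 h3).choose_spec⟩)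
    ⟨by simp [C.tab], _, hn⟩ (Or.inl (by simpa [C.tab] using h2)) hy').2
  obtain ⟨t, ht⟩ := key f C.zf
  exact ⟨S.as_of_es (fun t _ => ⟨t / 2, by rw [RingHom.id_apply]; field_simp; ring⟩) (C.alt _) C.ze C.zf (by simp [C.ef])
    (fun c => key _ (by simp [C.ze])) ht, key⟩

section Two

variable (h2 : (2 : F) = 0) {Q : V → F} (Qa : ∀ x y, Q (x + y) = Q x + Q y + B x y)
  (Qs : ∀ (a : F) x, Q (a • x) = a ^ 2 * Q x) (hH : H ≤ Iso B)
include h2 Qa Qs hH

theorem X_conj {w e' y : V} (hX : ∀ y, B w y = 0 → ES B H w y (Q y)) {z' : V} (hz : Q z' = 0)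
    (he : Q e' = 1 ∨ e' = 0) (h1 : B z' e' = 0) (hy : B z' y = 0) (h : Has H (UF B z' e' y (Q y)))
    (x : V) (hx : B (UF B z' e' y (Q y) w) x = 0) : ES B H (UF B z' e' y (Q y) w) x (Q x) := by
  obtain ⟨k, hk, ek⟩ := h
  obtain ⟨x, rfl⟩ := k.surjective x
  rw [← ek, hH hk] at hx
  have : Q (k x) = Q x := by
    simp only [ek, UF, Qa, Qs, map_add, map_smul, LinearMap.add_apply, LinearMap.smul_apply, hz,
      smul_eq_mul, alt_skew C.alt z' x, alt_skew C.alt e' x, alt_skew C.alt y x,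
      alt_skew C.alt y e', C.S.zero_symm h1, C.S.zero_symm hy]
    rcases he with he | rfl
    · rw [he]; grind
    · simp only [map_zero, LinearMap.zero_apply]; grind
  rw [← ek, this]
  exact (hX x hx).conj hk (hH hk)

theorem two {c : F} (c0 : c ≠ 0) (hc : ∀ M : Subring F, c ^ 2 ∈ M → M = ⊤) (qz : Q z = 0)
    (qp : Q p = 0) (qe : Q e = 1) (qf : Q (c • f) = 1) {y : V} {t : F} (hy : B z y = 0)
    (ht : t ≠ Q y) (hu : Has H (UF B z e f (Q f))) (hu' : Has H (UF B z (c • f) y t))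
    (hv : Has H (UF B p e f (Q f))) : AS B H z ∧ ∀ y, B z y = 0 → ∃ t, ES B H z y t := by
  have S := C.S
  have q0 : Q 0 = 0 := by simpa using Qs 0 0
  have n2 : ∀ x : V, -x = x := fun x => by
    rw [neg_eq_iff_add_eq_zero, ← two_smul F, h2, zero_smul]
  have qf' : Q f = c⁻¹ ^ 2 := by rw [Qs] at qf; grind
  have UE : ∀ {z' y : V} {t : F}, ES B H z' y t → Has H (UF B z' 0 y t) := fun h =>
    Has.congr h fun x => by simp [UF]
  let A : AddSubgroup V :=
    { carrier := {y | B z y = 0 ∧ ES B H z y (Q y)}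
      zero_mem' := ⟨by simp, by simpa [q0] using es_self S (z := z) 0⟩
      add_mem' := fun ⟨h1, h3⟩ ⟨k1, k2⟩ =>
        ⟨by simp [h1, k1], Qa _ _ ▸ S.es_comp (C.alt _) h1 k1 h3 k2⟩
      neg_mem' := fun {x} h => by rwa [n2] }
  have hA : ∀ {e' y : V} {t : F}, Q e' = 1 → B z e' = 0 → B z y = 0 → Has H (UF B z e' y t) →
      ∀ x ∈ A, x + B e' x • e' ∈ A := fun q he hy h x ⟨h1, h3⟩ => ⟨by simp [h1, he], by
    obtain ⟨s, hs⟩ := C.es_UF hH h he hy h1 h3
    convert hs using 1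
    simp only [Qa, Qs, q, map_smul, alt_skew C.alt _ x, LinearMap.smul_apply, smul_eq_mul]
    grind⟩
  have Xz : ∀ y, B z y = 0 → ES B H z y (Q y) := fun y' hy' => (C.irr c0 hc A
    (fun s => ⟨by simp [C.alt], by
      convert es_self S (H := H) (z := z) s using 1
      rw [Qs, qz, RingHom.id_apply]; grind⟩)
    (hA qe C.ze C.zf hu) (hA qf (by simp [C.zf]) hy hu') (y := e) ⟨C.ze, (hu.comp hu).congr fun x => by
      simp only [UF, map_add, map_smul, C.tab, smul_eq_mul, qe]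
      match_scalars <;> grind⟩ (Or.inr (by simp [C.tab])) hy').2
  have Xp : ∀ y, B p y = 0 → ES B H p y (Q y) := fun y' hy' => by
    have k1 := C.X_conj h2 Qa Qs hH (C.X_conj h2 Qa Qs hH Xz qp (Or.inl qe) C.pe C.pf hv) qz
      (Or.inr rfl) (map_zero _) (y := c ^ 2 • f) (by simp [C.zf]) (UE (Xz _ (by simp [C.zf])))
    have k2 : UF B z 0 (c ^ 2 • f) (Q (c ^ 2 • f)) (UF B p e f (Q f) z) = c⁻¹ ^ 2 • p := by
      simp only [UF, map_add, map_smul, C.tab, smul_eq_mul, Qs, qf', map_zero,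
        LinearMap.zero_apply, LinearMap.smul_apply]
      match_scalars <;> grind
    rw [k2] at k1
    have k3 := es_of_smul S (k1 (c ^ 2 • y') (by simp [hy']))
    simp only [RingHom.id_apply, Qs, smul_smul] at k3
    convert k3 using 1
    · rw [show c⁻¹ ^ 2 * c ^ 2 = 1 by grind, one_smul]
    · grind
  have mv : ∀ {z' y v w : V} {t a : F}, ES B H z' y t → T1 H v (a • B v) →
      v + B z' v • y + (B y v + t * B z' v) • z' = w → T1 H w (a • B w) :=
    fun ⟨k, hk, ek⟩ h e => (ek _).trans e ▸ t1_conj h hk (hH hk)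
  have tv : ∀ {e' y : V} {t : F}, B z e' = 0 → B z y = 0 → Has H (UF B z e' y t) →
      Has H fun x => x + B e' x • e' + ((t - Q y) * B z x) • z := fun he hy h =>
    ((Xz _ hy).comp h).congr fun x => by
      simp only [UF, map_add, map_smul, smul_eq_mul, he, hy, C.alt, S.zero_symm hy]
      match_scalars <;> grind
  have t1 : T1 H e ((1 : F) • B e) := (tv C.ze C.zf hu).congr fun x => by simp
  have t2 : T1 H (c • f) ((1 : F) • B (c • f)) := by
    refine mv (Xz (c⁻¹ • e) (by simp [C.ze])) (mv (w := c • f + z) (Xp (e + c • f)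
      (by simp [C.tab])) (mv (w := e + z) (Xz f C.zf) t1 ?_) ?_) ?_
    all_goals
      simp only [Qa, qe, qf, map_add, map_smul, C.tab, smul_eq_mul, LinearMap.add_apply,
        LinearMap.smul_apply]
      match_scalars <;> grind
  have t3 : T1 H z ((t - Q y) • B z) := ((tv (by simp [C.zf]) hy hu').comp t2).congr fun x => by
    simp only [map_add, map_smul, C.tab, smul_eq_mul, LinearMap.smul_apply]
    match_scalars <;> grind
  have t4 : T1 H p ((t - Q y) • B p) := by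
    refine mv (Xz e C.ze) (mv (w := p + e + z) (Xp e C.pe) t3 ?_) ?_
    all_goals
      simp only [qe, map_add, C.tab]
      match_scalars <;> grind
  refine ⟨⟨C.alt _, fun a _ => ?_⟩, fun y hy => ⟨_, Xz y hy⟩⟩
  rcases eq_or_ne a 0 with rfl | a0
  · simpa using t1_zero_right z
  obtain ⟨l, hl⟩ := sq_of_two h2 (a / (t - Q y))
  obtain ⟨r, rfl⟩ := sq_of_two h2 l
  have h3 := sub_ne_zero.2 ht
  have r0 : r ≠ 0 := by rintro rfl; simp [a0, h3] at hl
  have : T1 H ((r * r) • z) ((t - Q y) • B ((r * r) • z)) := by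
    refine mv (Xp (r⁻¹ • e) (by simp [C.pe])) (mv (w := p + r • e + (r * r) • z) (Xz (r • e)
      (by simp [C.ze])) t4 ?_) ?_
    all_goals
      simp only [Qs, qe, map_add, map_smul, C.tab, smul_eq_mul, LinearMap.smul_apply]
      match_scalars <;> grind
  rwa [t1_smul', RingHom.id_apply, ← hl, div_mul_cancel₀ _ h3] at this

end Two

theorem g3 (hl : (2 : F) = 0 → ∃ l : F, l ≠ 0 ∧ l ^ 2 ≠ 1) : G3 B 4 := by
  have S := C.S
  obtain ⟨c, c0, hc⟩ := exists_sq_gen F
  obtain ⟨u, hu, eu⟩ : ∃ u ∈ GG B, ∀ x, u x = UF B z e f (c⁻¹ ^ 2) x := by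
    obtain ⟨E, hE, eE⟩ := S.exists_E (t := c⁻¹ ^ 2) (C.alt z) C.zf (by simp [C.alt])
    obtain ⟨T, hT, eT⟩ := S.exists_tvS (C.alt e) (map_one _)
    refine ⟨E * T, mul_mem hE hT, fun x => ?_⟩
    simp only [le_mul_apply, eE, eT, UF, map_add, map_smul, C.tab, one_smul, smul_eq_mul]
    module
  obtain ⟨h, hh, hp, eh⟩ := exists_move S (C.alt p) (C.alt z) (by simp [C.zp]) rfl
  obtain ⟨g, hg, ge, eg⟩ := exists_move S (C.alt e) (C.alt (c • f)) (by simpa [C.tab] using c0) rfl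
  have gz : g z = z := eg z (by simp [C.tab])
  have N1 : ∀ x, NN u x = B e x • e + B z x • f + (B f x - B e x + c⁻¹ ^ 2 * B z x) • z :=
    fun x => by simp only [NN_apply, eu, UF, C.tab]; module
  have main : ∀ k ∈ GG B, (∀ H, H ≤ Iso B → Has H (UF B z e f (c⁻¹ ^ 2)) →
      Has H (UF B (k z) (k e) (k f) (c⁻¹ ^ 2)) → Has H (UF B (h z) (h e) (h f) (c⁻¹ ^ 2)) →
      AS B H z ∧ ∀ y, B z y = 0 → ∃ t, ES B H z y t) → G3 B 4 := fun k hk key => by
    refine ⟨u, hu, k, hk, h, hh, ⟨4, LinearMap.ext fun x => ?_⟩, fun e => ?_, ?_⟩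
    · simp [pow_succ_apply', N1, C.tab]
    · have := congrArg (B p) (LinearMap.congr_fun e p)
      simp [pow_succ_apply', N1, C.tab] at this
    have m3 : h * u * h⁻¹ ∈ Subgroup.closure {u, k * u * k⁻¹, h * u * h⁻¹} :=
      Subgroup.subset_closure (by simp)
    have hH := (closure_le_GG hu hk hh).trans inf_le_left
    obtain ⟨k1, k2⟩ := key _ hH ⟨u, Subgroup.subset_closure (by simp), eu⟩
      ⟨_, Subgroup.subset_closure (by simp), UF_conj hk.1 eu⟩ ⟨_, m3, UF_conj hh.1 eu⟩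
    refine C.fin hH k1 k2 m3 ?_
    rw [← hp, le_mul_apply, le_mul_apply, le_inv_apply, hh.1, eu]
    simpa [UF, C.tab] using c0
  by_cases h2 : (2 : F) = 0
  swap
  · exact main g hg fun H hH h1 h3 _ => C.odd h2 hH c0 hc (by rw [← gz, hg.1, C.zf]) h1
      (by rwa [gz, ge] at h3)
  obtain ⟨l, l0, l1⟩ := hl h2
  obtain ⟨T, hT, eT⟩ := S.exists_tvS (C.alt e) (c := l) rfl
  let Q : V → F := fun x => B z x * B p x + B f x ^ 2 + B e x * B f x + (c⁻¹ * B e x) ^ 2
  have qf : Q f = c⁻¹ ^ 2 := by simp [Q, C.tab]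
  have hz : h z = p := by
    have := eh (z - p) (by simp [C.tab])
    rw [map_sub, hp] at this
    linear_combination (norm := module) this + h2 • (z - p)
  have e1 : (g * T) z = z := by simp [le_mul_apply, eT, C.tab, gz]
  have e2 : (g * T) e = c • f := by simp [le_mul_apply, eT, C.tab, ge]
  have e3 : (g * T) f = c⁻¹ • e + (l * c) • f := by
    have := eg (c⁻¹ • (c • f - e)) (by simp [C.tab, c0])
    rw [map_smul, map_sub, map_smul, ge, smul_sub, smul_smul, inv_mul_cancel₀ c0, one_smul,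
      sub_eq_iff_eq_add] at this
    simp only [le_mul_apply, eT, LinearMap.smul_apply, C.tab, map_add, map_smul, this, ge,
      smul_eq_mul]
    match_scalars <;> grind
  refine main _ (mul_mem hg hT) fun H hH h1 h3 h4 => C.two h2 (Q := Q) (fun x y => ?_)
    (fun a x => by simp only [Q, map_smul, smul_eq_mul]; ring) hH c0 hc (by simp [Q, C.tab])
    (by simp [Q, C.tab]) (by simp [Q, C.tab]) (by simp [Q, C.tab, c0])
    (y := c⁻¹ • e + (l * c) • f) (t := c⁻¹ ^ 2) (by simp [C.tab]) (fun e => ?_) (qf ▸ h1)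
    (by rwa [e1, e2, e3] at h3)
    (by rwa [hz, eh e (by simp [C.tab]), eh f (by simp [C.tab]), ← qf] at h4)
  · have : B x y = B x _ := congrArg (B x) (C.span y)
    simp only [map_add, map_smul, smul_eq_mul, alt_skew C.alt z x, alt_skew C.alt e x,
      alt_skew C.alt f x, alt_skew C.alt p x] at this
    simp only [Q, map_add]
    grind
  · simp only [Q, map_add, map_smul, C.tab, smul_eq_mul] at e
    grind

end Hyp

theorem sp_two (hl : (2 : F) = 0 → ∃ l : F, l ≠ 0 ∧ l ^ 2 ≠ 1) : G3 (sympBilin 2 F) 4 :=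
  Hyp.g3 (z := Pi.single (Sum.inr 0) 1) (p := Pi.single (Sum.inl 0) 1)
    (e := Pi.single (Sum.inr 1) 1) (f := Pi.single (Sum.inl 1) 1)
    ⟨sympBilin_isAlt, by simp [sympBilin_apply, sympForm_eq], by simp [sympBilin_apply, sympForm_eq],
      by simp [sympBilin_apply, sympForm_eq], by simp [sympBilin_apply, sympForm_eq],
      by simp [sympBilin_apply, sympForm_eq], by simp [sympBilin_apply, sympForm_eq], fun x => by
        ext (i | i) <;> fin_cases i <;> simp [sympBilin_apply, sympForm_eq]⟩ hl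

end Cfsg.Agent.H84.CU
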