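import Cfsg.Agent.H84.CUReg
import Cfsg.Agent.H27.SUDec
import Cfsg.Agent.H10.P3SU

/-!
The standard unitary space of odd dimension: a maximal totally isotropic subspace.
-/

set_option autoImplicit false
set_option linter.unusedSectionVars false

namespace Cfsg.Agent.H84.CU

open Module H27 H10
open scoped Matrix

variable {F : Type*} [Field F] [Fintype F] {q : ℕ} [hF : Fact (Fintype.card F = q ^ 2)] {ζ : F}

/-- `SU` as a group of linear automorphisms. -/
noncomputable def jSU (n : ℕ) (F : Type*) [Field F] (q : ℕ) :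
    SU n F q →* ((Fin n → F) ≃ₗ[F] (Fin n → F)) :=
  ((toLE (Fin n) F : GL (Fin n) F →* _).comp Matrix.SpecialLinearGroup.toGL).comp (SU n F q).subtype

theorem jSU_apply {n : ℕ} (g : SU n F q) (x : Fin n → F) : jSU n F q g x = sm g *ᵥ x := rfl

theorem jSU_injective {n : ℕ} : Function.Injective (jSU n F q) :=
  ((toLE (Fin n) F).injective.comp Matrix.SpecialLinearGroup.toGL_injective).comp
    Subtype.val_injective

theorem range_jSU {n : ℕ} (h0 : ζ ≠ 0) : (jSU n F q).range = GG (suB n q ζ) := by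
  ext g
  constructor
  · rintro ⟨A, rfl⟩
    refine ⟨fun x y => ?_, mem_SLV.2 ?_⟩
    · rw [suB_apply, suB_apply, jSU_apply, jSU_apply, sm_isIsom]
    · change LinearMap.det (Matrix.toLin' (A.1 : Matrix (Fin n) (Fin n) F)) = 1
      rw [LinearMap.det_toLin', A.1.2]
  · intro hg
    obtain ⟨A, rfl⟩ := (toLE (Fin n) F).surjective g
    have h1 : A ∈ Cfsg.GU n F q ⊓ Cfsg.Geo.specialLinear (Fin n) F := by
      rw [← comap_GG_su h0]; exact hg
    have h2 : (A : Matrix (Fin n) (Fin n) F).det = 1 := by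
      rw [← LinearMap.det_toLin']; exact mem_SLV.1 hg.2
    exact ⟨mkSU _ ((mem_GU_iff A).1 h1.1) h2, congrArg (toLE (Fin n) F) (Units.ext rfl)⟩

theorem G3.su {n : ℕ} (h0 : ζ ≠ 0) (h : G3 (suB n q ζ) n) :
    ∃ u g h : SU n F q, IsNilpotent (sm u - 1) ∧ (sm u - 1) ^ (n - 1) ≠ 0 ∧
      Subgroup.closure ({u, g * u * g⁻¹, h * u * h⁻¹} : Set (SU n F q)) = ⊤ :=
  h.transfer (jSU n F q) jSU_injective (range_jSU h0) Matrix.toLinAlgEquiv' sm fun _ => rfl

theorem exists_witt (h0 : ζ ≠ 0) (hζ : cj F q ζ = -ζ) (m : ℕ) :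
    ∃ (ι : (Fin m → F) →ₗ[F] (Fin (2 * m + 1) → F)) (x0 : Fin (2 * m + 1) → F),
      Function.Injective ι ∧ (∀ a b, suB _ q ζ (ι a) (ι b) = 0) ∧ (∀ a, suB _ q ζ (ι a) x0 = 0) ∧
      suB _ q ζ x0 x0 ≠ 0 ∧ ∀ x, (∀ w, suB _ q ζ (ι w) x = 0) → ∃ (c : F) (w : _), x = c • x0 + ι w := by
  classical
  let C : ((Fin m → F) × (Fin m → F) × F) →ₛₗ[cj F q] ((Fin m → F) × (Fin m → F) × F) →ₗ[F] F :=
    LinearMap.mk₂'ₛₗ (cj F q) (RingHom.id F)
      (fun x y => hermForm m F q y.2.1 x.1 - hermForm m F q y.1 x.2.1 + ζ * cj F q x.2.2 * y.2.2)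
      (fun x x' y => by simp [herm_add_right]; ring)
      (fun c x y => by simp [herm_smul_right]; ring)
      (fun x y y' => by simp [herm_add_left]; ring)
      (fun c x y => by simp [herm_smul_left]; ring)
  have hC : ∀ x y, C x y =
      hermForm m F q y.2.1 x.1 - hermForm m F q y.1 x.2.1 + ζ * cj F q x.2.2 * y.2.2 :=
    fun _ _ => rfl
  have hne : cj F q ≠ RingHom.id F := fun h => by
    obtain ⟨a, ha⟩ := exists_cj_ne F q
    exact ha (by rw [h]; rfl)
  obtain ⟨b, hb⟩ := herm_exists_orthonormal_basis (B := ζ⁻¹ • C) hne cj_cj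
    ⟨fun x y => by simp [hC, hζ, cj_herm, cj_cj]; field_simp; ring⟩
    (fun x hx => by
      have h1 : ∀ y, C x y = 0 := fun y => by simpa [h0] using hx y
      refine Prod.ext (eq_zero_of_herm_right (q := q) fun y => ?_)
        (Prod.ext (eq_zero_of_herm_right (q := q) fun y => ?_) ?_)
      · simpa [hC, herm_zero_left] using h1 (0, y, 0)
      · simpa [hC, herm_zero_left] using h1 (y, 0, 0)
      · simpa [hC, herm_zero_left, h0] using h1 (0, 0, 1))
    (ι := Fin (2 * m + 1)) (by simp; ring)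
  have key : ∀ x y, suB _ q ζ (b.equivFun x) (b.equivFun y) = C x y := fun x y => by
    have hb' : ∀ i j, C (b i) (b j) = if i = j then ζ else 0 := fun i j => by
      have := hb i j
      rw [LinearMap.smul_apply, LinearMap.smul_apply, smul_eq_mul,
        inv_mul_eq_iff_eq_mul₀ h0] at this
      simpa using this
    conv_rhs => rw [← b.sum_equivFun x, ← b.sum_equivFun y]
    simp only [suB_apply, herm_eq, map_sum, LinearMap.sum_apply, LinearMap.map_smulₛₗ,
      LinearMap.smul_apply, smul_eq_mul, hb', mul_ite, mul_zero, Finset.sum_ite_eq',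
      Finset.mem_univ, if_true, Finset.mul_sum, RingHom.id_apply]
    exact Finset.sum_congr rfl fun i _ => by ring
  refine ⟨b.equivFun.toLinearMap ∘ₗ LinearMap.inl F _ _, b.equivFun (0, 0, 1),
    b.equivFun.injective.comp LinearMap.inl_injective, fun a c => (key _ _).trans ?_,
    fun a => (key _ _).trans ?_, (key _ _).trans_ne ?_, fun x hx => ?_⟩
  · simp [hC, herm_zero_left, herm_zero_right]
  · simp [hC, herm_zero_left, herm_zero_right]
  · simp [hC, herm_zero_left, h0]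
  · obtain ⟨⟨x1, x2, x3⟩, rfl⟩ := b.equivFun.surjective x
    obtain rfl : x2 = 0 := eq_zero_of_herm_left (q := q) fun y => by
      simpa [hC, herm_zero_right] using (key _ _).symm.trans (hx y)
    refine ⟨x3, x1, ?_⟩
    rw [← map_smul]
    exact (congrArg _ (by simp)).trans (map_add b.equivFun _ _)

theorem le_of_three (hq : q ≠ 2) (h0 : ζ ≠ 0) (hζ : cj F q ζ = -ζ)
    {H : Subgroup ((Fin 3 → F) ≃ₗ[F] (Fin 3 → F))} {y v1 v2 v3 : Fin 3 → F}
    (c1 : AS (suB 3 q ζ) H v1) (c2 : AS (suB 3 q ζ) H v2) (c3 : AS (suB 3 q ζ) H v3)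
    (h12 : suB 3 q ζ v1 v2 ≠ 0) (k1 : suB 3 q ζ y v1 = 0) (k2 : suB 3 q ζ y v2 = 0)
    (k3 : suB 3 q ζ y v3 ≠ 0) : GG (suB 3 q ζ) ≤ H := by
  have key : ∀ v, v ≠ 0 → AS (suB 3 q ζ) H v → P3.Cen (H.comap (jSU 3 F q)) v := fun v hv h =>
    have h1 := (suB_eq_zero h0).1 h.1
    ⟨hv, h1, fun c hc => ⟨utSU h1 hc, Has.mem (h.2 (c / ζ) (by
      rw [map_div₀, hζ, hc, neg_div_neg_eq])) fun x => by
        rw [jSU_apply, sm_utSU, ut_mulVec, LinearMap.smul_apply, suB_apply, smul_eq_mul,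
          ← mul_assoc, div_mul_cancel₀ _ h0], rfl⟩⟩
  have := P3.su_top hq (χ := fun i => cj F q (y i)) (key v1 (by rintro rfl; simp at h12) c1)
    (key v2 (by rintro rfl; simp at h12) c2) (key v3 (by rintro rfl; simp at k3) c3)
    (by rintro c rfl; simp [c1.1] at h12) (by rw [← P3.herm_dot, ← suB_eq_zero h0, k1])
    (by rw [← P3.herm_dot, ← suB_eq_zero h0, k2]) (by rwa [← P3.herm_dot, Ne, ← suB_eq_zero h0])
  rw [← range_jSU h0]
  rintro _ ⟨A, rfl⟩
  exact (this ▸ Subgroup.mem_top A : A ∈ H.comap (jSU 3 F q))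

end Cfsg.Agent.H84.CU
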