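import Cfsg.Agent.H85.Action
import Cfsg.Agent.H84.Kegel

set_option autoImplicit false
set_option linter.style.haveILetI false

/-! Invariant subgroups under a group acting by automorphisms. -/

namespace Cfsg.Agent.H84

open Subgroup Cfsg.Agent.H4

variable (A : Type*) {G : Type*} [Group A] [Group G] [MulDistribMulAction A G]

/-- `H` is `A`-invariant -/
def AInv (H : Subgroup G) : Prop := ∀ a : A, ∀ x ∈ H, a • x ∈ H

variable {A}

theorem AInv.smul_mem_iff {H : Subgroup G} (h : AInv A H) (a : A) (x : G) : a • x ∈ H ↔ x ∈ H :=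
  ⟨fun hx => by simpa using h a⁻¹ _ hx, h a x⟩

theorem AInv.map_eq {H : Subgroup G} (h : AInv A H) (a : A) :
    H.map (MulDistribMulAction.toMonoidHom G a) = H := by
  refine le_antisymm ?_ fun x hx => ⟨a⁻¹ • x, h _ _ hx, by simp⟩
  rintro _ ⟨x, hx, rfl⟩
  exact h a x hx

theorem aInv_of_map_le {H : Subgroup G}
    (h : ∀ a : A, H.map (MulDistribMulAction.toMonoidHom G a) ≤ H) : AInv A H :=
  fun a x hx => h a ⟨x, hx, rfl⟩

theorem AInv.inf {H K : Subgroup G} (h : AInv A H) (k : AInv A K) : AInv A (H ⊓ K) :=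
  fun a x hx => mem_inf.2 ⟨h a x hx.1, k a x hx.2⟩

theorem AInv.sup {H K : Subgroup G} (h : AInv A H) (k : AInv A K) : AInv A (H ⊔ K) :=
  aInv_of_map_le fun a => by rw [Subgroup.map_sup, h.map_eq, k.map_eq]

theorem AInv.normalizer {H : Subgroup G} (h : AInv A H) : AInv A (normalizer (H : Set G)) := by
  intro a x hx
  rw [mem_normalizer_iff] at hx ⊢
  intro y
  rw [← h.smul_mem_iff a⁻¹, hx, ← h.smul_mem_iff a]
  simp [smul_mul', smul_inv']

theorem AInv.centralizer {H : Subgroup G} (h : AInv A H) : AInv A (centralizer (H : Set G)) := by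
  intro a x hx y hy
  have := congrArg (a • ·) (hx _ (h a⁻¹ y hy))
  simpa [smul_mul'] using this

theorem AInv.centerThompsonOf {H : Subgroup G} (h : AInv A H) (p : ℕ) :
    AInv A (centerThompsonOf p H) :=
  aInv_of_map_le fun a => by
    rw [centerThompsonOf_map_of_disjoint p, h.map_eq]
    rw [(MonoidHom.ker_eq_bot_iff _).2 (MulAction.injective a), inf_bot_eq]

theorem orderOf_smul' (a : A) (x : G) : orderOf (a • x) = orderOf x :=
  (MulDistribMulAction.toMulEquiv G a).orderOf_eq x

theorem aInv_pResidual (p : ℕ) : AInv A (pResidual p G) :=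
  aInv_of_map_le fun a => by
    rw [pResidual, MonoidHom.map_closure]
    apply Subgroup.closure_mono
    rintro _ ⟨x, hx, rfl⟩
    have := orderOf_smul' a x
    change (orderOf (a • x)).Coprime p
    rwa [this]

theorem aInv_normalCore {H : Subgroup G} (h : AInv A H) : AInv A H.normalCore := by
  intro a x hx g
  have := h a _ (hx (a⁻¹ • g))
  simpa [smul_mul', smul_inv'] using this

theorem AInv.isSylowIn_map [Finite G] {H P : Subgroup G} (h : AInv A H) {p : ℕ} [Fact p.Prime]
    (hP : IsSylowIn p P H) (a : A) :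
    IsSylowIn p (P.map (MulDistribMulAction.toMonoidHom G a)) H := by
  have := H84.isSylowIn_map (MulDistribMulAction.toMonoidHom G a) hP
  rwa [h.map_eq] at this

theorem le_of_sylowIn_normal [Finite G] {H P X : Subgroup G} {p : ℕ} [Fact p.Prime]
    (hP : IsSylowIn p P H) (hn : H ≤ Subgroup.normalizer (P : Set G)) (hX : IsPGroup p X)
    (hXH : X ≤ H) : X ≤ P := by
  intro x hx
  obtain ⟨g, hg, hc⟩ := hP.exists_conj hX hXH
  exact (mem_normalizer_iff.1 (hn hg) _).2 (hc _ hx)

theorem AInv.of_sylowIn_normal [Finite G] {H P : Subgroup G} (h : AInv A H) {p : ℕ} [Fact p.Prime]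
    (hP : IsSylowIn p P H) (hn : H ≤ Subgroup.normalizer (P : Set G)) : AInv A P :=
  aInv_of_map_le fun a => le_of_sylowIn_normal hP hn (h.isSylowIn_map hP a).isPGroup
    (h.isSylowIn_map hP a).le

theorem AInv.map_mk {N H : Subgroup G} [N.Normal] (hN : AInv A N) (hH : AInv A H) :
    letI := H85.quotAction N hN
    AInv A (H.map (QuotientGroup.mk' N)) := by
  rintro a _ ⟨x, hx, rfl⟩
  exact ⟨a • x, hH a x hx, rfl⟩

theorem AInv.comap_mk {N : Subgroup G} [N.Normal] (hN : AInv A N) {H : Subgroup (G ⧸ N)} :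
    letI := H85.quotAction N hN
    AInv A H → AInv A (H.comap (QuotientGroup.mk' N)) :=
  fun hH a x hx => hH a _ hx

end Cfsg.Agent.H84
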