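import Cfsg.Agent.H92.Stab
import Cfsg.Agent.H84.InvAct
import Cfsg.Agent.S0055
import Cfsg.Agent.H84.NilMax

set_option autoImplicit false
set_option linter.style.haveILetI false

/-! Local analysis for a self-normalizing Sylow 2-subgroup of class at most two. -/

namespace Cfsg.Agent.H84

open Subgroup Cfsg.Agent.H4 Cfsg.Agent.H92
open scoped commutatorElement

variable {G : Type*} [Group G]

/-- involutions in the centre of `D` -/
def omZ (D : Subgroup G) : Subgroup G where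
  carrier := {w | w ∈ D ∧ w ∈ centralizer (D : Set G) ∧ w ^ 2 = 1}
  one_mem' := ⟨one_mem _, one_mem _, one_pow _⟩
  mul_mem' {a b} ha hb := ⟨mul_mem ha.1 hb.1, mul_mem ha.2.1 hb.2.1, by
    rw [Commute.mul_pow (hb.2.1 a ha.1), ha.2.2, hb.2.2, one_mul]⟩
  inv_mem' {a} ha := ⟨inv_mem ha.1, inv_mem ha.2.1, by rw [inv_pow, ha.2.2, inv_one]⟩

theorem mem_omZ {D : Subgroup G} {w : G} :
    w ∈ omZ D ↔ w ∈ D ∧ w ∈ centralizer (D : Set G) ∧ w ^ 2 = 1 := Iff.rfl

instance omZ_normal (D : Subgroup G) [hD : D.Normal] : (omZ D).Normal :=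
  ⟨fun w hw g => ⟨hD.conj_mem _ hw.1 g, (inferInstance : (centralizer (D : Set G)).Normal).conj_mem
    _ hw.2.1 g, by rw [conj_pow, hw.2.2, mul_one, mul_inv_cancel]⟩⟩

/-- the data of a "block" -/
structure Blk (S D V : Subgroup G) : Prop where
  le : V ≤ D
  leS : D ≤ S
  sq : ∀ v ∈ V, v ^ 2 = 1
  cent : ∀ s ∈ S, s ∈ D ↔ s ∈ centralizer (V : Set G)
  two : ∀ s ∈ S, ∀ t ∈ S, s ∉ D → t ∉ D → s * t ∈ D
  sq' : ∀ d ∈ D, d ^ 2 ∈ V → d ^ 2 = 1
  comm : ∀ d ∈ D, ∀ e ∈ D, ⁅d, e⁆ ∈ V → ⁅d, e⁆ = 1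
  norm : S ≤ normalizer (V : Set G)
  ne : V ≠ ⊥

theorem Blk.symm {S D V E W : Subgroup G} (h : Blk S D V) (k : Blk S E W) (hn : ¬ W ≤ D) :
    ¬ V ≤ E := fun hle => hn fun w hw => (h.cent w (k.leS (k.le hw))).2 fun v hv =>
      ((k.cent v (h.leS (h.le hv))).1 (hle hv) w hw).symm

theorem Blk.comm_eq {S D V : Subgroup G} (h : Blk S D V) {u s v : G} (hu : u ∈ S) (huD : u ∉ D)
    (hs : s ∈ S) (hv : v ∈ V) : ⁅s, v⁆ = 1 ∨ ⁅s, v⁆ = ⁅u, v⁆ := by
  by_cases hsD : s ∈ D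
  · left
    exact commutatorElement_eq_one_iff_mul_comm.2 ((h.cent s hs).1 hsD v hv).symm
  · right
    have h1 := h.two _ (inv_mem hu) _ hs (fun h' => huD (inv_mem_iff.1 h')) hsD
    have h2 := (h.cent _ (h.leS h1)).1 h1 v hv
    simp only [commutatorElement_def]
    calc s * v * s⁻¹ * v⁻¹ = u * (u⁻¹ * s * v) * s⁻¹ * v⁻¹ := by group
      _ = u * v * u⁻¹ * v⁻¹ := by rw [← h2]; group

theorem Blk.comm_mem {S D V : Subgroup G} (h : Blk S D V) {s v : G} (hs : s ∈ S) (hv : v ∈ V) :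
    ⁅s, v⁆ ∈ V ∧ ⁅v, s⁆ ∈ V := by
  have h1 : ⁅s, v⁆ ∈ V := mul_mem ((mem_normalizer_iff.1 (h.norm hs) v).1 hv) (inv_mem hv)
  exact ⟨h1, by rw [← commutatorElement_inv]; exact inv_mem h1⟩

theorem Blk.unique {S D₁ V₁ D₂ V₂ D₃ V₃ : Subgroup G} (h1 : Blk S D₁ V₁) (h2 : Blk S D₂ V₂)
    (h3 : Blk S D₃ V₃) (h12 : ¬ V₂ ≤ D₁) (h13 : ¬ V₃ ≤ D₁) : D₂ ≤ D₃ := by
  obtain ⟨u, hu, huD⟩ := SetLike.not_le_iff_exists.1 (h1.symm h3 h13)
  obtain ⟨w, hw, hwD⟩ := SetLike.not_le_iff_exists.1 h12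
  obtain ⟨w', hw', hwD'⟩ := SetLike.not_le_iff_exists.1 h13
  have hS1 : V₁ ≤ S := h1.le.trans h1.leS
  have hS2 : V₂ ≤ S := h2.le.trans h2.leS
  have hS3 : V₃ ≤ S := h3.le.trans h3.leS
  have k1 : ∀ s ∈ S, ∀ v ∈ V₃, ⁅s, v⁆ ∈ V₁ ∧ ⁅s, v⁆ ∈ V₂ := by
    intro s hs v hv
    rcases h3.comm_eq (hS1 hu) huD hs hv with h | h
    · rw [h]; exact ⟨one_mem _, one_mem _⟩
    rw [h]
    refine ⟨(h1.comm_mem (hS3 hv) hu).2, ?_⟩
    rw [← commutatorElement_inv]
    apply inv_mem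
    rcases h1.comm_eq (hS2 hw) hwD (hS3 hv) hu with h | h
    · rw [h]; exact one_mem _
    · rw [h]; exact (h2.comm_mem (hS1 hu) hw).2
  have k2 : ∀ a ∈ V₂, ∀ b ∈ V₃, a ∉ D₁ → b ∉ D₁ → Commute a b := by
    intro a ha b hb haD hbD
    have e : (a * b) ^ 2 = ⁅a, b⁆ := by
      have ea : a⁻¹ = a := inv_eq_of_mul_eq_one_right (by rw [← pow_two, h2.sq a ha])
      have eb : b⁻¹ = b := inv_eq_of_mul_eq_one_right (by rw [← pow_two, h3.sq b hb])
      rw [commutatorElement_def, ea, eb, pow_two, mul_assoc (a * b)]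
    have := h1.sq' _ (h1.two a (hS2 ha) b (hS3 hb) haD hbD) (e ▸ (k1 a (hS2 ha) b hb).1)
    rw [e] at this
    exact commutatorElement_eq_one_iff_commute.1 this
  have k3 : ∀ a ∈ V₂, ∀ b ∈ V₃, b ∉ D₁ → Commute a b := by
    intro a ha b hb hbD
    by_cases haD : a ∈ D₁
    · have := (k2 w hw b hb hwD hbD).inv_left.mul_left (k2 (w * a) (mul_mem hw ha) b hb
        (fun h => hwD ((mul_mem_cancel_right haD).1 h)) hbD)
      simpa using this
    · exact k2 a ha b hb haD hbD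
  have k4 : V₃ ≤ D₂ := by
    intro b hb
    refine (h2.cent b (hS3 hb)).2 fun a ha => ?_
    by_cases hbD : b ∈ D₁
    · have := (k3 a ha w' hw' hwD').inv_right.mul_right (k3 a ha (w' * b) (mul_mem hw' hb)
        (fun h => hwD' ((mul_mem_cancel_right hbD).1 h)))
      simpa using this.eq
    · exact k3 a ha b hb hbD
  intro d hd
  refine (h3.cent d (h2.leS hd)).2 fun v hv => ?_
  exact (commutatorElement_eq_one_iff_mul_comm.1
    (h2.comm d hd v (k4 hv) (k1 d (h2.leS hd) v hv).2)).symm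

theorem blk_local [Finite G] (S : Sylow 2 G) (D : Subgroup G) [hD : D.Normal]
    (hDS : D ≤ S) (hZ : (S : Subgroup G) ⊓ centralizer (S : Set G) ≤ D)
    (hcl : ∀ s ∈ (S : Subgroup G), ∀ t ∈ (S : Subgroup G), ⁅s, t⁆ ∈ centralizer (S : Set G))
    (hNS : normalizer (S : Set G) ≤ S) (hne : (S : Subgroup G) ≠ ⊤)
    (hTI : ∀ g : G, g ∉ (S : Subgroup G) → ∀ a ∈ (S : Subgroup G), g * a * g⁻¹ ∈ (S : Subgroup G) → a ∈ D)
    (hC : centralizer (omZ (S : Subgroup G) : Set G) ≤ S) :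
    Blk S D ⁅D, pResidual 2 G⁆ ∧ ¬ pResidual 2 G ≤ S := by
  haveI : Fact (Nat.Prime 2) := ⟨Nat.prime_two⟩
  set R := pResidual 2 G with hR
  haveI : R.Normal := inferInstance
  have hgen : ∀ C : Subgroup G, C.Normal → (S : Subgroup G) ≤ C → C = ⊤ := by
    intro C hC hSC
    have := Sylow.normalizer_sup_eq_top' S hSC
    rw [eq_top_iff, ← this]
    exact sup_le (hNS.trans hSC) le_rfl
  obtain ⟨g₀, -, hg₀⟩ := SetLike.exists_of_lt (lt_top_iff_ne_top.2 hne)
  have hnorm : ∀ C : Subgroup G, C.Normal → C ≤ S → C ≤ D := fun C hC hCS c hc =>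
    hTI g₀ hg₀ c (hCS hc) (hCS (hC.conj_mem c hc g₀))
  set W := omZ D with hW
  set Z := D ⊓ centralizer (D : Set G) with hZD
  haveI : Z.Normal := inferInstance
  have hCW : centralizer (W : Set G) ≤ D := hnorm _ inferInstance (le_trans (centralizer_le
    (fun w hw => ⟨hZ ⟨hw.1, hw.2.1⟩, centralizer_le hDS hw.2.1, hw.2.2⟩)) hC)
  have hRS : ¬ R ≤ S := fun h => hne (by
    rw [eq_top_iff, ← H3.sylow_sup_pResidual S]; exact sup_le le_rfl h)
  -- commutators with `S`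
  have hcs : ∀ s ∈ (S : Subgroup G), ∀ d ∈ (S : Subgroup G), d⁻¹ * (s * d * s⁻¹) ∈ (S : Subgroup G) ⊓ centralizer (S : Set G) := by
    intro s hs d hd
    refine mem_inf.2 ⟨mul_mem (inv_mem hd) (mul_mem (mul_mem hs hd) (inv_mem hs)), ?_⟩
    have := hcl _ (inv_mem hd) s hs
    simpa [commutatorElement_def, mul_assoc] using this
  have hsq2 : ∀ s ∈ (S : Subgroup G), ∀ d ∈ (S : Subgroup G), s ^ 2 * d * (s ^ 2)⁻¹ = d * (d⁻¹ * (s * d * s⁻¹)) ^ 2 :=
    fun s hs d hd => conj_pow_eq (by group) (by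
      rw [(hcs s hs d hd).2 s hs, mul_inv_cancel_right]) 2
  have hsq : ∀ s ∈ (S : Subgroup G), s ^ 2 ∈ D := by
    intro s hs
    refine hCW fun w hw => ?_
    have h1 := hsq2 s hs w (hDS hw.1)
    have h2 : w⁻¹ * (s * w * s⁻¹) ∈ W := mul_mem (inv_mem hw) ((omZ_normal D).conj_mem w hw s)
    rw [h2.2.2, mul_one, mul_inv_eq_iff_eq_mul] at h1
    exact h1.symm
  have hSR : (S : Subgroup G) ⊓ R ≤ D := H42.inf_pResidual_le S D fun a ha g hg => by
    by_cases hgS : g ∈ (S : Subgroup G)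
    · exact hZ (hcs g hgS a ha)
    · have := hTI g hgS a ha hg
      exact mul_mem (inv_mem this) (hD.conj_mem a this g)
  have hfpf : ∀ s ∈ (S : Subgroup G), s ∉ D → ∀ r ∈ R, r⁻¹ * (s * r * s⁻¹) ∈ D → r ∈ D := by
    intro s hs hsD r hr h
    by_contra hrD
    have hrS : r⁻¹ ∉ (S : Subgroup G) := fun h' => hrD (hSR (mem_inf.2 ⟨inv_mem_iff.1 h', hr⟩))
    refine hsD (hTI _ hrS s hs ?_)
    have := mul_mem (hDS h) hs
    simpa [mul_assoc] using this
  have hinv : ∀ s ∈ (S : Subgroup G), s ∉ D → ∀ r ∈ R, r * (s * r * s⁻¹) ∈ D := by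
    intro s hs hsD r hr
    let π := QuotientGroup.mk' D
    haveI : (R.map π).Normal := Normal.map inferInstance π (QuotientGroup.mk'_surjective D)
    let φ : MulAut (R.map π) := MulAut.conjNormal (π s)
    have h1 : MonoidHom.FixedPointFree φ := by
      rintro ⟨_, k, hk, rfl⟩ hφ
      have h2 : π s * π k * (π s)⁻¹ = π k := congrArg Subtype.val hφ
      have h3 : k ∈ D := hfpf s hs hsD k hk (by
        rw [← QuotientGroup.eq_one_iff]
        change π _ = 1
        rw [map_mul, map_mul, map_mul, map_inv, map_inv, h2, inv_mul_cancel])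
      exact Subtype.ext ((QuotientGroup.eq_one_iff k).2 h3)
    have h2 : Function.Involutive φ := by
      intro k
      apply Subtype.ext
      have h3 : π s * π s = 1 := by
        rw [← map_mul, ← sq]; exact (QuotientGroup.eq_one_iff _).2 (hsq s hs)
      change π s * (π s * k * (π s)⁻¹) * (π s)⁻¹ = k
      calc π s * (π s * k * (π s)⁻¹) * (π s)⁻¹ = (π s * π s) * k * (π s * π s)⁻¹ := by group
        _ = k := by rw [h3]; simp
    have h3 := congrFun (h1.coe_eq_inv_of_involutive h2) ⟨π r, r, hr, rfl⟩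
    have h4 : π s * π r * (π s)⁻¹ = (π r)⁻¹ := congrArg Subtype.val h3
    rw [← QuotientGroup.eq_one_iff]
    change π _ = 1
    rw [map_mul, map_mul, map_mul, map_inv, h4, mul_inv_cancel]
  have htwo : ∀ s ∈ (S : Subgroup G), ∀ t ∈ (S : Subgroup G), s ∉ D → t ∉ D → s * t ∈ D := by
    intro s hs t ht hsD htD
    by_contra hst
    refine hRS fun r hr => hDS (hfpf _ (mul_mem hs ht) hst r hr ?_)
    have h1 := hD.conj_mem _ (hinv t ht htD r hr) s
    have h2 := hinv s hs hsD r hr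
    have := mul_mem (inv_mem (hD.conj_mem _ h2 r⁻¹)) h1
    convert this using 1
    group
  have hall : ∀ U T : Subgroup G, U.Normal → T.Normal → (∀ s ∈ (S : Subgroup G), ∀ u ∈ U, u⁻¹ * (s * u * s⁻¹) ∈ T) →
      ∀ g, g ∈ stabSub U T := by
    intro U T hU hT h g
    rw [hgen _ (stabSub_normal U T) fun s hs => ⟨by rw [normalizer_eq_top]; trivial, h s hs⟩]
    trivial
  have hDZ := hall D Z hD inferInstance fun s hs d hd =>
    ⟨hZ (hcs s hs d (hDS hd)), centralizer_le hDS (hcs s hs d (hDS hd)).2⟩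
  have hZW := hall Z W inferInstance inferInstance fun s hs d hd => by
    refine ⟨hZ (hcs s hs d (hDS hd.1)), centralizer_le hDS (hcs s hs d (hDS hd.1)).2, ?_⟩
    have h1 := hsq2 s hs d (hDS hd.1)
    rw [hd.2 _ (hsq s hs), mul_inv_cancel_right, left_eq_mul] at h1
    exact h1
  have hDp : IsPGroup 2 D := S.isPGroup'.to_le hDS
  have hRW : R ≤ stabSub D W := H3.pResidual_le_iff.2 fun g hg =>
    mem_stabSub_of_coprime (hDp.to_le inf_le_left) hg (hDZ g).2 (hZW g)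
  have hcomm : ∀ U T : Subgroup G, U.Normal → R ≤ stabSub U T → ⁅U, R⁆ ≤ T := by
    intro U T hU h
    rw [commutator_le]
    intro u hu r hr
    have := (h hr).2 u⁻¹ (inv_mem hu)
    simpa [commutatorElement_def, mul_assoc] using this
  have hVW : ⁅D, R⁆ ≤ W := hcomm D W hD hRW
  have hWD : W ≤ D := fun w hw => hw.1
  have hVU : ⁅D, R⁆ ≤ ⁅W, R⁆ := hcomm D _ hD (H3.pResidual_le_iff.2 fun g hg =>
    mem_stabSub_of_coprime (hDp.to_le hWD) hg (hRW (H3.mem_pResidual_of_coprime hg)).2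
      ⟨by rw [normalizer_eq_top]; trivial, fun w hw => by
        have := commutator_mem_commutator (inv_mem hw) (H3.mem_pResidual_of_coprime hg)
        simpa [commutatorElement_def, mul_assoc] using this⟩)
  obtain ⟨X, hXR, hXo, hX⟩ : ∃ X : Subgroup G, X ≤ R ∧ (Nat.card X).Coprime 2 ∧
      ∀ r ∈ R, ∃ d ∈ D, ∃ x ∈ X, r = d * x := by
    have h1 : ¬ 2 ∣ (D.subgroupOf R).index := by
      have h2 := H3.not_dvd_relIndex_sylow_of_normal S R
      have : D.subgroupOf R = (S : Subgroup G).subgroupOf R := by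
        ext r
        exact ⟨fun h => hDS h, fun h => hSR ⟨h, r.2⟩⟩
      rwa [this]
    obtain ⟨k, hk⟩ := IsPGroup.iff_card.1 (hDp.comap_subtype (K := R))
    obtain ⟨X, hX⟩ := exists_right_complement'_of_coprime (N := D.subgroupOf R) (by
      change (Nat.card (D.comap R.subtype)).Coprime _
      rw [hk]
      exact ((Nat.Prime.coprime_iff_not_dvd Nat.prime_two).2 h1).pow_left k)
    refine ⟨X.map R.subtype, map_subtype_le _, ?_, fun r hr => ?_⟩
    · rw [card_map_of_injective R.subtype_injective, ← hX.symm.index_eq_card]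
      exact ((Nat.Prime.coprime_iff_not_dvd Nat.prime_two).2 h1).symm
    · obtain ⟨⟨d, x⟩, h⟩ := hX.2 ⟨r, hr⟩
      exact ⟨_, d.2, _, ⟨x, x.2, rfl⟩, (congrArg Subtype.val h).symm⟩
  have hUX : ⁅W, R⁆ ≤ ⁅W, X⁆ := by
    rw [commutator_le]
    intro w hw r hr
    obtain ⟨d, hd, x, hx, rfl⟩ := hX r hr
    have h1 := hw.2.1 d hd
    have h2 := ((omZ_normal D).conj_mem _ (inv_mem hw) x).2.1 d hd
    have : ⁅w, d * x⁆ = ⁅w, x⁆ := by
      simp only [commutatorElement_def]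
      calc w * (d * x) * w⁻¹ * (d * x)⁻¹ = w * (d * (x * w⁻¹ * x⁻¹)) * d⁻¹ := by group
        _ = w * x * w⁻¹ * x⁻¹ := by rw [h2]; group
    rw [this]
    exact commutator_mem_commutator hw hx
  have hVC : ∀ v ∈ ⁅D, R⁆, v ∈ centralizer (R : Set G) → v = 1 := by
    intro v hv hc
    haveI : IsMulCommutative W := ⟨⟨fun a b => Subtype.ext (b.2.2.1 a a.2.1)⟩⟩
    obtain ⟨k, hk⟩ := IsPGroup.iff_card.1 (hDp.to_le hWD)
    have := (S0055.result X W (by rw [normalizer_eq_top]; exact le_top)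
      (by rw [hk]; exact hXo.pow_right k)).1
    exact mem_bot.1 (this ▸ mem_inf.2 ⟨⟨hVW hv, centralizer_le hXR hc⟩, hUX (hVU hv)⟩)
  have hV0 : ⁅D, R⁆ ≠ ⊥ := by
    intro h
    rw [commutator_comm, commutator_eq_bot_iff_le_centralizer] at h
    exact hRS (h.trans ((centralizer_le hWD).trans (hCW.trans hDS)))
  have hact : ∀ d ∈ D, ∀ r ∈ R, ∃ w ∈ W, r * d * r⁻¹ = d * w := fun d hd r hr =>
    ⟨_, (hRW hr).2 d hd, by group⟩
  refine ⟨⟨hVW.trans hWD, hDS, fun v hv => (hVW hv).2.2, fun s hs => ⟨fun hsD v hv =>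
    ((hVW hv).2.1 s hsD).symm, fun hc => ?_⟩, htwo, fun d hd hv => hVC _ hv fun r hr => ?_,
    fun d hd e he hv => hVC _ hv fun r hr => ?_, by rw [normalizer_eq_top]; exact le_top, hV0⟩, hRS⟩
  · by_contra hsD
    have h1 : centralizer ((⁅D, R⁆ : Subgroup G) : Set G) = ⊤ := hgen _ inferInstance fun t ht => by
      have h2 : ∀ d ∈ D, d ∈ centralizer ((⁅D, R⁆ : Subgroup G) : Set G) := fun d hd v hv =>
        ((hVW hv).2.1 d hd).symm
      by_cases htD : t ∈ D
      · exact h2 t htD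
      · exact (mul_mem_cancel_left hc).1 (h2 _ (htwo s hs t ht hsD htD))
    refine hV0 (eq_bot_iff.2 fun v hv => hVC v hv fun r _ => ?_)
    exact ((h1 ▸ mem_top r : r ∈ centralizer ((⁅D, R⁆ : Subgroup G) : Set G)) v hv).symm
  · obtain ⟨w, hw, e⟩ := hact d hd r hr
    rw [← mul_inv_eq_iff_eq_mul, ← conj_pow, e, Commute.mul_pow (hw.2.1 d hd), hw.2.2, mul_one]
  · obtain ⟨w, hw, e1⟩ := hact d hd r hr
    obtain ⟨w', hw', e2⟩ := hact e he r hr
    rw [← mul_inv_eq_iff_eq_mul, conjugate_commutatorElement, e1, e2]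
    have h1 : Commute d w := hw.2.1 d hd
    have h2 : Commute e w := hw.2.1 e he
    have h3 : Commute d w' := hw'.2.1 d hd
    have h4 : Commute e w' := hw'.2.1 e he
    have h5 : Commute w w' := hw'.2.1 w hw.1
    simp only [commutatorElement_def]
    calc d * w * (e * w') * (d * w)⁻¹ * (e * w')⁻¹
        = d * (w * (e * w') * w⁻¹) * d⁻¹ * (e * w')⁻¹ := by group
      _ = d * e * (w' * d⁻¹ * w'⁻¹) * e⁻¹ := by
        rw [(h2.symm.mul_right h5).eq, mul_inv_cancel_right]; group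
      _ = d * e * d⁻¹ * e⁻¹ := by rw [h3.symm.inv_right.eq, mul_inv_cancel_right]

theorem Blk.map {G' : Type*} [Group G'] {f : G →* G'} (hf : Function.Injective f)
    {S D V : Subgroup G} (h : Blk S D V) : Blk (S.map f) (D.map f) (V.map f) := by
  refine ⟨map_mono h.le, map_mono h.leS, ?_, ?_, ?_, ?_, ?_, ?_, ?_⟩
  · rintro _ ⟨v, hv, rfl⟩
    rw [← map_pow, h.sq v hv, map_one]
  · rintro _ ⟨s, hs, rfl⟩
    rw [mem_map_iff_mem hf, h.cent s hs]
    constructor
    · rintro h1 _ ⟨v, hv, rfl⟩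
      rw [← map_mul, ← map_mul, h1 v hv]
    · intro h1 v hv
      apply hf
      rw [map_mul, map_mul]
      exact h1 _ ⟨v, hv, rfl⟩
  · rintro _ ⟨s, hs, rfl⟩ _ ⟨t, ht, rfl⟩ h1 h2
    rw [mem_map_iff_mem hf] at h1 h2
    exact ⟨_, h.two s hs t ht h1 h2, map_mul _ _ _⟩
  · rintro _ ⟨d, hd, rfl⟩ h1
    rw [← map_pow, mem_map_iff_mem hf] at h1
    rw [← map_pow, h.sq' d hd h1, map_one]
  · rintro _ ⟨d, hd, rfl⟩ _ ⟨e, he, rfl⟩ h1
    rw [← map_commutatorElement, mem_map_iff_mem hf] at h1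
    rw [← map_commutatorElement, h.comm d hd e he h1, map_one]
  · exact (map_mono h.norm).trans (le_normalizer_map f)
  · exact fun h1 => h.ne ((map_eq_bot_iff_of_injective _ hf).1 h1)

theorem le_normalizer_of_class_two {T D : Subgroup G} (hT : ⁅⁅T, T⁆, T⁆ = ⊥)
    (h1 : T ⊓ centralizer (T : Set G) ≤ D) (h2 : D ≤ T) : T ≤ normalizer (D : Set G) := by
  rw [le_normalizer_iff_commutator_le_right]
  refine (commutator_mono le_rfl h2).trans (le_trans (le_inf (commutator_le_self _ ) ?_) h1)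
  exact commutator_eq_bot_iff_le_centralizer.1 hT

theorem sylow_le_normalizer_inf [Finite G] (S T : Sylow 2 G)
    (hcl : ⁅⁅(S : Subgroup G), (S : Subgroup G)⁆, (S : Subgroup G)⁆ = ⊥) {M : Subgroup G}
    (hM : ∀ X : Subgroup G, IsPGroup 2 X → X ≤ M → X ≤ S)
    (hC : centralizer (((S : Subgroup G) ⊓ centralizer (S : Set G) : Subgroup G) : Set G) ≤ M)
    (hT : (S : Subgroup G) ⊓ centralizer (S : Set G) ≤ T) :
    (T : Subgroup G) ≤ normalizer (((S : Subgroup G) ⊓ T : Subgroup G) : Set G) := by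
  haveI : Fact (Nat.Prime 2) := ⟨Nat.prime_two⟩
  obtain ⟨g, hg⟩ := MulAction.exists_smul_eq G S T
  have hTcl : ⁅⁅(T : Subgroup G), (T : Subgroup G)⁆, (T : Subgroup G)⁆ = ⊥ := by
    rw [← hg, coe_sylow_smul, ← map_commutator, ← map_commutator, hcl, Subgroup.map_bot]
  exact le_normalizer_of_class_two hTcl (le_inf (hM _ T.isPGroup'.to_inf_left
    (inf_le_right.trans ((centralizer_le hT).trans hC))) inf_le_left) inf_le_right

/-- overgroups of the centre whose normalizer is not inside `S` -/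
def Bad (S D : Subgroup G) : Prop :=
  S ⊓ centralizer (S : Set G) ≤ D ∧ D ≤ S ∧ ¬ normalizer (D : Set G) ≤ S

theorem blk_global [Finite G] (S : Sylow 2 G)
    (hcl : ⁅⁅(S : Subgroup G), (S : Subgroup G)⁆, (S : Subgroup G)⁆ = ⊥)
    (hNS : normalizer (S : Set G) ≤ S) (hC : centralizer (omZ (S : Subgroup G) : Set G) ≤ S)
    {D : Subgroup G} (hD : Maximal (Bad (S : Subgroup G)) D) :
    Blk S D ⁅D, resIn 2 (normalizer (D : Set G))⁆ ∧ ¬ resIn 2 (normalizer (D : Set G)) ≤ S := by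
  haveI : Fact (Nat.Prime 2) := ⟨Nat.prime_two⟩
  obtain ⟨⟨hZ, hDS, hN⟩, hmax⟩ := hD
  set H := normalizer (D : Set G) with hH
  have hSH : (S : Subgroup G) ≤ H := le_normalizer_of_class_two hcl hZ hDS
  have hC' : centralizer (((S : Subgroup G) ⊓ centralizer (S : Set G) : Subgroup G) : Set G) ≤ S :=
    le_trans (centralizer_le fun w hw => ⟨hw.1, hw.2.1⟩) hC
  have hcent : ∀ x : H, x ∈ centralizer ((S.subtype hSH : Subgroup H) : Set H) ↔
      (x : G) ∈ centralizer (S : Set G) := fun x =>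
    ⟨fun h s hs => congrArg Subtype.val (h ⟨s, hSH hs⟩ hs), fun h s hs => Subtype.ext (h s hs)⟩
  obtain ⟨h1, h2⟩ := blk_local (S.subtype hSH) (D.subgroupOf H) (fun x hx => hDS hx)
    (fun x hx => hZ ⟨hx.1, (hcent x).1 hx.2⟩)
    (fun s hs t ht => (hcent _).2 (commutator_eq_bot_iff_le_centralizer.1 hcl
      (commutator_mem_commutator hs ht)))
    (fun x hx => hNS (H4.mem_normalizer_of_conj_mem fun s hs =>
      (mem_normalizer_iff.1 hx ⟨s, hSH hs⟩).1 hs))
    (fun h => hN fun x hx => (h ▸ mem_top _ : (⟨x, hx⟩ : H) ∈ (S.subtype hSH : Subgroup H)))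
    (fun g hg a ha hga => by
      have hDT : D ≤ ((g : G)⁻¹ • S : Sylow 2 G) := fun d hd => mem_sylow_smul.2 (by
        rw [inv_inv]; exact hDS ((mem_normalizer_iff.1 g.2 d).1 hd))
      have h3 := sylow_le_normalizer_inf S ((g : G)⁻¹ • S) hcl (fun X _ h => h) hC' (hZ.trans hDT)
      refine hmax (y := (S : Subgroup G) ⊓ ((g : G)⁻¹ • S : Sylow 2 G))
        ⟨le_inf inf_le_left (hZ.trans hDT), inf_le_left, fun h4 => hg ?_⟩ (le_inf hDS hDT)
        (mem_inf.2 ⟨ha, mem_sylow_smul.2 (by rw [inv_inv]; exact hga)⟩)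
      refine inv_mem_iff.1 (hNS (H4.mem_normalizer_of_conj_mem fun s hs => h4 (h3 ?_)))
      exact mem_sylow_smul.2 (by
        have : s ∈ S := hs
        simpa [mul_assoc] using this))
    (fun x hx => hC fun w hw => congrArg Subtype.val (hx ⟨w, hSH hw.1⟩
      ⟨hw.1, (hcent _).2 hw.2.1, Subtype.ext hw.2.2⟩))
  have h3 := h1.map H.subtype_injective
  have e1 : (S.subtype hSH : Subgroup H).map H.subtype = S := by
    rw [Sylow.coe_subtype, subgroupOf_map_subtype, inf_of_le_left hSH]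
  have e2 : (D.subgroupOf H).map H.subtype = D := by
    rw [subgroupOf_map_subtype, inf_of_le_left le_normalizer]
  rw [map_commutator, e1, e2] at h3
  exact ⟨h3, fun h => h2 fun x hx => h ⟨x, hx, rfl⟩⟩

section
variable {A : Type*} [Group A] [MulDistribMulAction A G]

open scoped Pointwise

theorem AInv.smul_eq {S : Subgroup G} (h : AInv A S) (a : A) : a • S = S := h.map_eq a

theorem smul_normalizer' (a : A) (D : Subgroup G) :
    a • normalizer (D : Set G) = normalizer ((a • D : Subgroup G) : Set G) :=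
  map_equiv_normalizer_eq D (MulDistribMulAction.toMulEquiv G a)

theorem Bad.smul {S D : Subgroup G} (hS : AInv A S) (h : Bad S D) (a : A) : Bad S (a • D) := by
  refine ⟨?_, ?_, ?_⟩
  · rw [← (hS.inf hS.centralizer).smul_eq a]
    exact pointwise_smul_le_pointwise_smul_iff.2 h.1
  · rw [← hS.smul_eq a]
    exact pointwise_smul_le_pointwise_smul_iff.2 h.2.1
  · rw [← hS.smul_eq a, ← smul_normalizer', pointwise_smul_le_pointwise_smul_iff]
    exact h.2.2

theorem maximal_bad_smul {S D : Subgroup G} (hS : AInv A S) (h : Maximal (Bad S) D) (a : A) :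
    Maximal (Bad S) (a • D) := ⟨h.1.smul hS a, fun E hE hle => by
  have := h.2 (hE.smul hS a⁻¹) (by rwa [← pointwise_smul_le_pointwise_smul_iff (a := a), smul_inv_smul])
  rwa [← pointwise_smul_le_pointwise_smul_iff (a := a), smul_inv_smul] at this⟩

theorem smul_blkV_le (a : A) (D : Subgroup G) : a • ⁅D, resIn 2 (normalizer (D : Set G))⁆ ≤
    ⁅a • D, resIn 2 (normalizer ((a • D : Subgroup G) : Set G))⁆ := by
  refine (map_commutator _ _ _).le.trans (commutator_mono le_rfl ?_)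
  refine map_le_iff_le_comap.2 (resIn_le_iff.2 ?_)
  intro g hg ho
  refine mem_resIn_of_coprime ?_ (by
    change (orderOf (a • g)).Coprime 2
    rwa [orderOf_smul'])
  rw [← smul_normalizer']
  exact ⟨g, hg, rfl⟩

theorem AInv.omZ {S : Subgroup G} (h : AInv A S) : AInv A (omZ S) := fun a x hx =>
  ⟨h a x hx.1, h.centralizer a x hx.2.1, by rw [← smul_pow', hx.2.2, smul_one]⟩

theorem not_bad [Finite G] [Finite A] (hA : Odd (Nat.card A)) (S : Sylow 2 G)
    (hcl : ⁅⁅(S : Subgroup G), (S : Subgroup G)⁆, (S : Subgroup G)⁆ = ⊥)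
    (hS : AInv A (S : Subgroup G)) (hS0 : (S : Subgroup G) ≠ ⊥)
    (hnorm : ∀ X : Subgroup G, X ≠ ⊥ → X ≤ S → (S : Subgroup G) ≤ normalizer (X : Set G) →
      AInv A X → normalizer (X : Set G) ≤ S) (D : Subgroup G) : ¬ Bad (S : Subgroup G) D := by
  haveI : Fact (Nat.Prime 2) := ⟨Nat.prime_two⟩
  intro hD
  obtain ⟨D, -, hD⟩ := (Set.toFinite {D | Bad (S : Subgroup G) D}).exists_le_maximal hD
  replace hD : Maximal (Bad (S : Subgroup G)) D := hD
  have hNS := hnorm _ hS0 le_rfl le_normalizer hS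
  have hC : centralizer (omZ (S : Subgroup G) : Set G) ≤ S := by
    refine (centralizer_le_normalizer _).trans (hnorm _ ?_ (fun w hw => hw.1)
      (fun s hs => centralizer_le_normalizer _ fun w hw => (hw.2.1 s hs).symm) hS.omZ)
    haveI := S.isPGroup'.isNilpotent
    obtain ⟨q, hq, z, hz, hzq⟩ := H2.exists_mem_prime_orderOf (center_inf_ne_bot hS0)
    obtain ⟨k, hk⟩ := IsPGroup.iff_orderOf.1 S.isPGroup' ⟨z, hz.1⟩
    rw [← orderOf_coe, hzq] at hk
    obtain rfl : q = 2 := (Nat.prime_dvd_prime_iff_eq hq Nat.prime_two).1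
      (hq.dvd_of_dvd_pow (dvd_of_eq hk))
    refine ne_bot_iff_exists_ne_one.2 ⟨⟨z, hz.1, hz.2, by rw [← hzq, pow_orderOf_eq_one]⟩,
      fun h => ?_⟩
    have : z = 1 := congrArg Subtype.val h
    rw [this, orderOf_one] at hzq
    exact absurd hzq (by decide)
  let V : Subgroup G → Subgroup G := fun E => ⁅E, resIn 2 (normalizer (E : Set G))⁆
  have hb : ∀ a : A, Blk S (a • D) (V (a • D)) := fun a =>
    (blk_global S hcl hNS hC (maximal_bad_smul hS hD a)).1
  obtain ⟨hb1, hb2⟩ := blk_global S hcl hNS hC hD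
  by_cases h : ∀ a : A, V (a • D) ≤ D
  · have h1 : ⨆ a : A, V (a • D) ≤ D := iSup_le h
    have h2 : V D ≤ ⨆ a : A, V (a • D) := by
      have := le_iSup (fun a : A => V (a • D)) 1
      rwa [one_smul] at this
    refine hb2 (le_trans ?_ (hnorm (⨆ a : A, V (a • D)) (fun h3 => hb1.ne (eq_bot_iff.2 (h3 ▸ h2)))
      (h1.trans hb1.leS) ?_ ?_))
    · rw [le_normalizer_iff_commutator_le_left]
      exact (commutator_mono h1 le_rfl).trans h2
    · exact (le_iInf fun a => (hb a).norm).trans (iInf_normalizer_le_normalizer_iSup _)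
    · refine aInv_of_map_le fun a => ?_
      rw [Subgroup.map_iSup]
      refine iSup_le fun b => (smul_blkV_le a (b • D)).trans ?_
      rw [← mul_smul]
      exact le_iSup (fun a : A => V (a • D)) _
  · push Not at h
    obtain ⟨a, ha⟩ := h
    have h1 : ¬ V ((a * a) • D) ≤ a • D := fun h2 => ha (by
      rw [← pointwise_smul_le_pointwise_smul_iff (a := a)]
      refine (smul_blkV_le a (a • D)).trans ?_
      rwa [← mul_smul])
    have h2 := (hb a).unique hb1 (hb (a * a)) (hb1.symm (hb a) ha) h1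
    have h3 : (a * a) • D = D := le_antisymm (hD.2 (maximal_bad_smul hS hD _).1 h2) h2
    obtain ⟨k, hk⟩ := hA
    have h4 : a = (a * a) ^ (k + 1) := by
      have := pow_card_eq_one' (x := a)
      rw [hk] at this
      rw [← pow_two, ← pow_mul, show 2 * (k + 1) = (2 * k + 1) + 1 by ring, pow_succ, this, one_mul]
    have h5 : a • D = D := by
      rw [h4]
      exact pow_mem (S := MulAction.stabilizer A D) h3 _
    exact ha ((hb a).le.trans h5.le)

end

end Cfsg.Agent.H84
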