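import Cfsg.Agent.H81.Miller
import Cfsg.Agent.H4.MaxClass
import Cfsg.Agent.H31.Aft

/-! Counting subgroups of a `p`-group modulo `p ^ 2`. -/

set_option autoImplicit false

namespace Cfsg.Agent.H84

open Subgroup

universe u

variable {p : ℕ} [hp : Fact p.Prime]

theorem exists_card_index_prime {K : Type*} [Group K] [Finite K] (hK : IsPGroup p K) :
    ∃ d : ℕ, 1 + Nat.card {M : Subgroup K // M.index = p} * (p - 1) = p ^ d := by
  classical
  let C := Multiplicative (ZMod p)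
  have hC : Nat.card C = p := by simp [C]
  have hCp : ∀ c : C, c ^ p = 1 := fun c => by
    have := pow_card_eq_one' (x := c)
    rwa [hC] at this
  have hA : IsPGroup p (K →* C) := fun φ => ⟨1, by ext x; simp [hCp]⟩
  have : Finite (K →* C) := Finite.of_injective _ DFunLike.coe_injective
  obtain ⟨d, hd⟩ := hA.exists_card_eq
  refine ⟨d, ?_⟩
  have hgen : ∀ a : C, a ≠ 1 → ∀ b : C, ∃ i : ℕ, a ^ i = b := fun a ha b => by
    have := Fact.mk (hC.symm ▸ hp.out : (Nat.card C).Prime)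
    exact mem_powers_iff_mem_zpowers.2 (mem_zpowers_of_prime_card hC ha)
  have h1 := H81.card_preimage_eq_mul (fun M : Subgroup K => M.index = p)
    (fun φ : K →* C => φ.ker) (p - 1) (by
      intro M hM
      have hMn : M.Normal := by
        apply normal_of_index_eq_minFac_card
        obtain ⟨n, hn⟩ := hK.exists_card_eq
        have h0 : n ≠ 0 := by
          rintro rfl
          have := M.index_dvd_card
          rw [hn, hM, pow_zero, Nat.dvd_one] at this
          exact hp.out.one_lt.ne' this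
        rw [hn, hM, hp.out.pow_minFac h0]
      have hco := H3.isCoatom_of_index_prime (hM.symm ▸ hp.out : M.index.Prime)
      obtain ⟨g, hg⟩ : ∃ g, g ∉ M := by
        by_contra! h
        exact hco.1 (eq_top_iff.2 fun g _ => h g)
      let e : K ⧸ M ≃* C := mulEquivOfPrimeCardEq (p := p) hM hC
      let φ0 : K →* C := e.toMonoidHom.comp (QuotientGroup.mk' M)
      have h0 : ∀ x, φ0 x = 1 ↔ x ∈ M := fun x => by
        simp [φ0, QuotientGroup.eq_one_iff]
      have h2 : Nat.card {c : C // c ≠ 1} = p - 1 := by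
        have := Fintype.ofFinite C
        rw [Nat.card_eq_fintype_card, Fintype.card_subtype_compl, ← Nat.card_eq_fintype_card, hC,
          Fintype.card_subtype_eq]
      rw [← h2]
      refine Nat.card_eq_of_bijective (fun φ => ⟨φ.1 g, fun h => hg (φ.2 ▸ h)⟩) ⟨?_, ?_⟩
      · rintro ⟨φ, hφ⟩ ⟨ψ, hψ⟩ h
        have h3 : φ g = ψ g := congrArg Subtype.val h
        refine Subtype.ext (MonoidHom.ext fun x => ?_)
        have : φ.eqLocus ψ = ⊤ := by
          rw [eq_top_iff, ← H4.sup_zpowers_eq_top_of_index_prime (hM.symm ▸ hp.out) hg, sup_le_iff,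
            zpowers_le]
          refine ⟨fun y hy => ?_, h3⟩
          have h4 : φ y = 1 := by rw [← MonoidHom.mem_ker, hφ]; exact hy
          have h5 : ψ y = 1 := by rw [← MonoidHom.mem_ker, hψ]; exact hy
          exact h4.trans h5.symm
        exact (this ▸ mem_top x : x ∈ φ.eqLocus ψ)
      · rintro ⟨c, hc⟩
        obtain ⟨i, hi⟩ := hgen (φ0 g) (fun h => hg ((h0 g).1 h)) c
        refine ⟨⟨φ0 ^ i, ?_⟩, Subtype.ext (by simpa using hi)⟩
        have hle : M ≤ (φ0 ^ i).ker := fun y hy => by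
          rw [MonoidHom.mem_ker, MonoidHom.pow_apply, (h0 y).2 hy, one_pow]
        refine (hle.eq_or_lt.resolve_right fun h => hc ?_).symm
        have := (hco.2 _ h ▸ mem_top g : g ∈ (φ0 ^ i).ker)
        rw [← hi]
        simpa using this)
  have h2 := H81.card_add_card_not (fun _ : K →* C => True) (fun φ => φ = 1)
  have h3 : Nat.card {φ : K →* C // True ∧ φ = 1} = 1 := by
    rw [Nat.card_eq_one_iff_exists]
    exact ⟨⟨1, trivial, rfl⟩, fun y => Subtype.ext y.2.2⟩
  rw [← h1, ← hd, ← Nat.card_congr (Equiv.subtypeUnivEquiv (p := fun _ : K →* C => True)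
    fun _ => trivial), ← h2, h3]
  congr 1
  refine Nat.card_congr (Equiv.subtypeEquivRight fun φ => ?_)
  rw [index_ker, true_and]
  have h4 := φ.range.card_subgroup_dvd_card
  rw [hC] at h4
  constructor
  · rintro h rfl
    rw [MonoidHom.range_one, card_bot] at h
    exact hp.out.one_lt.ne h
  · intro h
    refine ((Nat.dvd_prime hp.out).1 h4).resolve_left fun h' => h ?_
    rwa [card_eq_one, MonoidHom.range_eq_bot_iff] at h'

theorem mul_self_zmod : (p : ZMod (p ^ 2)) * p = 0 := by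
  rw [← Nat.cast_mul, ← sq, ZMod.natCast_self]

open Classical in
theorem card_index_prime {K : Type*} [Group K] [Finite K] (hK : IsPGroup p K) [Nontrivial K] :
    (Nat.card {M : Subgroup K // M.index = p} : ZMod (p ^ 2)) =
      if IsCyclic K then 1 else (1 + p : ZMod (p ^ 2)) := by
  obtain ⟨n, hn0, hn⟩ := hK.nontrivial_iff_card.1 ‹_›
  obtain ⟨n, rfl⟩ : ∃ m, n = m + 1 := ⟨n - 1, by omega⟩
  have hi : ∀ M : Subgroup K, M.index = p ↔ Nat.card M = p ^ n := fun M => by
    have h1 := M.card_mul_index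
    rw [hn, pow_succ] at h1
    constructor
    · intro h
      rw [h] at h1
      exact Nat.eq_of_mul_eq_mul_right hp.out.pos h1
    · intro h
      rw [h] at h1
      exact Nat.eq_of_mul_eq_mul_left (pow_pos hp.out.pos n) h1
  obtain ⟨M, hM⟩ := Sylow.exists_subgroup_card_pow_prime p (G := K) (n := n)
    (hn ▸ pow_dvd_pow p n.le_succ)
  have huniq : IsCyclic K ↔ Nat.card {M : Subgroup K // M.index = p} = 1 := by
    rw [Nat.card_eq_one_iff_exists]
    constructor
    · intro hc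
      refine ⟨⟨M, (hi M).2 hM⟩, fun y => Subtype.ext ?_⟩
      let _ : CommGroup K := IsCyclic.commGroup
      have key : ∀ L : Subgroup K, L = (powMonoidHom (Nat.card L) : K →* K).ker := by
        intro L
        apply Subgroup.eq_of_le_of_card_ge
        · intro x hx
          exact congrArg Subtype.val (pow_card_eq_one' (x := (⟨x, hx⟩ : L)))
        · rw [IsCyclic.card_powMonoidHom_ker]
          exact Nat.gcd_le_right _ Nat.card_pos
      change y.1 = M
      rw [key y.1, key M, (hi _).1 y.2, hM]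
    · rintro ⟨⟨M, hM⟩, h⟩
      have hco := H3.isCoatom_of_index_prime (hM.symm ▸ hp.out : M.index.Prime)
      obtain ⟨g, hg⟩ : ∃ g, g ∉ M := by
        by_contra! h
        exact hco.1 (eq_top_iff.2 fun g _ => h g)
      rw [isCyclic_iff_exists_zpowers_eq_top]
      refine ⟨g, ?_⟩
      by_contra hne
      obtain ⟨k, hk⟩ := (hK.to_subgroup (zpowers g)).exists_card_eq
      have hlt : k < n + 1 := by
        have := H2.card_lt_of_lt (lt_top_iff_ne_top.2 hne)
        rwa [hk, card_top, hn, Nat.pow_lt_pow_iff_right hp.out.one_lt] at this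
      obtain ⟨L, hL, hle⟩ := Sylow.exists_subgroup_card_pow_prime_le p (G := K) (n := k) (m := n)
        (hn ▸ pow_dvd_pow p n.le_succ) (zpowers g) hk (by omega)
      have h5 : L = M := congrArg Subtype.val (h ⟨L, (hi L).2 hL⟩)
      exact hg (h5 ▸ hle (mem_zpowers g))
  split_ifs with hc
  · rw [huniq.1 hc, Nat.cast_one]
  · obtain ⟨d, hd⟩ := exists_card_index_prime hK
    have hpos : 0 < Nat.card {M : Subgroup K // M.index = p} :=
      Nat.card_pos_iff.2 ⟨⟨⟨M, (hi M).2 hM⟩⟩, inferInstance⟩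
    have hne := mt huniq.2 hc
    generalize Nat.card {M : Subgroup K // M.index = p} = a at *
    obtain ⟨q, hq⟩ : ∃ q, p = q + 1 := ⟨p - 1, by have := hp.out.pos; omega⟩
    have hq0 : 0 < q := by have := hp.out.one_lt; omega
    have hpq : p - 1 = q := by omega
    rw [hpq] at hd
    have hd2 : 2 ≤ d := by
      by_contra hlt
      have : p ^ d ≤ p ^ 1 := Nat.pow_le_pow_right hp.out.pos (by omega)
      rw [← hd, pow_one, hq] at this
      have : 2 * q ≤ a * q := Nat.mul_le_mul_right q (by omega)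
      omega
    have h1 : (1 : ZMod (p ^ 2)) + a * q = 0 := by
      have := congrArg (Nat.cast : ℕ → ZMod (p ^ 2)) hd
      rw [(ZMod.natCast_eq_zero_iff _ _).2 (pow_dvd_pow p hd2)] at this
      exact_mod_cast this
    have h2 : (p : ZMod (p ^ 2)) = q + 1 := by exact_mod_cast congrArg (Nat.cast : ℕ → ZMod (p ^ 2)) hq
    have h3 := mul_self_zmod (p := p)
    linear_combination (-(1 + (p : ZMod (p ^ 2)))) * h1 + (a : ZMod (p ^ 2)) * h3 -
      (a * (1 + (p : ZMod (p ^ 2)))) * h2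

open Classical in
theorem card_le_index_prime {G : Type*} [Group G] [Finite G] (K : Subgroup G) {j : ℕ}
    (hK : Nat.card K = p ^ (j + 1)) :
    (Nat.card {H : Subgroup G // Nat.card H = p ^ j ∧ H ≤ K} : ZMod (p ^ 2)) =
      if IsCyclic K then 1 else (1 + p : ZMod (p ^ 2)) := by
  have hKp : IsPGroup p K := IsPGroup.of_card hK
  have : Nontrivial K := hKp.nontrivial_iff_card.2 ⟨j + 1, by omega, hK⟩
  rw [← card_index_prime hKp]
  congr 1
  have hi : ∀ M : Subgroup K, M.index = p ↔ Nat.card M = p ^ j := fun M => by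
    have h1 := M.card_mul_index
    rw [hK, pow_succ] at h1
    constructor
    · intro h
      rw [h] at h1
      exact Nat.eq_of_mul_eq_mul_right hp.out.pos h1
    · intro h
      rw [h] at h1
      exact Nat.eq_of_mul_eq_mul_left (pow_pos hp.out.pos j) h1
  refine Nat.card_congr ⟨fun H => ⟨H.1.subgroupOf K, (hi _).2 ?_⟩,
    fun M => ⟨M.1.map K.subtype, ?_, map_subtype_le _⟩, fun H => ?_, fun M => ?_⟩
  · exact (Nat.card_congr (subgroupOfEquivOfLe H.2.2).toEquiv).trans H.2.1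
  · rw [card_map_of_injective K.subtype_injective, (hi _).1 M.2]
  · exact Subtype.ext (map_subgroupOf_eq_of_le H.2.2)
  · exact Subtype.ext (comap_map_eq_self_of_injective K.subtype_injective _)

section Step

variable {G : Type*} [Group G] [Finite G] {Z : Subgroup G} [Z.Normal]

theorem map_facts (hZ : Nat.card Z = p) {H : Subgroup G} (h : ¬ Z ≤ H) :
    Nat.card (H.map (QuotientGroup.mk' Z)) = Nat.card H ∧
      (IsCyclic (H.map (QuotientGroup.mk' Z)) ↔ IsCyclic H) := by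
  have h1 : H ⊓ Z = ⊥ := by
    have h2 := card_dvd_of_le (inf_le_right : H ⊓ Z ≤ Z)
    rw [hZ, Nat.dvd_prime hp.out] at h2
    rcases h2 with h2 | h2
    · exact card_eq_one.1 h2
    · exact absurd (inf_eq_right.1 (eq_of_le_of_card_ge inf_le_right (by rw [h2, hZ]))) h
  have hb : Function.Bijective ((QuotientGroup.mk' Z).subgroupMap H) := by
    refine ⟨(injective_iff_map_eq_one _).2 fun x hx => ?_, MonoidHom.subgroupMap_surjective _ _⟩
    have h3 : (x : G) ∈ Z := (QuotientGroup.eq_one_iff _).1 (congrArg Subtype.val hx)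
    exact Subtype.ext (mem_bot.1 (h1 ▸ mem_inf.2 ⟨x.2, h3⟩))
  let e := MulEquiv.ofBijective _ hb
  exact ⟨(Nat.card_congr e.toEquiv).symm, e.isCyclic.symm⟩

open Classical in
theorem fiber_count (hZ : Nat.card Z = p) (K : Subgroup (G ⧸ Z)) {j : ℕ}
    (hK : Nat.card K = p ^ (j + 1)) :
    (Nat.card {H : Subgroup G // (Nat.card H = p ^ (j + 1) ∧ ¬ Z ≤ H) ∧
      H.map (QuotientGroup.mk' Z) = K} : ZMod (p ^ 2)) +
      (if IsCyclic K then 1 else (1 + p : ZMod (p ^ 2))) =
      if IsCyclic (K.comap (QuotientGroup.mk' Z)) then 1 else (1 + p : ZMod (p ^ 2)) := by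
  have h1 : Nat.card (K.comap (QuotientGroup.mk' Z)) = p ^ (j + 1 + 1) := by
    rw [H1.card_comap_mk', hK, hZ, ← pow_succ]
  rw [← card_le_index_prime _ h1, ← card_le_index_prime _ hK, ← H81.card_add_card_not
    (fun H : Subgroup G => Nat.card H = p ^ (j + 1) ∧ H ≤ K.comap (QuotientGroup.mk' Z))
    (fun H => Z ≤ H), Nat.cast_add, add_comm, H81.card_ge_normal_eq]
  congr 2
  · refine Nat.card_congr (Equiv.subtypeEquivRight fun L => and_congr ?_ ?_)
    · rw [H1.card_comap_mk', hZ, pow_succ]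
      exact (Nat.mul_left_inj hp.out.ne_zero).symm
    · exact (comap_le_comap_of_surjective (QuotientGroup.mk'_surjective Z)).symm
  · refine Nat.card_congr (Equiv.subtypeEquivRight fun H => ⟨?_, ?_⟩)
    · rintro ⟨⟨h2, h3⟩, rfl⟩
      exact ⟨⟨h2, le_comap_map _ _⟩, h3⟩
    · rintro ⟨⟨h2, h3⟩, h4⟩
      exact ⟨⟨h2, h4⟩, eq_of_le_of_card_ge (map_le_iff_le_comap.2 h3)
        (by rw [(map_facts hZ h4).1, h2, hK])⟩

theorem card_not_le_cyclic (hZ : Nat.card Z = p) (j : ℕ) :
    (Nat.card {H : Subgroup G // (IsCyclic H ∧ Nat.card H = p ^ (j + 1)) ∧ ¬ Z ≤ H} :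
      ZMod (p ^ 2)) = Nat.card {K : Subgroup (G ⧸ Z) // (IsCyclic K ∧ Nat.card K = p ^ (j + 1)) ∧
        ¬ IsCyclic (K.comap (QuotientGroup.mk' Z))} * p := by
  have key := H81.double_count (R := ZMod (p ^ 2))
    (fun H : Subgroup G => (IsCyclic H ∧ Nat.card H = p ^ (j + 1)) ∧ ¬ Z ≤ H)
    (fun K : Subgroup (G ⧸ Z) => (IsCyclic K ∧ Nat.card K = p ^ (j + 1)) ∧
      ¬ IsCyclic (K.comap (QuotientGroup.mk' Z)))
    (fun H K => H.map (QuotientGroup.mk' Z) = K) 1 p ?_ ?_
  · rwa [mul_one] at key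
  · rintro H ⟨⟨h1, h2⟩, h3⟩
    rw [Nat.card_eq_one_iff_exists.2, Nat.cast_one]
    refine ⟨⟨H.map (QuotientGroup.mk' Z), ⟨⟨(map_facts hZ h3).2.2 h1,
      (map_facts hZ h3).1.trans h2⟩, fun hc => h3 ?_⟩, rfl⟩, fun y => Subtype.ext y.2.2.symm⟩
    obtain ⟨g, hg⟩ := (Subgroup.isCyclic_iff_exists_zpowers_eq_top _).1 hc
    obtain ⟨x, hx⟩ := (Subgroup.isCyclic_iff_exists_zpowers_eq_top _).1 h1
    intro z hz
    rw [← hx]
    refine H82.mem_zpowers_of_orderOf_dvd (g := g) (hg ▸ QuotientGroup.le_comap_mk' Z _ hz)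
      (hg ▸ le_comap_map _ _ (hx ▸ mem_zpowers x)) ?_
    rw [← Nat.card_zpowers x, hx, h2]
    exact (hZ ▸ orderOf_dvd_natCard Z hz).trans (dvd_pow_self p j.succ_ne_zero)
  · rintro K ⟨⟨h1, h2⟩, h3⟩
    have h4 := fiber_count hZ K h2
    rw [if_pos h1, if_neg h3, add_comm] at h4
    rw [← add_left_cancel h4]
    congr 1
    refine Nat.card_congr (Equiv.subtypeEquivRight fun H => ⟨fun h => ⟨⟨h.1.1.2, h.1.2⟩, h.2⟩,
      fun h => ⟨⟨⟨(map_facts hZ h.1.2).2.1 (h.2 ▸ h1), h.1.1⟩, h.1.2⟩, h.2⟩⟩)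

theorem card_not_le_not_cyclic (hZ : Nat.card Z = p) (j : ℕ) :
    (Nat.card {H : Subgroup G // (Nat.card H = p ^ (j + 1) ∧ ¬ Z ≤ H) ∧ ¬ IsCyclic H} :
      ZMod (p ^ 2)) = 0 := by
  have key := H81.double_count (R := ZMod (p ^ 2))
    (fun H : Subgroup G => (Nat.card H = p ^ (j + 1) ∧ ¬ Z ≤ H) ∧ ¬ IsCyclic H)
    (fun K : Subgroup (G ⧸ Z) => Nat.card K = p ^ (j + 1) ∧ ¬ IsCyclic K)
    (fun H K => H.map (QuotientGroup.mk' Z) = K) 1 0 ?_ ?_
  · rwa [mul_one, mul_zero] at key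
  · rintro H ⟨⟨h2, h3⟩, h1⟩
    rw [Nat.card_eq_one_iff_exists.2, Nat.cast_one]
    exact ⟨⟨H.map (QuotientGroup.mk' Z), ⟨(map_facts hZ h3).1.trans h2,
      mt (map_facts hZ h3).2.1 h1⟩, rfl⟩, fun y => Subtype.ext y.2.2.symm⟩
  · rintro K ⟨h2, h1⟩
    have h4 := fiber_count hZ K h2
    rw [if_neg h1, if_neg fun hc => h1 (by
      have := hc
      rw [← map_comap_eq_self_of_surjective (QuotientGroup.mk'_surjective Z) K]
      exact isCyclic_of_surjective _ (MonoidHom.subgroupMap_surjective _ _)), add_eq_right] at h4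
    rw [← h4]
    congr 1
    refine Nat.card_congr (Equiv.subtypeEquivRight fun H => ⟨fun h => ⟨h.1.1, h.2⟩,
      fun h => ⟨⟨h.1, mt (map_facts hZ h.1.2).2.2 (h.2 ▸ h1)⟩, h.2⟩⟩)

end Step

/-- In every `p`-group, `s_k + p c_{k+1} ≡ 1 + p` modulo `p ^ 2`. -/
theorem card_subgroups_add_cyclic (k : ℕ) : ∀ (G : Type u) [Group G] [Finite G], IsPGroup p G →
    p ^ (k + 1) ∣ Nat.card G →
    (Nat.card {H : Subgroup G // Nat.card H = p ^ k} : ZMod (p ^ 2)) +
      p * Nat.card {H : Subgroup G // IsCyclic H ∧ Nat.card H = p ^ (k + 1)} = 1 + p := by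
  have hpp := mul_self_zmod (p := p)
  induction k with
  | zero =>
    intro G _ _ _ hd
    have h1 : Nat.card {H : Subgroup G // Nat.card H = p ^ 0} = 1 := by
      rw [Nat.card_eq_one_iff_exists]
      exact ⟨⟨⊥, by simp⟩, fun y => Subtype.ext (card_eq_one.1 y.2)⟩
    have h2 : Nat.card {H : Subgroup G // IsCyclic H ∧ Nat.card H = p ^ (0 + 1)} =
        Nat.card {H : Subgroup G // Nat.card H = p ^ (0 + 1)} :=
      Nat.card_congr (Equiv.subtypeEquivRight fun H => and_iff_right_of_imp fun h =>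
        isCyclic_of_prime_card (p := p) (by simpa using h))
    obtain ⟨t, ht⟩ := (H81.card_subgroups_modEq_one hd).symm.dvd
    have h3 := congrArg (Int.cast : ℤ → ZMod (p ^ 2)) ht
    push_cast at h3
    rw [h1, h2]
    push_cast
    linear_combination (p : ZMod (p ^ 2)) * h3 + (t : ZMod (p ^ 2)) * hpp
  | succ k ih =>
    intro G _ _ hG hd
    have : Nontrivial G := by
      rw [← Finite.one_lt_card_iff_nontrivial]
      exact (Nat.one_lt_pow (by omega) hp.out.one_lt).trans_le (Nat.le_of_dvd Nat.card_pos hd)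
    obtain ⟨z, hz⟩ := exists_prime_orderOf_dvd_card' (G := center G) p
      ((hG.to_subgroup _).card_eq_or_dvd.resolve_left fun h =>
          hG.bot_lt_center.ne' (card_eq_one.1 h))
    have := H81.normal_zpowers_of_mem_center z.2
    have hZ : Nat.card (zpowers (z : G)) = p := by rw [Nat.card_zpowers, orderOf_coe, hz]
    generalize zpowers (z : G) = Z at *
    have h1 := ih (G ⧸ Z) (hG.to_quotient _) (by
      rw [card_eq_card_quotient_mul_card_subgroup Z, hZ, pow_succ] at hd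
      exact Nat.dvd_of_mul_dvd_mul_right hp.out.pos hd)
    have hc : ∀ (K : Subgroup (G ⧸ Z)) (j : ℕ),
        Nat.card (K.comap (QuotientGroup.mk' Z)) = p ^ (j + 1) ↔ Nat.card K = p ^ j := fun K j => by
      rw [H1.card_comap_mk', hZ, pow_succ]
      exact Nat.mul_left_inj hp.out.ne_zero
    have h2 := card_not_le_cyclic hZ k
    have h3 := card_not_le_cyclic hZ (k + 1)
    have h4 := card_not_le_not_cyclic hZ k
    have h5 : Nat.card {H : Subgroup G // Nat.card H = p ^ (k + 1) ∧ Z ≤ H} =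
        Nat.card {K : Subgroup (G ⧸ Z) // Nat.card K = p ^ k} := by
      rw [H81.card_ge_normal_eq]
      exact Nat.card_congr (Equiv.subtypeEquivRight fun K => hc K k)
    have h6 : Nat.card {H : Subgroup G // (IsCyclic H ∧ Nat.card H = p ^ (k + 1 + 1)) ∧ Z ≤ H} =
        Nat.card {K : Subgroup (G ⧸ Z) // (IsCyclic K ∧ Nat.card K = p ^ (k + 1)) ∧
          IsCyclic (K.comap (QuotientGroup.mk' Z))} := by
      rw [H81.card_ge_normal_eq]
      refine Nat.card_congr (Equiv.subtypeEquivRight fun K =>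
        ⟨fun h => ⟨⟨?_, (hc K _).1 h.2⟩, h.1⟩, fun h => ⟨h.2, (hc K _).2 h.1.2⟩⟩)
      have := h.1
      rw [← map_comap_eq_self_of_surjective (QuotientGroup.mk'_surjective Z) K]
      exact isCyclic_of_surjective _ (MonoidHom.subgroupMap_surjective _ _)
    have h7 : Nat.card {H : Subgroup G // (Nat.card H = p ^ (k + 1) ∧ ¬ Z ≤ H) ∧ IsCyclic H} =
        Nat.card {H : Subgroup G // (IsCyclic H ∧ Nat.card H = p ^ (k + 1)) ∧ ¬ Z ≤ H} :=
      Nat.card_congr (Equiv.subtypeEquivRight fun H => by tauto)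
    rw [← H81.card_add_card_not (fun K : Subgroup (G ⧸ Z) =>
      IsCyclic K ∧ Nat.card K = p ^ (k + 1)) (fun K : Subgroup (G ⧸ Z) =>
      IsCyclic (K.comap (QuotientGroup.mk' Z))), ← h6, ← h5] at h1
    rw [← H81.card_add_card_not (fun H : Subgroup G => Nat.card H = p ^ (k + 1)) (fun H => Z ≤ H),
      ← H81.card_add_card_not (fun H : Subgroup G => Nat.card H = p ^ (k + 1) ∧ ¬ Z ≤ H)
        (fun H => IsCyclic H), h7, ← H81.card_add_card_not
        (fun H : Subgroup G => IsCyclic H ∧ Nat.card H = p ^ (k + 1 + 1)) (fun H => Z ≤ H)]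
    push_cast at h1 ⊢
    rw [h2, h3, h4]
    linear_combination h1 + (Nat.card {K : Subgroup (G ⧸ Z) //
      (IsCyclic K ∧ Nat.card K = p ^ (k + 1 + 1)) ∧
        ¬ IsCyclic (K.comap (QuotientGroup.mk' Z))} : ZMod (p ^ 2)) * hpp

theorem card_orderOf_eq_cyclic {G : Type*} [Group G] [Finite G] (n : ℕ) :
    Nat.card {x : G // orderOf x = n} =
      Nat.card {H : Subgroup G // IsCyclic H ∧ Nat.card H = n} * n.totient := by
  rw [← H81.card_preimage_eq_mul (fun H : Subgroup G => IsCyclic H ∧ Nat.card H = n)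
    (fun x : G => zpowers x) n.totient]
  · refine Nat.card_congr (Equiv.subtypeEquivRight fun z => ?_)
    simp only [Nat.card_zpowers]
    exact ⟨fun h => ⟨inferInstance, h⟩, fun h => h.2⟩
  · rintro X ⟨h1, h2⟩
    rw [← h2, ← H81.card_generators h1]

theorem exists_normal_four' {G : Type*} [Group G] [Finite G] (hG : IsPGroup 2 G)
    (hnc : ¬ IsCyclic G) (hw : ∀ w : G, 4 < Nat.card (centralizer ({w} : Set G))) :
    ∃ U : Subgroup G, U.Normal ∧ IsElementaryAbelian 2 U ∧ Nat.card U = 4 := by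
  obtain ⟨A, hA, hAc, hnc⟩ : ∃ A : Subgroup G, A.Normal ∧ IsMulCommutative A ∧ ¬ IsCyclic A := by
    by_contra! h'
    rcases H31.cyclic_or_small_cent hG h' with h1 | ⟨w, hw'⟩
    exacts [hnc h1, absurd hw' (not_le.2 (hw w))]
  haveI : (omegaOne 2 A).Normal := by
    rw [← normalizer_eq_top_iff, eq_top_iff]
    exact le_normalizer_of_normal.trans (H21.normalizer_le_normalizer_omegaOne 2 A)
  obtain ⟨U, hU, hle, hc⟩ := H3.exists_normal_le_card_eq hG (omegaOne 2 A) 2 (by
    by_contra hlt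
    refine hnc (H46.isCyclic_of_comm_of_unique (hG.to_subgroup A) fun x y hx hy => ?_)
    obtain ⟨k, hk⟩ := (hG.to_subgroup (omegaOne 2 A)).exists_card_eq
    have hx' : orderOf (x : G) = 2 := by rw [orderOf_coe, hx]
    have h1 : zpowers (x : G) = omegaOne 2 A := H21.eq_of_le_of_card_le
      (zpowers_le_of_mem (H21.mem_omegaOne x.2 (hx' ▸ pow_orderOf_eq_one (x : G)))) (by
        rw [hk, not_le, Nat.pow_lt_pow_iff_right one_lt_two] at hlt
        rw [Nat.card_zpowers, hx', hk]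
        exact (Nat.pow_le_pow_right two_pos (Nat.lt_succ_iff.1 hlt)).trans_eq rfl)
    obtain ⟨i, hi⟩ := mem_zpowers_iff.1 (h1 ▸ H21.mem_omegaOne y.2
      (by exact_mod_cast congrArg Subtype.val hy) : (y : G) ∈ zpowers (x : G))
    exact mem_zpowers_iff.2 ⟨i, Subtype.ext (by simpa using hi)⟩)
  exact ⟨U, hU, H21.isElementaryAbelian_of_le (H21.isElementaryAbelian_omegaOne 2 A) hle, hc⟩

theorem two_pow_dvd_card_orderOf {G : Type*} [Group G] [Finite G] (hG : IsPGroup 2 G)
    (hnc : ¬ IsCyclic G) (hw : ∀ w : G, 4 < Nat.card (centralizer ({w} : Set G))) (t : ℕ) :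
    2 ^ (t + 2) ∣ Nat.card {x : G // orderOf x = 2 ^ (t + 2)} := by
  obtain ⟨A, hAn, hAe, hA⟩ := exists_normal_four' hG hnc hw
  rcases t with _ | t
  · have h1 := H31.four_dvd_of_normal_four hG hAe hA hw
    have h2 := H81.dvd_card_pow_eq_one (G := G) (hA ▸ A.card_subgroup_dvd_card)
    rw [← H81.card_add_card_not (fun x : G => x ^ 4 = 1) (fun x => x ^ 2 = 1)] at h2
    have h3 : Nat.card {x : G // x ^ 4 = 1 ∧ x ^ 2 = 1} = {x : G | x ^ 2 = 1}.ncard :=
      Nat.card_congr (Equiv.subtypeEquivRight fun x => and_iff_right_of_imp fun h => by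
        rw [show 4 = 2 * 2 from rfl, pow_mul, show x ^ 2 = 1 from h, one_pow])
    have h4 : Nat.card {x : G // x ^ 4 = 1 ∧ ¬ x ^ 2 = 1} =
        Nat.card {x : G // orderOf x = 2 ^ (0 + 2)} :=
      Nat.card_congr (Equiv.subtypeEquivRight fun x => ⟨fun h =>
        orderOf_eq_prime_pow (p := 2) (n := 1) h.2 h.1, fun h => ⟨orderOf_dvd_iff_pow_eq_one.1 h.dvd,
          fun h' => absurd (h ▸ orderOf_dvd_of_pow_eq_one h') (by norm_num)⟩⟩)
    rw [h3, h4] at h2
    exact (Nat.dvd_add_right h1).1 h2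
  obtain ⟨z, h⟩ := H44.exists_NF_of_normal (T := ⊤) (hG.to_subgroup _) le_top hAe hA
    (by rw [normalizer_eq_top])
  have hz : ∀ g, Commute g z := fun g => h.comm (mem_top g)
  have hsq : ∀ x : G, ∀ a ∈ A, (x * a) ^ 2 = x ^ 2 ∨ (x * a) ^ 2 = x ^ 2 * z := fun x a ha => by
    have haa : a * a = 1 := sq a ▸ hAe.2 a ha
    have e : (x * a) ^ 2 = x ^ 2 * (x⁻¹ * a * x⁻¹⁻¹) * a := by rw [sq, sq]; group
    rcases h.conj x⁻¹ trivial a ha with h1 | h1 <;> rw [e, h1]
    · exact Or.inl (by rw [mul_assoc, haa, mul_one])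
    · exact Or.inr (by rw [(hz a).eq, mul_assoc, mul_assoc, haa, mul_one])
  have hx4 : ∀ x : G, orderOf x = 2 ^ (t + 1 + 2) → orderOf (x ^ 2) = 2 ^ (t + 2) := fun x hx => by
    rw [orderOf_pow_of_dvd two_ne_zero (hx ▸ dvd_pow_self 2 (by omega)), hx, pow_succ,
      Nat.mul_div_cancel _ two_pos]
  have key : ∀ x y : G, orderOf x = 2 ^ (t + 1 + 2) → x⁻¹ * y ∈ zpowers (x ^ 2) ⊔ A →
      orderOf y = 2 ^ (t + 1 + 2) ∧ zpowers (y ^ 2) ⊔ A = zpowers (x ^ 2) ⊔ A := by
    intro x y hx hy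
    rw [← SetLike.mem_coe, mul_normal] at hy
    obtain ⟨_, hu, a, ha, h1⟩ := hy
    obtain ⟨j, rfl⟩ := mem_powers_iff_mem_zpowers.2 hu
    have h2 : y = x ^ (1 + 2 * j) * a := by
      rw [pow_add, pow_one, pow_mul, mul_assoc]
      exact (inv_mul_eq_iff_eq_mul.1 h1.symm)
    have hv : orderOf (x ^ (1 + 2 * j)) = 2 ^ (t + 1 + 2) := by
      rw [Nat.Coprime.orderOf_pow, hx]
      rw [hx]
      exact Nat.Coprime.pow_left _ (by simp)
    have hzp : zpowers ((x ^ (1 + 2 * j)) ^ 2) = zpowers (x ^ 2) := by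
      refine eq_of_le_of_card_ge (zpowers_le.2 ?_) ?_
      · rw [← pow_mul, mul_comm, pow_mul]; exact npow_mem_zpowers _ _
      · rw [Nat.card_zpowers, Nat.card_zpowers, hx4 _ hx, hx4 _ hv]
    rw [← hzp]
    generalize x ^ (1 + 2 * j) = v at *
    have h3 : (y ^ 2) ^ 2 = (v ^ 2) ^ 2 := by
      rcases hsq v a ha with h3 | h3 <;> rw [h2, h3]
      rw [(hz _).mul_pow, sq z, h.mul_self, mul_one]
    have h4 : ∀ n : ℕ, y ^ 2 ^ (n + 2) = v ^ 2 ^ (n + 2) := fun n => by
      rw [show 2 ^ (n + 2) = 2 * 2 * 2 ^ n by ring, pow_mul, pow_mul, h3, ← pow_mul, ← pow_mul,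
        mul_assoc]
    refine ⟨orderOf_eq_prime_pow (fun h5 => ?_) ?_, ?_⟩
    · rw [show t + 1 + 1 = t + 2 from rfl, h4, ← orderOf_dvd_iff_pow_eq_one, hv] at h5
      have := (Nat.pow_dvd_pow_iff_le_right one_lt_two).1 h5
      omega
    · rw [show t + 1 + 1 + 1 = t + 1 + 2 from rfl, h4, ← hv, pow_orderOf_eq_one]
    · rcases hsq v a ha with h5 | h5 <;> rw [h2, h5]
      refine le_antisymm (sup_le (zpowers_le.2 ?_) le_sup_right) (sup_le (zpowers_le.2 ?_) le_sup_right)
      · exact mul_mem (mem_sup_left (mem_zpowers _)) (mem_sup_right h.mem)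
      · exact (mul_mem_cancel_right (mem_sup_right h.mem)).1 (mem_sup_left (mem_zpowers _))
  refine H81.dvd_card_of_fibers (fun x : G => orderOf x = 2 ^ (t + 1 + 2))
    (fun x => {y | x⁻¹ * y ∈ zpowers (x ^ 2) ⊔ A}) _ fun x hx => ?_
  have h1 : Nat.card {y : G // orderOf y = 2 ^ (t + 1 + 2) ∧
      {z | y⁻¹ * z ∈ zpowers (y ^ 2) ⊔ A} = {z | x⁻¹ * z ∈ zpowers (x ^ 2) ⊔ A}} =
      Nat.card ↥(zpowers (x ^ 2) ⊔ A) := by
    refine Nat.card_congr ⟨fun y => ⟨x⁻¹ * y.1, ?_⟩, fun k => ⟨x * k.1, ?_⟩, fun y => ?_,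
      fun k => ?_⟩
    · have : y.1 ∈ {z | y.1⁻¹ * z ∈ zpowers (y.1 ^ 2) ⊔ A} := by
        rw [Set.mem_setOf_eq, inv_mul_cancel]
        exact one_mem _
      rw [y.2.2] at this
      exact this
    · obtain ⟨h2, h3⟩ := key x (x * k.1) hx (by rw [inv_mul_cancel_left]; exact k.2)
      refine ⟨h2, ?_⟩
      ext z
      simp only [Set.mem_setOf_eq, h3, mul_inv_rev, mul_assoc]
      exact mul_mem_cancel_left (inv_mem k.2)
    · exact Subtype.ext (mul_inv_cancel_left _ _)
    · exact Subtype.ext (inv_mul_cancel_left _ _)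
  rw [h1]
  have h2 := H21.card_sup_mul_card_inf (X := A) (Y := zpowers (x ^ 2))
    (by rw [normalizer_eq_top]; exact le_top)
  have h3 : Nat.card ↥(A ⊓ zpowers (x ^ 2)) ∣ 2 := by
    have : IsCyclic ↥(A ⊓ zpowers (x ^ 2)) := Subgroup.isCyclic_of_le inf_le_right
    rw [← IsCyclic.exponent_eq_card]
    exact Monoid.exponent_dvd_of_forall_pow_eq_one fun g => Subtype.ext (hAe.2 _ g.2.1)
  rw [hA, Nat.card_zpowers, hx4 x hx, sup_comm] at h2
  obtain ⟨c, hc⟩ := h3
  refine ⟨c, Nat.eq_of_mul_eq_mul_right (Nat.card_pos (α := ↥(A ⊓ zpowers (x ^ 2)))) ?_⟩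
  rw [h2, mul_assoc, mul_comm c, ← hc]
  ring

end Cfsg.Agent.H84
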