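import Cfsg.Agent.H84.RUModel
import Cfsg.Agent.H28.SL2Gen
import Cfsg.Agent.H29.F4
import Cfsg.Agent.H9.Transport

/-!
`SL₃(q)` is generated by two conjugate regular unipotent elements.
-/

set_option autoImplicit false
set_option linter.unusedSectionVars false

namespace Cfsg.Agent.H84.RU

open Module H27
open scoped MatrixGroups

variable {F V : Type*} [Field F] [AddCommGroup V] [Module F V] {H : Subgroup (V ≃ₗ[F] V)}

/-- Dickson's lemma for two transvections of `V`. -/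
theorem t1_dickson [Finite F] (h2 : (2 : F) ≠ 0) {v w : V} {φ ψ : Dual F V} (h : T1 H v φ)
    (h' : T1 H w ψ) (hv : φ v = 0) (hw : ψ w = 0) (h0 : φ w * ψ v ≠ 0)
    (hex : ¬ ((3 : F) = 0 ∧ (φ w * ψ v) ^ 2 = -1)) {b : F}
    (hb : b ∈ Subfield.closure {φ w * ψ v}) : T1 H v (b • φ) := by
  set l := φ w * ψ v with hl
  set K := Subfield.closure ({l} : Set F)
  have h1 : φ w ≠ 0 := left_ne_zero_of_mul h0
  have h1' : ψ v ≠ 0 := right_ne_zero_of_mul h0
  let ρ : SL(2, K) → V → V := fun A x =>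
    x + (((A 0 0 : F) - 1) * (ψ x / ψ v) + A 0 1 * (φ x / l)) • v +
      ((A 1 0 * (ψ x / ψ v) + ((A 1 1 : F) - 1) * (φ x / l)) * ψ v) • w
  have hρ : ∀ A B x, ρ A (ρ B x) = ρ (A * B) x := fun A B x => by
    simp only [ρ, map_add, map_smul, hv, hw, smul_eq_mul, Matrix.SpecialLinearGroup.coe_mul,
      Matrix.mul_apply, Fin.sum_univ_two, hl]
    push_cast
    match_scalars <;> field_simp <;> ring
  have hρ1 : ∀ x, ρ 1 x = x := fun x => by simp [ρ]
  let S : Subgroup SL(2, K) :=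
    { carrier := {A | Has H (ρ A)}
      mul_mem' := fun hA hB => (Has.comp hA hB).congr (hρ _ _)
      one_mem' := (has_id H).congr fun x => (hρ1 x).symm
      inv_mem' := fun {A} hA => Has.inv hA fun x => by rw [hρ, mul_inv_cancel, hρ1] }
  let l' : K := ⟨l, Subfield.subset_closure rfl⟩
  have hK : Subfield.closure ({l'} : Set K) = ⊤ := by
    refine eq_top_iff.2 fun ⟨a, ha⟩ _ => ?_
    have : K ≤ (Subfield.closure ({l'} : Set K)).map K.subtype :=
      Subfield.closure_le.2 (by rintro _ rfl; exact ⟨l', Subfield.subset_closure rfl, rfl⟩)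
    obtain ⟨c, hc, rfl⟩ := this ha
    exact hc
  have hS : Subgroup.closure {H28.slU K, H28.slV l'} ≤ S := by
    rw [Subgroup.closure_le]
    rintro _ (rfl | rfl)
    · exact Has.congr h' fun x => by simp [ρ, H28.slU, h1']
    · exact Has.congr h fun x => by simp [ρ, H28.slV, l', mul_div_cancel₀ _ h0]
  rcases H28.dickson_lemma (l := l') (fun e => h2 (congrArg Subtype.val e))
    (fun e => h0 (congrArg Subtype.val e)) hK with ⟨e, -⟩ | ⟨e, e', -⟩
  · have : H28.slV (⟨b, hb⟩ * l') ∈ S := hS (e ▸ Subgroup.mem_top _)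
    exact Has.congr this fun x => by
      simp [ρ, H28.slV, l', mul_assoc, mul_div_cancel₀ _ h0]
  · refine absurd ⟨?_, congrArg Subtype.val e'⟩ hex
    have := Fintype.ofFinite K
    have h9 := congrArg Subtype.val (FiniteField.cast_card_eq_zero K)
    rw [← Nat.card_eq_fintype_card, e] at h9
    exact pow_eq_zero_iff two_ne_zero |>.1 (show (3 : F) ^ 2 = 0 by
      have : ((9 : ℕ) : F) = 0 := h9
      rw [← this]; norm_num)

theorem coe_neg_eq : ((LinearEquiv.neg F : V ≃ₗ[F] V) : V →ₗ[F] V) = (-1 : F) • LinearMap.id := by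
  ext; simp

theorem subfield_eq_top {K : Subfield F} (h : K.toSubring = ⊤) : K = ⊤ :=
  eq_top_iff.2 fun a _ => (h ▸ Subring.mem_top a : a ∈ K.toSubring)

theorem Reg.gen2_three_odd [Finite F] {u : V ≃ₗ[F] V} {f : V} (h : Reg u f 3) (h2 : (2 : F) ≠ 0) {x : F} (hx : x ≠ 0) (h4 : x + 4 ≠ 0)
    (h6 : x + 6 ≠ 0)
    (hgen : ((3 : F) ≠ 0 ∧ ∀ M : Subring F, x ^ 2 * (-2 * (x + 6)) ∈ M →
        x ^ 2 * (x * (3 * x + 16)) ∈ M → M = ⊤) ∨
      ((3 : F) = 0 ∧ x ^ 6 ≠ -1 ∧ Subfield.closure {x ^ 3} = ⊤)) : Gen2 F 3 := by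
  have := h.fin
  obtain ⟨χ, hχ⟩ := h.exists_chi (-1) fun j => if j = 0 then x else if j = 1 then -2 else 0
  have c1' : cc u f χ (-1) = x := by simpa using hχ 0 (by omega)
  have c0 : cc u f χ 0 = -2 := by simpa using hχ 1 (by omega)
  have c1 : cc u f χ 1 = 0 := by simpa using hχ 2 (by omega)
  have c2 : cc u f χ 2 = x + 6 := by
    have := h.rel χ (-1)
    simp [Finset.sum_range_succ, c1', c0, c1] at this
    linear_combination this
  have c3 : cc u f χ 3 = 3 * x + 16 := by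
    have := h.rel χ 0
    simp [Finset.sum_range_succ, c2, c0, c1, Nat.choose] at this
    linear_combination this
  have hf : χ f = -2 := by simpa [cc, bb_zero] using c0
  have hd : 1 + χ f ≠ 0 := by rw [hf]; norm_num
  have hg : dil f χ hd * LinearEquiv.neg F ∈ SLV F _ := by
    rw [mem_SLV, det_mul', det_dil, hf, coe_neg_eq, LinearMap.det_smul, h.dim]
    norm_num
  refine h.gen2 hg ?_
  set H := Subgroup.closure {u, dil f χ hd * LinearEquiv.neg F * u *
    (dil f χ hd * LinearEquiv.neg F)⁻¹} with hH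
  have hu : u ∈ H := Subgroup.subset_closure (by simp)
  have hr : Has H fun v => v + XX u χ 0 v • bb u f 0 + XX u χ 1 v • bb u f 1 := by
    refine ⟨_, H.mul_mem (Subgroup.subset_closure (Or.inr rfl)) (H.inv_mem hu), fun v => ?_⟩
    have e : χ (u f) = 0 := c1
    have e' : ∀ w, (LinearEquiv.neg F : V ≃ₗ[F] V)⁻¹ w = -w := fun w => rfl
    simp only [mul_inv_rev, le_mul_apply, e', dil_apply, dil_inv_apply, hf, map_neg, map_sub,
      map_smul, le_apply_inv, LinearEquiv.neg_apply, neg_neg, XX_zero, bb_zero, e, XX_apply, bb,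
      zpow_one, zpow_neg, zpow_zero, le_one_apply, neg_zero]
    norm_num
    module
  have ht : PP H u f χ 1 0 x := (hr.comp hr).congr fun v => by
    simp only [map_add, map_smul, XX_bb, sub_self, sub_zero, zero_sub, c0, c1, c1',
      LinearMap.smul_apply, smul_eq_mul]
    module
  have hall : ∀ a, PP H u f χ 1 0 a := by
    have dk : ∀ (k : ℤ) (a b : F), PP H u f χ 1 0 a →
        x ^ 2 * (cc u f χ (1 - k) * cc u f χ (1 + k)) * a / x ≠ 0 →
        ¬ ((3 : F) = 0 ∧ (x ^ 2 * (cc u f χ (1 - k) * cc u f χ (1 + k)) * a / x) ^ 2 = -1) →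
        b ∈ Subfield.closure {x ^ 2 * (cc u f χ (1 - k) * cc u f χ (1 + k)) * a / x} →
        PP H u f χ 1 0 (b * x) := fun k a b ha => by
      have := t1_dickson h2 ht (ha.shift hu (j' := 1 + k) (i' := k) (by ring)) (by simp [XX_bb, c1])
        (by simp [XX_bb, c1]) (b := b)
      rwa [smul_smul, show (x • XX u χ 0) (bb u f (1 + k)) * (a • XX u χ k) (bb u f 1) =
        x ^ 2 * (cc u f χ (1 - k) * cc u f χ (1 + k)) * a / x by
          simp only [LinearMap.smul_apply, XX_bb, sub_zero, smul_eq_mul]; field_simp] at this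
    rcases hgen with ⟨h3, hgen⟩ | ⟨h3, h6', hgen⟩
    · have key : ∀ k : ℤ, x ^ 2 * (cc u f χ (1 - k) * cc u f χ (1 + k)) ∈
          mult (PP H u f χ 1 0) (pp_zero 1 0) (fun a b ha hb => ha.add hb (by simpa))
            (fun a ha => ha.neg (by simpa)) := fun k a ha => by
        by_cases h0 : x ^ 2 * (cc u f χ (1 - k) * cc u f χ (1 + k)) * a / x = 0
        · rw [(div_eq_zero_iff.1 h0).resolve_right hx]; exact pp_zero 1 0
        · simpa only [div_mul_cancel₀ _ hx] using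
            dk k a _ ha h0 (fun e => h3 e.1) (Subfield.subset_closure rfl)
      have hM := hgen _ (by simpa [c0, c2] using key 1) (by simpa [c1', c3] using key 2)
      intro a
      have : a / x ∈ mult _ _ _ _ := hM ▸ Subring.mem_top _
      simpa only [div_mul_cancel₀ _ hx] using this x ht
    · intro a
      have e : x ^ 2 * (cc u f χ (1 - 1) * cc u f χ (1 + 1)) * x / x = x ^ 3 := by
        rw [sub_self, one_add_one_eq_two, c0, c2, mul_div_cancel_right₀ _ hx]
        linear_combination (-x ^ 3 - 4 * x ^ 2) * h3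
      have := dk 1 x (a / x) ht
      rw [e, div_mul_cancel₀ _ hx] at this
      exact this (pow_ne_zero _ hx) (fun e => h6' (by rw [← e.2]; ring)) (hgen ▸ Subfield.mem_top _)
  refine SLV_le_of_Dset hu h.span_bb 1 fun ψ hψ => ?_
  have d0 : XX u χ 0 ∈ Dset H (bb u f 1) := ⟨by simp [XX_bb, c1], hall⟩
  have d1 : x • XX u χ 1 + (2 : F) • XX u χ 2 ∈ Dset H (bb u f 1) := by
    refine ⟨by simp [XX_bb, c0, c1', mul_comm], fun a => ?_⟩
    obtain ⟨g, hg, e⟩ := ((hall (2 / ((x + 6) * x))).shift hu (j' := 3) (i' := 2) (by ring)).exists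
    have h1 := ((hall (a * x / ((x + 4) ^ 3 / ((x + 6) * x)))).shift hu (j' := 2) (i' := 1)
      (by ring)).conj' hg
    have e1 : g⁻¹ (bb u f 2) = bb u f 2 + (4 / ((x + 6) * x)) • bb u f 3 := by
      apply g.injective
      rw [le_apply_inv, e]
      simp only [map_add, map_smul, LinearMap.smul_apply, XX_bb, smul_eq_mul]
      norm_num [c0, c1]
      match_scalars <;> field_simp <;> ring
    have h3 := T1.comm_left (hall 1) h1 (by
      simp only [LinearMap.comp_apply, LinearEquiv.coe_coe, e, map_add, map_smul,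
        LinearMap.smul_apply, XX_bb, smul_eq_mul]
      norm_num [c0, c1', c2]
      field_simp
      simp) (by simp [XX_bb, c1])
    convert h3 using 1
    ext1 v
    simp only [e1, e, LinearMap.comp_apply, LinearEquiv.coe_coe, map_add, map_smul,
      LinearMap.smul_apply, LinearMap.add_apply, XX_bb, smul_eq_mul]
    norm_num [c2, c3]
    field_simp
    ring
  have hs := h.span_XX (χ := χ) (by
    rw [h.chi_top χ (-1)]
    simp [Finset.sum_range_succ, c0, c1, c1']
    convert h4 using 2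
    norm_num) 2
  have : ψ ∈ Submodule.span F {XX u χ 2, XX u χ 1, XX u χ 0} :=
    Submodule.span_mono (by
      rintro _ ⟨j, hj, rfl⟩
      rw [Set.mem_Iio] at hj
      interval_cases j <;> simp) (hs ▸ Submodule.mem_top)
  obtain ⟨a, b, c, rfl⟩ := Submodule.mem_span_triple.1 this
  simp only [LinearMap.add_apply, LinearMap.smul_apply, XX_bb, smul_eq_mul] at hψ
  norm_num [c0, c1, c1'] at hψ
  convert Submodule.add_mem _ (Submodule.smul_mem _ (a / 2) d1) (Submodule.smul_mem _ c d0) using 1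
  match_scalars
  · field_simp
  · field_simp; linear_combination -hψ
  · simp

theorem Gen2.of_equiv {K : Type*} [Field K] (e : F ≃+* K) {n : ℕ} (h : Gen2 F n) : Gen2 K n := by
  obtain ⟨u, g, ⟨⟨k, hk⟩, hu⟩, h⟩ := h
  have h1 : ∀ k, (((H9.slMapEquiv e u : SL(n, K)) : Matrix (Fin n) (Fin n) K) - 1) ^ k =
      e.mapMatrix (((u : Matrix (Fin n) (Fin n) F) - 1) ^ k) := fun k => by
    rw [map_pow, map_sub, map_one]; rfl
  refine ⟨H9.slMapEquiv e u, H9.slMapEquiv e g, ⟨⟨k, by rw [h1, hk, map_zero]⟩, fun h0 => hu ?_⟩, ?_⟩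
  · rwa [h1, map_eq_zero_iff _ e.mapMatrix.injective] at h0
  · rw [← map_inv, ← map_mul, ← map_mul, ← Set.image_pair, ← MonoidHom.coe_coe,
      ← MonoidHom.map_closure, h, Subgroup.map_equiv_top]

open H29 in
/-- Three by three matrices over the field with four elements. -/
structure M3 where
  (a b c d e f g h i : F4)

namespace M3

open H29

/-- The product of two matrices. -/
def mul (x y : M3) : M3 :=
  ⟨x.a * y.a + x.b * y.d + x.c * y.g, x.a * y.b + x.b * y.e + x.c * y.h,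
    x.a * y.c + x.b * y.f + x.c * y.i, x.d * y.a + x.e * y.d + x.f * y.g,
    x.d * y.b + x.e * y.e + x.f * y.h, x.d * y.c + x.e * y.f + x.f * y.i,
    x.g * y.a + x.h * y.d + x.i * y.g, x.g * y.b + x.h * y.e + x.i * y.h,
    x.g * y.c + x.h * y.f + x.i * y.i⟩

/-- The matrix with the given entries. -/
def toM (x : M3) : Matrix (Fin 3) (Fin 3) F4 := !![x.a, x.b, x.c; x.d, x.e, x.f; x.g, x.h, x.i]

theorem toM_mul (x y : M3) : toM (mul x y) = toM x * toM y := by
  simp [toM, mul, add_assoc]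

/-- The two generators. -/
def gen : ℕ → M3
  | 0 => ⟨.i, .i, .o, .o, .i, .i, .o, .o, .i⟩
  | _ => ⟨.i, .i, .o, .w, .o, .i, .w, .v, .o⟩

/-- The value of a word in the two generators. -/
def ev : List ℕ → M3
  | [] => ⟨.i, .o, .o, .o, .i, .o, .o, .o, .i⟩
  | k :: w => mul (gen k) (ev w)

/-- Words for the elementary transvections. -/
def word : Fin 3 → Fin 3 → F4 → List ℕ
  | 0, 1, .i => [1, 0, 0, 1, 0, 1, 1, 1, 0, 1, 1, 0, 0, 0, 1, 1, 0, 0, 0, 1]
  | 0, 1, .w => [0, 1, 0, 0, 1, 0, 1, 1, 1, 0, 1, 1, 0, 0, 1, 0]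
  | 0, 1, .v => [0, 0, 0, 1, 1, 1, 0, 1, 1, 0, 0, 0, 1, 0]
  | 0, 2, .i => [0, 0]
  | 0, 2, .w => [0, 0, 1, 0, 1, 0, 0, 1, 1, 0, 1, 0, 0, 1, 0, 0, 0, 1, 1, 1]
  | 0, 2, .v => [1, 0, 1, 0, 0, 1, 1, 0, 1, 0, 0, 1, 0, 0, 0, 1, 1, 1]
  | 1, 0, .i => [1, 1, 1, 0, 1, 0, 0, 1, 1, 1, 0, 0, 0, 1]
  | 1, 0, .w => [1, 0, 1, 0, 0, 0, 1, 1, 1, 0, 1, 0, 0, 0, 1, 1]
  | 1, 0, .v => [0, 0, 1, 0, 1, 1, 0, 0, 1, 1]
  | 1, 2, .i => [1, 0, 0, 1, 1, 1, 0, 0, 1, 1, 1, 0, 1, 1, 1, 0, 1, 1, 0, 1]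
  | 1, 2, .w => [0, 1, 1, 0, 1, 1, 0, 0, 1, 0, 1, 1, 0, 1, 1, 0]
  | 1, 2, .v => [0, 0, 1, 0, 0, 0, 1, 1, 0, 1, 1, 1]
  | 2, 0, .i => [0, 0, 1, 1, 0, 1, 1, 0, 1, 1, 1, 0, 1, 0, 0, 0, 1, 1, 1, 0, 1]
  | 2, 0, .w => [0, 0, 0, 1, 0, 0, 1, 1, 0, 1, 1, 0, 1, 1, 0, 1]
  | 2, 0, .v => [0, 0, 1, 0, 0, 0, 1, 1, 0, 0, 1, 0, 0, 0, 1, 1]
  | 2, 1, .i => [0, 0, 0, 1, 1, 1, 0, 0, 1, 1, 1, 0, 0, 1, 0, 0, 1, 0]
  | 2, 1, .w => [0, 0, 1, 0, 0, 1, 1, 0, 1, 0, 0, 0, 1, 0, 0, 1, 0, 0]
  | 2, 1, .v => [0, 1, 0, 0, 0, 1, 1, 1, 0, 1, 0, 1, 1, 0, 0, 1, 1, 0]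
  | _, _, _ => []

theorem ev_word : ∀ (i j : Fin 3) (c : F4), i = j ∨
    toM (ev (word i j c)) = Matrix.transvection i j c := by
  decide +kernel

theorem gen2 : Gen2 F4 3 := by
  let u : SL(3, F4) := ⟨toM (gen 0), by rw [Matrix.det_fin_three]; decide⟩
  let g : SL(3, F4) := ⟨toM ⟨.i, .o, .o, .o, .i, .o, .w, .i, .i⟩,
    by rw [Matrix.det_fin_three]; decide⟩
  have e : ((g * u * g⁻¹ : SL(3, F4)) : Matrix (Fin 3) (Fin 3) F4) = toM (gen 1) := by
    rw [show g⁻¹ = g from inv_eq_of_mul_eq_one_left (Subtype.ext (by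
      change toM _ * toM _ = 1
      rw [← toM_mul]; decide))]
    change toM _ * toM _ * toM _ = _
    rw [← toM_mul, ← toM_mul]; decide
  have e1 : (u : Matrix (Fin 3) (Fin 3) F4) - 1 = toM ⟨.o, .i, .o, .o, .o, .i, .o, .o, .o⟩ := by
    decide
  refine ⟨u, g, ⟨⟨3, ?_⟩, ?_⟩, H9.sl_subgroup_eq_top_of_transvection _ fun i j hij c => ?_⟩
  · rw [e1, pow_three, ← toM_mul, ← toM_mul]; decide
  · rw [e1, sq, ← toM_mul]; decide
  have key : ∀ w, ∃ A ∈ Subgroup.closure {u, g * u * g⁻¹},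
      (A : Matrix (Fin 3) (Fin 3) F4) = toM (ev w) := fun w => by
    induction w with
    | nil => exact ⟨1, one_mem _, by decide⟩
    | cons k w ih =>
      obtain ⟨A, hA, eA⟩ := ih
      rw [ev, toM_mul, ← eA]
      rcases k with _ | k
      · exact ⟨u * A, mul_mem (Subgroup.subset_closure (by simp)) hA, rfl⟩
      · exact ⟨g * u * g⁻¹ * A, mul_mem (Subgroup.subset_closure (by simp)) hA, by
          rw [Matrix.SpecialLinearGroup.coe_mul, e]; rfl⟩
  obtain ⟨A, hA, eA⟩ := key (word i j c)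
  rwa [show Matrix.SpecialLinearGroup.transvection hij c = A from
    Subtype.ext (by rw [eA]; exact ((ev_word i j c).resolve_left hij).symm)]

end M3

theorem eq_top_of_cube [Finite F] (h4 : Nat.card F ≠ 4) {θ : F} (h0 : θ ≠ 0)
    (hθ : ∀ a : F, a ≠ 0 → ∃ k : ℕ, θ ^ k = a) {M : Subring F} (h : θ ^ 3 ∈ M) : M = ⊤ := by
  let K : Subfield F := { M with inv_mem' := fun _ => inv_mem_subring M }
  have := Fintype.ofFinite F
  have := Fintype.ofFinite K
  have h1 : θ ^ (3 * (Fintype.card K - 1)) = 1 := by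
    rw [pow_mul]
    exact congrArg Subtype.val (FiniteField.pow_card_sub_one_eq_one (⟨θ ^ 3, h⟩ : K)
      fun e => pow_ne_zero 3 h0 (congrArg Subtype.val e))
  have h2 := (FiniteField.forall_pow_eq_one_iff F (3 * (Fintype.card K - 1))).1 fun a => by
    obtain ⟨k, hk⟩ := hθ a a.ne_zero
    ext
    rw [Units.val_pow_eq_pow_val, ← hk, ← pow_mul, mul_comm, pow_mul, h1, one_pow, Units.val_one]
  have h3 := Module.card_eq_pow_finrank (K := K) (V := F)
  have h5 : 1 < Fintype.card K := Fintype.one_lt_card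
  have h6 := Nat.le_of_dvd (by omega) h2
  have h7 : finrank K F = 1 := by
    by_contra hc
    have h8 := Nat.pow_le_pow_right h5.le (show 2 ≤ finrank K F by
      have := finrank_pos (R := K) (M := F); omega)
    rw [Nat.card_eq_fintype_card] at h4
    rw [← h3] at h8
    obtain ⟨k, hk⟩ : ∃ k, Fintype.card K = k + 2 := ⟨Fintype.card K - 2, by omega⟩
    rw [hk] at h6 h8
    have h9 : (k + 2) ^ 2 ≤ 3 * k + 4 := by omega
    obtain rfl : k = 0 := by nlinarith
    omega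
  rw [h7, pow_one] at h3
  have := AddSubgroup.eq_top_of_card_eq M.toAddSubgroup (by
    rw [Nat.card_eq_fintype_card (α := F), h3, ← Nat.card_eq_fintype_card]
    rfl)
  exact eq_top_iff.2 fun a _ => (this ▸ AddSubgroup.mem_top a : a ∈ M.toAddSubgroup)

theorem gen2_three [Finite F] : Gen2 F 3 := by
  have := Fintype.ofFinite F
  obtain ⟨θ, h0, hθ⟩ := exists_prim F
  obtain ⟨u, f, hu⟩ := exists_reg F (n := 3) (by omega)
  by_cases h2 : (2 : F) = 0
  · by_cases h4 : Nat.card F = 4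
    · exact M3.gen2.of_equiv (H29.equivF4 (Nat.card_eq_fintype_card.symm.trans h4)).symm
    · exact gen2_extreme (n := 1) h0 le_rfl (Or.inr h2) fun M hM _ =>
        eq_top_of_cube h4 h0 hθ (hM rfl)
  by_cases h3 : (3 : F) = 0
  · have h4 : Nat.card F ≠ 4 := fun e => h2 (by
      have := FiniteField.cast_card_eq_zero F
      rw [← Nat.card_eq_fintype_card, e] at this
      exact pow_eq_zero_iff two_ne_zero |>.1 (show (2 : F) ^ 2 = 0 by rw [← this]; norm_num))
    by_cases h1 : θ = -1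
    · refine hu.gen2_three_odd h2 one_ne_zero (fun e => h2 (by linear_combination e - h3))
        (fun e => one_ne_zero (α := F) (by linear_combination e - 2 * h3))
        (Or.inr ⟨h3, fun e => h2 (by linear_combination e), ?_⟩)
      exact subfield_eq_top (eq_top_of_prim hθ (h1 ▸ neg_mem (one_mem _)))
    · refine hu.gen2_three_odd h2 h0 (fun e => h1 (by linear_combination e - h3))
        (fun e => h0 (by linear_combination e - 2 * h3)) (Or.inr ⟨h3, fun e => ?_,
          subfield_eq_top (eq_top_of_cube h4 h0 hθ (Subfield.subset_closure rfl))⟩)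
      have e1 : θ ^ 2 = -1 := eq_neg_of_add_eq_zero_left (pow_eq_zero_iff three_ne_zero |>.1
        (show (θ ^ 2 + 1) ^ 3 = 0 by linear_combination e + (θ ^ 4 + θ ^ 2) * h3))
      have e2 : θ + 1 ≠ 0 := fun e => h1 (eq_neg_of_add_eq_zero_left e)
      obtain ⟨k, hk⟩ := hθ _ e2
      have e3 : (θ + 1) ^ 4 = 1 := by
        rw [← hk, ← pow_mul, mul_comm, pow_mul, 
          show θ ^ 4 = 1 by linear_combination (θ ^ 2 - 1) * e1, one_pow]
      exact h2 (by linear_combination (θ ^ 2 + 4 * θ + 5) * e1 - e3 - h3)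
  by_cases hp : ∀ M : Subring F, M = ⊤
  · exact hu.gen2_three_odd h2 (x := -3) (neg_ne_zero.2 h3) (by norm_num)
      (fun e => h3 (by linear_combination e)) (Or.inl ⟨h3, fun M _ _ => hp M⟩)
  push Not at hp
  obtain ⟨M₀, hM₀⟩ := hp
  have hn : ∀ a ∈ M₀, θ ≠ a := fun a ha e => hM₀ (eq_top_of_prim hθ (e ▸ ha))
  have key : ∀ x : F, (∀ M : Subring F, x ∈ M → θ ∈ M) → x ^ 2 + 4 * x - 8 ≠ 0 → Gen2 F 3 := by
    intro x hx h8
    have hn : ∀ k : ℤ, x + k ≠ 0 := fun k e =>
      hn θ (hx M₀ (eq_neg_of_add_eq_zero_left e ▸ neg_mem (intCast_mem M₀ k))) rfl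
    have hx0 : x ≠ 0 := by simpa using hn 0
    have hx4 : x + 4 ≠ 0 := by simpa using hn 4
    refine hu.gen2_three_odd h2 hx0 hx4 (by simpa using hn 6) (Or.inl ⟨h3, fun M h h' =>
      eq_top_of_prim hθ (hx M ?_)⟩)
    have hi : ∀ k : ℕ, (k : F) ∈ M := natCast_mem M
    have hP : (x * (x + 4)) ^ 2 ∈ M := by
      convert mul_mem (inv_mem_subring M (hi 3)) (sub_mem h' (mul_mem (hi 4) h)) using 1
      push_cast; field_simp; ring
    have hQ : (x * (x + 8)) ^ 2 ∈ M := by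
      convert sub_mem hP (mul_mem (hi 4) h) using 1
      push_cast; ring
    have hy : x * (x + 4) ∈ M := by
      convert mul_mem (inv_mem_subring M (mul_mem (pow_mem (hi 2) 6) hP))
        (sub_mem (sub_mem (add_mem (pow_mem (add_mem hP hQ) 2) (mul_mem (hi 1024) hP))
          (mul_mem (hi 4) (mul_mem hP hQ))) (mul_mem (hi 256) hQ)) using 1
      push_cast; field_simp; ring
    have hz : x * (x + 8) ∈ M := by
      convert mul_mem (inv_mem_subring M (mul_mem (hi 2) (sub_mem hy (hi 8))))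
        (sub_mem (add_mem hP hQ) (mul_mem (hi 32) hy)) using 1
      have : x * (x + 4) - 8 ≠ 0 := by convert h8 using 1; ring
      push_cast; field_simp; ring
    convert mul_mem (inv_mem_subring M (pow_mem (hi 2) 2)) (sub_mem hz hy) using 1
    push_cast; field_simp; ring
  by_cases h8 : θ ^ 2 + 4 * θ - 8 = 0
  · refine key (θ + 1) (fun M h => by simpa using sub_mem h (one_mem M)) fun e => ?_
    refine hn _ (mul_mem (inv_mem_subring M₀ (natCast_mem M₀ 2)) (intCast_mem M₀ (-5))) ?_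
    push_cast; field_simp
    linear_combination e - h8
  · exact key θ (fun _ h => h) h8

theorem gen2 [Finite F] {n : ℕ} (hn : 3 ≤ n) : Gen2 F n :=
  hn.eq_or_lt.elim (fun e => e ▸ gen2_three) gen2_of_four_le

end Cfsg.Agent.H84.RU
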