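import Cfsg.Agent.H93.AutAct
import Cfsg.Agent.H91.Normal
import Cfsg.Agent.H91.Norm
import Cfsg.Agent.H94.ExtSat
import Cfsg.Agent.H92.GroupFS
import Cfsg.Agent.H19.Huppert
import Cfsg.Agent.H19.Nilp
import Cfsg.Agent.H82.Basic
import Cfsg.Agent.H4.CoprimeAut

/-! Supersoluble fusion systems: chains with cyclic steps. -/

set_option autoImplicit false
set_option linter.style.haveILetI false

namespace Cfsg.Agent.H84

open Subgroup
open scoped commutatorElement

section Group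

variable {G : Type*} [Group G] [Finite G] {p : ℕ} [hp : Fact p.Prime]

/-- An automorphism stabilising `A ≤ B` with `B / A` cyclic acts on `B / A` as a power map. -/
theorem exists_pow_of_step {A B : Subgroup G} [A.Normal] {z : G} (hz : z ∈ B)
    (hB : B ≤ A ⊔ zpowers z) (α : G →* G) (hA : ∀ a ∈ A, α a ∈ A) (hαB : ∀ b ∈ B, α b ∈ B) :
    ∃ k : ℕ, ∀ y ∈ B, QuotientGroup.mk' A (α y) = QuotientGroup.mk' A y ^ k := by
  have key : ∀ y ∈ B, ∃ a ∈ A, ∃ m : ℕ, y = a * z ^ m := fun y hy => by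
    obtain ⟨a, ha, w, hw, rfl⟩ := (mem_sup_of_normal_left).1 (hB hy)
    obtain ⟨m, rfl⟩ := (mem_powers_iff_mem_zpowers).2 hw
    exact ⟨a, ha, m, rfl⟩
  have h1 : ∀ a ∈ A, QuotientGroup.mk' A a = 1 := fun a ha => (QuotientGroup.eq_one_iff a).2 ha
  obtain ⟨a, ha, k, hk⟩ := key _ (hαB z hz)
  refine ⟨k, fun y hy => ?_⟩
  obtain ⟨b, hb, m, rfl⟩ := key y hy
  simp only [map_mul, map_pow, hk, h1 _ (hA b hb), h1 _ ha, h1 _ hb, one_mul, ← pow_mul, mul_comm]

omit [Finite G] hp in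
theorem pow_prime_mem_of_step {A B : Subgroup G} [A.Normal] {z : G} (hzp : z ^ p ∈ A)
    (hB : B ≤ A ⊔ zpowers z) {y : G} (hy : y ∈ B) : QuotientGroup.mk' A y ^ p = 1 := by
  obtain ⟨a, ha, w, ⟨m, rfl⟩, rfl⟩ := (mem_sup_of_normal_left).1 (hB hy)
  have h1 : QuotientGroup.mk' A a = 1 := (QuotientGroup.eq_one_iff a).2 ha
  have h2 : QuotientGroup.mk' A (z ^ p) = 1 := (QuotientGroup.eq_one_iff _).2 hzp
  rw [map_mul, h1, one_mul, map_zpow, ← zpow_natCast, ← zpow_mul, mul_comm, zpow_mul, zpow_natCast,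
    ← map_pow, h2, one_zpow]

omit [Finite G] in
theorem inv_mul_mem_iff {A : Subgroup G} [A.Normal] {x y : G} :
    x⁻¹ * y ∈ A ↔ QuotientGroup.mk' A y = QuotientGroup.mk' A x := by
  rw [← QuotientGroup.eq, eq_comm]; rfl

omit [Finite G] hp in
theorem mk_pow_apply {A B : Subgroup G} [A.Normal] {α : MulAut G} (hαB : ∀ b ∈ B, α b ∈ B) {k : ℕ}
    (hk : ∀ y ∈ B, QuotientGroup.mk' A (α y) = QuotientGroup.mk' A y ^ k) (n : ℕ) :
    ∀ y ∈ B, QuotientGroup.mk' A ((α ^ n) y) = QuotientGroup.mk' A y ^ k ^ n := by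
  induction n with
  | zero => intro y _; simp
  | succ n ih =>
    intro y hy
    rw [pow_succ, MulAut.mul_apply, ih _ (hαB y hy), hk y hy, ← pow_mul, pow_succ']

theorem pow_pow_prime_eq {H : Type*} [Group H] {y : H} (hy : y ^ p = 1) (k v : ℕ) :
    y ^ k ^ p ^ v = y ^ k := by
  rw [pow_eq_pow_iff_modEq]
  refine Nat.ModEq.of_dvd (orderOf_dvd_of_pow_eq_one hy) ?_
  rw [← ZMod.natCast_eq_natCast_iff, Nat.cast_pow, ZMod.pow_card_pow]

/-- A `p`-automorphism acts trivially on a step of order `p`. -/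
theorem step_of_pElt {A B : Subgroup G} [A.Normal] {z : G} (hz : z ∈ B) (hzp : z ^ p ∈ A)
    (hB : B ≤ A ⊔ zpowers z) {α : MulAut G} (hα : ∃ v, α ^ p ^ v = 1) (hA : ∀ a ∈ A, α a ∈ A)
    (hαB : ∀ b ∈ B, α b ∈ B) : ∀ y ∈ B, y⁻¹ * α y ∈ A := by
  obtain ⟨k, hk⟩ := exists_pow_of_step hz hB α.toMonoidHom hA hαB
  obtain ⟨v, hv⟩ := hα
  intro y hy
  have h1 := mk_pow_apply hαB hk (p ^ v) y hy
  rw [hv, MulAut.one_apply, pow_pow_prime_eq (pow_prime_mem_of_step hzp hB hy)] at h1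
  exact inv_mul_mem_iff.2 ((hk y hy).trans h1.symm)

theorem mem_of_chain_coprime (hG : IsPGroup p G) (D : ℕ → Subgroup G) [(D 0).Normal] (n : ℕ)
    {β : MulAut G} (hβ : (orderOf β).Coprime p) (hD : ∀ i ≤ n, ∀ x ∈ D i, β x ∈ D i)
    (hs : ∀ i < n, ∀ x ∈ D (i + 1), x⁻¹ * β x ∈ D i) : ∀ x ∈ D n, x⁻¹ * β x ∈ D 0 := by
  induction n with
  | zero => exact fun x hx => mul_mem (inv_mem hx) (hD 0 le_rfl x hx)
  | succ n ih =>
    intro x hx
    obtain ⟨m, hm, h1⟩ := H93.aut_coset_fixed_elt hβ (hG.to_subgroup (D n))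
      (hD n (Nat.le_succ n)) (hs n (Nat.lt_succ_self n) x hx)
    have h2 := ih (fun i hi => hD i (hi.trans (Nat.le_succ n)))
      (fun i hi => hs i (hi.trans (Nat.lt_succ_self n))) m hm
    have h3 : x⁻¹ * β x = m * (m⁻¹ * β m)⁻¹ * m⁻¹ := by
      rw [map_mul] at h1
      calc x⁻¹ * β x = x⁻¹ * (β x * β m) * (β m)⁻¹ := by group
        _ = _ := by rw [h1]; group
    rw [h3]
    exact (inferInstance : (D 0).Normal).conj_mem _ (inv_mem h2) m

/-- A `p'`-group of automorphisms stabilising a chain with steps of order `p` and faithful on the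
quotient by the bottom of the chain is abelian of exponent dividing `p - 1`. -/
theorem comm_pow_of_chain (hG : IsPGroup p G) (D : ℕ → Subgroup G) (n : ℕ) (hn : D n = ⊤)
    (hN : ∀ i ≤ n, (D i).Normal)
    (hs : ∀ i < n, ∃ z ∈ D (i + 1), z ^ p ∈ D i ∧ D (i + 1) ≤ D i ⊔ zpowers z)
    (H : Subgroup (MulAut G)) (hH : (Nat.card H).Coprime p)
    (hD : ∀ i ≤ n, ∀ α ∈ H, ∀ x ∈ D i, α x ∈ D i)
    (h0 : ∀ α ∈ H, (∀ x, x⁻¹ * α x ∈ D 0) → α = 1) :
    IsMulCommutative H ∧ ∀ h ∈ H, h ^ (p - 1) = 1 := by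
  haveI := hN 0 (Nat.zero_le n)
  have key : ∀ β ∈ H, (∀ i < n, ∀ x ∈ D (i + 1), x⁻¹ * β x ∈ D i) → β = 1 := fun β hβ h =>
    h0 β hβ fun x => mem_of_chain_coprime hG D n
      (hH.coprime_dvd_left (orderOf_dvd_natCard H hβ)) (fun i hi => hD i hi β hβ) h x
      (hn ▸ mem_top x)
  refine ⟨⟨⟨fun ⟨a, ha⟩ ⟨b, hb⟩ => Subtype.ext ?_⟩⟩, fun a ha => key _ (pow_mem ha _) ?_⟩
  · refine commutatorElement_eq_one_iff_mul_comm.1 (key _
      (mul_mem (mul_mem (mul_mem ha hb) (inv_mem ha)) (inv_mem hb)) fun i hi x hx => ?_)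
    haveI := hN i hi.le
    obtain ⟨z, hz, -, hB⟩ := hs i hi
    obtain ⟨k, hk⟩ := exists_pow_of_step hz hB a.toMonoidHom (hD i hi.le a ha) (hD _ hi a ha)
    obtain ⟨l, hl⟩ := exists_pow_of_step hz hB b.toMonoidHom (hD i hi.le b hb) (hD _ hi b hb)
    have hw : a⁻¹ (b⁻¹ x) ∈ D (i + 1) := hD _ hi _ (inv_mem ha) _ (hD _ hi _ (inv_mem hb) _ hx)
    have h1 : x = b (a (a⁻¹ (b⁻¹ x))) := by simp
    rw [inv_mul_mem_iff]
    conv_rhs => rw [h1]
    refine (hk _ (hD _ hi _ hb _ hw)).trans (Eq.trans ?_ (hl _ (hD _ hi _ ha _ hw)).symm)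
    rw [show QuotientGroup.mk' (D i) (b _) = _ from hl _ hw,
      show QuotientGroup.mk' (D i) (a _) = _ from hk _ hw, ← pow_mul, ← pow_mul, mul_comm]
  · intro i hi x hx
    haveI := hN i hi.le
    obtain ⟨z, hz, hzp, hB⟩ := hs i hi
    obtain ⟨k, hk⟩ := exists_pow_of_step hz hB a.toMonoidHom (hD i hi.le a ha) (hD _ hi a ha)
    rw [inv_mul_mem_iff, mk_pow_apply (hD _ hi a ha) hk _ x hx]
    have h1 := pow_prime_mem_of_step hzp hB hx
    by_cases h2 : p ∣ k
    · have hw : a⁻¹ x ∈ D (i + 1) := hD _ hi _ (inv_mem ha) _ hx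
      have h3 := hk _ hw
      obtain ⟨c, rfl⟩ := h2
      rw [pow_mul, pow_prime_mem_of_step hzp hB hw, one_pow] at h3
      have h4 : QuotientGroup.mk' (D i) x = 1 := by simpa using h3
      rw [h4, one_pow]
    · conv_rhs => rw [← pow_one (QuotientGroup.mk' (D i) x)]
      rw [pow_eq_pow_iff_modEq]
      refine Nat.ModEq.of_dvd (orderOf_dvd_of_pow_eq_one h1) ?_
      rw [← Nat.totient_prime hp.out]
      exact Nat.ModEq.pow_totient ((Nat.Prime.coprime_iff_not_dvd hp.out).2 h2).symm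

theorem mulAut_eq_one_of_frattini (hG : IsPGroup p G) {α : MulAut G} (hα : (orderOf α).Coprime p)
    (h : ∀ x, x⁻¹ * α x ∈ frattini G) : α = 1 := by
  have h1 : H4.fixedBy α = ⊤ := frattini_nongenerating (eq_top_iff.2 fun x _ => by
    obtain ⟨m, hm, h1⟩ := H93.aut_coset_fixed_elt hα (hG.to_subgroup (frattini G))
      (fun n hn => (characteristic_iff_map_le.1 inferInstance) α ⟨n, hn, rfl⟩) (h x)
    simpa using mul_mem_sup (H4.mem_fixedBy.2 h1) (inv_mem hm))
  ext x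
  exact H4.mem_fixedBy.1 (h1 ▸ mem_top x)

/-- Frattini version: a chain from `Φ(G)` to `G`. -/
theorem comm_pow_of_frattini_chain (hG : IsPGroup p G) (D : ℕ → Subgroup G) (n : ℕ)
    (h0 : D 0 = frattini G) (hn : D n = ⊤) (hle : ∀ i, frattini G ≤ D i)
    (hs : ∀ i < n, ∃ z ∈ D (i + 1), D (i + 1) ≤ D i ⊔ zpowers z)
    (hD : ∀ i, ∀ α : MulAut G, ∀ x ∈ D i, α x ∈ D i)
    (H : Subgroup (MulAut G)) (hH : (Nat.card H).Coprime p) :
    IsMulCommutative H ∧ ∀ h ∈ H, h ^ (p - 1) = 1 := by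
  refine comm_pow_of_chain hG D n hn (fun i _ => ⟨fun x hx g => hD i (MulAut.conj g) x hx⟩)
    (fun i hi => ?_) H hH (fun i _ α _ => hD i α) fun α hα h =>
      mulAut_eq_one_of_frattini hG (hH.coprime_dvd_left (orderOf_dvd_natCard H hα)) (h0 ▸ h)
  obtain ⟨z, hz, h⟩ := hs i hi
  exact ⟨z, hz, hle i (H3.pow_mem_frattini hG z), h⟩

universe u

theorem cycChain_of_quotient_aux (n : ℕ) : ∀ (Γ : Type u) [Group Γ] [Finite Γ] (K : Subgroup Γ)
    [K.Normal], Nat.card Γ = n → IsPGroup p K → (∀ a b : Γ, ⁅a, b⁆ ∈ K) →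
    (∀ a : Γ, a ^ (p - 1) ∈ K) → H19.CycChain K := by
  induction n using Nat.strong_induction_on with
  | _ n ih =>
  intro Γ _ _ K _ hn hK h1 h2
  by_cases h0 : K = ⊥
  · rw [h0]; exact .bot
  obtain ⟨M, hM, hM0, hMK, hmin⟩ := H19.exists_minimal_normal_le K h0
  have hMp := hK.to_le hMK
  haveI := hMp.isNilpotent
  haveI := H19.minimal_normal_comm M inferInstance hM0 hmin
  obtain ⟨q, hq, hqd, hq'⟩ := H19.minimal_normal_pow_prime M hM0 hmin
  obtain rfl : q = p := by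
    obtain ⟨k, hk⟩ := hMp.exists_card_eq
    exact (Nat.prime_dvd_prime_iff_eq hq hp.out).1 (hq.dvd_of_dvd_pow (hk ▸ hqd))
  have hc := H19.nilpotent_le_centralizer_minimal_normal (F := K) hK.isNilpotent hmin
  haveI := H19.isCyclic_of_minimal_normal M ⟨inferInstance, hq'⟩ hmin (fun a b => hc (h1 a b))
    fun a => hc (h2 a)
  have hs := QuotientGroup.mk'_surjective M
  haveI : (K.map (QuotientGroup.mk' M)).Normal := Normal.map inferInstance _ hs
  have h3 := ih _ (hn ▸ H19.card_quotient_lt hM0) (Γ ⧸ M) (K.map (QuotientGroup.mk' M)) rfl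
    (hK.map _) (fun a b => by
      obtain ⟨a, rfl⟩ := hs a
      obtain ⟨b, rfl⟩ := hs b
      rw [← map_commutatorElement]; exact mem_map_of_mem _ (h1 a b)) fun a => by
      obtain ⟨a, rfl⟩ := hs a
      rw [← map_pow]; exact mem_map_of_mem _ (h2 a)
  have h4 := H19.CycChain.comap (QuotientGroup.mk' M) (by
    rw [QuotientGroup.ker_mk']; exact .of_isCyclic M) h3
  rwa [comap_map_eq, QuotientGroup.ker_mk', sup_eq_left.2 hMK] at h4

/-- An invariant chain with cyclic steps for an abelian group of automorphisms of exponent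
dividing `p - 1`. -/
theorem exists_invariant_chain (hG : IsPGroup p G) (H : Subgroup (MulAut G))
    (h1 : IsMulCommutative H) (h2 : ∀ h ∈ H, h ^ (p - 1) = 1) :
    ∃ (m : ℕ) (c : Fin (m + 1) → Subgroup G), c 0 = ⊥ ∧ c (Fin.last m) = ⊤ ∧ (∀ i, (c i).Normal) ∧
      (∀ i, ∀ α ∈ H, ∀ x ∈ c i, α x ∈ c i) ∧
      ∀ i : Fin m, ∃ x, c i.succ = c i.castSucc ⊔ zpowers x := by
  haveI : Finite (G ⋊[H.subtype] H) := Finite.of_equiv _ SemidirectProduct.equivProd.symm
  let ι : G →* G ⋊[H.subtype] H := SemidirectProduct.inl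
  have hι : Function.Injective ι := SemidirectProduct.inl_injective
  have hK : ι.range = SemidirectProduct.rightHom.ker := SemidirectProduct.range_inl_eq_ker_rightHom
  haveI : ι.range.Normal := by rw [hK]; infer_instance
  obtain ⟨m, c, c0, cl, cn, cs⟩ := (cycChain_of_quotient_aux (p := p) _ _ ι.range rfl
    (hG.of_equiv (MonoidHom.ofInjective hι)) (fun a b => by
      rw [hK, MonoidHom.mem_ker, map_commutatorElement, commutatorElement_eq_one_iff_mul_comm]
      exact h1.is_comm.comm _ _) fun a => by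
      rw [hK, MonoidHom.mem_ker, map_pow]
      exact Subtype.ext (h2 _ (SemidirectProduct.rightHom a).2)).exists_chain
  have hmono : Monotone c := Fin.monotone_iff_le_succ.2 fun i => by
    obtain ⟨g, hg⟩ := cs i
    rw [hg]; exact le_sup_left
  have hle : ∀ i, c i ≤ ι.range := fun i => cl ▸ hmono (Fin.le_last i)
  refine ⟨m, fun i => (c i).comap ι, ?_, ?_, fun i => (cn i).comap ι, fun i α hα x hx => ?_,
    fun i => ?_⟩
  · simp only [c0]
    exact (MonoidHom.ker_eq_bot_iff ι).2 hι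
  · simp only [cl]
    exact eq_top_iff.2 fun x _ => ⟨x, rfl⟩
  · have := (cn i).conj_mem _ hx (SemidirectProduct.inr ⟨α, hα⟩)
    rwa [← map_inv, ← SemidirectProduct.inl_aut] at this
  · obtain ⟨g, hg⟩ := cs i
    obtain ⟨x, rfl⟩ := hle i.succ (hg ▸ mem_sup_right (mem_zpowers g))
    refine ⟨x, ?_⟩
    simp only [hg]
    rw [← MonoidHom.map_zpowers, ← comap_sup_eq_of_le_range ι (hle _) (map_le_range _ _),
      comap_map_eq_self_of_injective hι]

end Group

section Fusion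

open Cfsg.FusionSystem Cfsg.Agent.H91

variable {Ω : Type*} [Group Ω] {S : Subgroup Ω} {F : FusionSystem S} {p : ℕ}

/-- Supersoluble fusion systems. -/
def Sup (F : FusionSystem S) : Prop :=
  ∃ (m : ℕ) (c : Fin (m + 1) → Subgroup Ω), c 0 = ⊥ ∧ c (Fin.last m) = S ∧
    (∀ i : Fin (m + 1), F.StronglyClosed (c i)) ∧
    ∀ i : Fin m, c i.castSucc ≤ c i.succ ∧ ∃ x ∈ S, c i.succ = c i.castSucc ⊔ Subgroup.zpowers x

theorem subgroupOf_sup_zpowers {A : Subgroup Ω} (hA : A ≤ S) {z : Ω} (hz : z ∈ S) :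
    (A ⊔ zpowers z).subgroupOf S = A.subgroupOf S ⊔ zpowers (⟨z, hz⟩ : S) := by
  rw [subgroupOf_sup hA (zpowers_le.2 hz)]
  congr 1
  apply map_injective S.subtype_injective
  rw [subgroupOf_map_subtype, MonoidHom.map_zpowers, inf_eq_left.2 (zpowers_le.2 hz)]
  rfl

theorem normal_subgroupOf_of_sc {A : Subgroup Ω} (hA : F.StronglyClosed A) :
    (A.subgroupOf S).Normal :=
  normal_subgroupOf_of_le_normalizer (le_normalizer_of_stronglyClosed hA)

theorem sc_between [Finite S] {A E : Subgroup Ω} {x : Ω} (hx : x ∈ S) (hA : F.StronglyClosed A)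
    (hB : F.StronglyClosed (A ⊔ zpowers x)) (hAE : A ≤ E) (hE : E ≤ A ⊔ zpowers x) :
    F.StronglyClosed E := by
  refine stronglyClosed_iff.2 ⟨hE.trans hB.1, fun P f hf y hy hyE => ?_⟩
  haveI := normal_subgroupOf_of_sc hA
  let π := QuotientGroup.mk' (A.subgroupOf S)
  have h1 : ∀ w : S, (w : Ω) ∈ A ⊔ zpowers x → π w ∈ zpowers (π ⟨x, hx⟩) := fun w hw => by
    have h2 : w ∈ (A ⊔ zpowers x).subgroupOf S := hw
    rw [subgroupOf_sup_zpowers hA.1 hx] at h2
    have h3 := mem_map_of_mem π h2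
    rwa [Subgroup.map_sup, QuotientGroup.map_mk'_self, bot_sup_eq, MonoidHom.map_zpowers] at h3
  obtain ⟨k, hk⟩ := H82.mem_zpowers_of_orderOf_dvd (h1 ⟨f y, hf.mem hy⟩
    (hf.mem_of_stronglyClosed hB hy (hE hyE))) (h1 ⟨y, hf.le hy⟩ (hE hyE)) (by
      refine orderOf_dvd_of_pow_eq_one ?_
      have h2 := pow_orderOf_eq_one (π ⟨y, hf.le hy⟩)
      rw [← map_pow] at h2 ⊢
      have h3 : y ^ orderOf (π ⟨y, hf.le hy⟩) ∈ A :=
        (QuotientGroup.eq_one_iff (N := A.subgroupOf S) _).1 h2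
      have h4 := hf.mem_of_stronglyClosed hA (pow_mem hy _) h3
      rw [hf.homOn.map_pow hy] at h4
      exact (QuotientGroup.eq_one_iff _).2 h4)
  simp only [← map_zpow] at hk
  have h2 : (y ^ k)⁻¹ * f y ∈ A := (inv_mul_mem_iff (A := A.subgroupOf S)).2 hk.symm
  simpa using mul_mem (zpow_mem hyE k) (hAE h2)

/-- Chains of strongly closed subgroups with steps of order `p`. -/
def PCh (F : FusionSystem S) (p : ℕ) (T : Subgroup Ω) : Prop :=
  ∃ (n : ℕ) (D : ℕ → Subgroup Ω), D 0 = ⊥ ∧ D n = T ∧ (∀ i ≤ n, F.StronglyClosed (D i)) ∧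
    ∀ i < n, ∃ z ∈ S, z ^ p ∈ D i ∧ D (i + 1) = D i ⊔ zpowers z

theorem PCh.step {A : Subgroup Ω} (h : PCh F p A) {z : Ω} (hz : z ∈ S) (hzp : z ^ p ∈ A)
    (hB : F.StronglyClosed (A ⊔ zpowers z)) : PCh F p (A ⊔ zpowers z) := by
  obtain ⟨n, D, h0, hn, h1, h2⟩ := h
  refine ⟨n + 1, fun i => if i ≤ n then D i else A ⊔ zpowers z, by simp [h0], by simp,
    fun i hi => ?_, fun i hi => ?_⟩
  · by_cases h : i ≤ n
    · simp only [if_pos h]; exact h1 i h
    · simp only [if_neg h]; exact hB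
  · rcases (Nat.lt_succ_iff.1 hi).lt_or_eq with h | rfl
    · simp only [if_pos h.le, if_pos (Nat.succ_le_of_lt h)]; exact h2 i h
    · simp only [le_refl, if_true, Nat.not_succ_le_self, if_false, hn]
      exact ⟨z, hz, hzp, rfl⟩

theorem Sup.pch [Finite S] [Fact p.Prime] (hS : IsPGroup p S) (h : Sup F) : PCh F p S := by
  obtain ⟨m, c, c0, cl, h1, h2⟩ := h
  suffices ∀ i, PCh F p (c i) by
    have h := this (Fin.last m)
    rwa [cl] at h
  intro i
  induction i using Fin.induction with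
  | zero => exact ⟨0, fun _ => ⊥, rfl, c0.symm, fun _ _ => stronglyClosed_bot F, by simp⟩
  | succ i ih =>
    obtain ⟨-, x, hx, e⟩ := h2 i
    have h3 := h1 i.succ
    rw [e] at h3 ⊢
    have key : ∀ (k : ℕ), ∀ y ∈ zpowers x, y ^ p ^ k = 1 → PCh F p (c i.castSucc ⊔ zpowers y) := by
      intro k
      induction k with
      | zero =>
        intro y _ hy
        rw [pow_zero, pow_one] at hy
        rw [hy, zpowers_one_eq_bot, sup_bot_eq]; exact ih
      | succ k ihk =>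
        intro y hy hyk
        have h4 : c i.castSucc ⊔ zpowers y = (c i.castSucc ⊔ zpowers (y ^ p)) ⊔ zpowers y := by
          rw [sup_assoc, sup_eq_right.2 (zpowers_le.2 (pow_mem (mem_zpowers y) p))]
        have h5 := sc_between hx (h1 _) h3 (E := c i.castSucc ⊔ zpowers y) le_sup_left
          (sup_le_sup_left (zpowers_le.2 hy) _)
        rw [h4] at h5 ⊢
        exact (ihk _ (pow_mem hy p) (by rw [← pow_mul, ← pow_succ', hyk])).step
          (zpowers_le.2 hx hy) (mem_sup_right (mem_zpowers _)) h5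
    obtain ⟨k, hk⟩ := pow_eq_one_of_mem_isPGroup hS hx
    exact key k x (mem_zpowers x) hk

variable [Finite S] [hp : Fact p.Prime] (hS : IsPGroup p S) (hF : F.IsSaturated p)
include hS hF

theorem Sup.normal (h : Sup F) : F.IsNormal S := by
  obtain ⟨n, D, h0, hn, h1, h2⟩ := h.pch hS
  refine normal_of_chain hS hF D n h1 h0 hn fun i hi => commutator_le.2 fun s hs y hy => ?_
  obtain ⟨z, hz, hzp, e⟩ := h2 i hi
  haveI := normal_subgroupOf_of_sc (h1 i hi.le)
  haveI hN := normal_subgroupOf_of_sc (h1 _ hi)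
  have h3 := step_of_pElt (p := p) (A := (D i).subgroupOf S) (B := (D (i + 1)).subgroupOf S)
    (z := ⟨z, hz⟩) (by rw [mem_subgroupOf, e]; exact mem_sup_right (mem_zpowers z)) hzp
    (by rw [e, subgroupOf_sup_zpowers (h1 i hi.le).1 hz]) (α := MulAut.conj ⟨s, hs⟩)
    (by obtain ⟨v, hv⟩ := hS ⟨s, hs⟩; exact ⟨v, by rw [← map_pow, hv, map_one]⟩)
    (fun a ha => Normal.conj_mem inferInstance a ha _) (fun a ha => hN.conj_mem a ha _)
    ⟨y, (h1 _ hi).1 hy⟩ hy
  have h4 := conj_mem_of_stronglyClosed (h1 i hi.le) ((h1 _ hi).1 hy) h3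
  simpa [commutatorElement_def, mul_assoc] using h4

omit hF in
theorem Sup.comm_pow (h : Sup F) (H : Subgroup (MulAut S)) (hle : H ≤ F.autGroup S)
    (hH : (Nat.card H).Coprime p) : IsMulCommutative H ∧ ∀ h ∈ H, h ^ (p - 1) = 1 := by
  obtain ⟨n, D, h0, hn, h1, h2⟩ := h.pch hS
  refine comm_pow_of_chain hS (fun i => (D i).subgroupOf S) n (by simp [hn])
    (fun i hi => normal_subgroupOf_of_sc (h1 i hi)) (fun i hi => ?_) H hH
    (fun i hi α hα x hx => ?_) fun α _ h => MulEquiv.ext fun x => ?_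
  · obtain ⟨z, hz, hzp, e⟩ := h2 i hi
    exact ⟨⟨z, hz⟩, by rw [mem_subgroupOf, e]; exact mem_sup_right (mem_zpowers z), hzp,
      by rw [e, subgroupOf_sup_zpowers (h1 i hi.le).1 hz]⟩
  · have := ((mem_autGroup_iff le_rfl).1 (hle hα)).mem_of_stronglyClosed (h1 i hi) x.2 hx
    rwa [efn_coe] at this
  · have := h x
    rw [h0, bot_subgroupOf, mem_bot, inv_mul_eq_one] at this
    exact this.symm

theorem sup_of_normal (hN : F.IsNormal S) (h : ∀ H : Subgroup (MulAut S), H ≤ F.autGroup S →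
    (Nat.card H).Coprime p → IsMulCommutative H ∧ ∀ h ∈ H, h ^ (p - 1) = 1) : Sup F := by
  haveI := finite_autGroup F (le_refl S)
  have h1 := sat_sylIn hS hF (isFullyNormalized_top F)
  rw [autInducedBy_self] at h1
  haveI := inn_subgroupOf_normal F S
  have hI : IsPGroup p ((Inn S).subgroupOf (F.autGroup S)) := (isPGroup_Inn hS).comap_subtype
  obtain ⟨k, hk⟩ := hI.exists_card_eq
  have hc : (Nat.card ((Inn S).subgroupOf (F.autGroup S))).Coprime
      ((Inn S).subgroupOf (F.autGroup S)).index := by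
    rw [hk]
    exact ((Nat.Prime.coprime_iff_not_dvd hp.out).2 h1.not_dvd).pow_left k
  obtain ⟨K, hK⟩ := exists_right_complement'_of_coprime hc
  obtain ⟨h2, h3⟩ := h (K.map (F.autGroup S).subtype) (map_subtype_le _) (by
    rw [card_map_of_injective (subtype_injective _), ← hK.symm.index_eq_card]
    exact ((Nat.Prime.coprime_iff_not_dvd hp.out).2 h1.not_dvd).symm)
  obtain ⟨m, c, c0, cl, cn, ci, cs⟩ := exists_invariant_chain hS _ h2 h3
  refine ⟨m, fun i => (c i).map S.subtype, by simp [c0], by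
    simp only [cl]; rw [← MonoidHom.range_eq_map, range_subtype], fun i => ?_, fun i => ?_⟩
  · refine stronglyClosed_iff.2 ⟨map_subtype_le _, fun P f hf x hx => ?_⟩
    rintro ⟨y, hy, rfl⟩
    obtain ⟨α, hα, e⟩ := normal_extend_aut hN hf.le hf
    obtain ⟨⟨⟨a, ha⟩, b⟩, hab⟩ := (hK.existsUnique ⟨α, hα⟩).exists
    have h4 : α = (a : MulAut S) * ((b : F.autGroup S) : MulAut S) :=
      (congrArg Subtype.val hab).symm
    obtain ⟨g, hg, e'⟩ := mem_Inn_iff.1 ha
    refine ⟨_, (cn i).conj_mem _ (ci i _ ⟨b, b.2, rfl⟩ y hy) ⟨g, hg⟩, ?_⟩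
    rw [← e _ hx]
    refine Eq.trans ?_ (efn_coe α y).symm
    rw [h4, MulAut.mul_apply]
    exact (e' _).symm
  · obtain ⟨x, hx⟩ := cs i
    simp only [hx, Subgroup.map_sup, MonoidHom.map_zpowers]
    exact ⟨le_sup_left, x, x.2, rfl⟩

omit hF in
theorem exists_saturated_aut (H : Subgroup (MulAut S)) (hH : (Nat.card H).Coprime p) :
    ∃ F : FusionSystem S, F.IsSaturated p ∧ H ≤ F.autGroup S := by
  have h1 : H94.AInv (innerFusionSystem S) H := fun a _ P f hf => by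
    obtain ⟨hP, g, hg, e⟩ := M_inner_iff.1 hf
    refine M_inner_iff.2 ⟨H94.im_efn_le a hP, efn a g, efn_mem a hg, fun y hy => ?_⟩
    have h2 := H94.efn_inv_mem_of_mem_im a hP hy
    rw [e _ h2, (homOn_efn a).map_conj hg (hP h2), efn_efn_inv a (H94.im_efn_le a hP hy)]
  refine ⟨H94.extFS h1, H94.extFS_saturated (H92.saturated_inner hS) hS h1 fun a ha =>
    ⟨Nat.card H, hH, ?_⟩, fun a ha => ((H94.M_extFS h1).2 (H94.AM.of_mem _ ha)).mem_autGroup⟩
  rw [H19.pow_card_eq_one_of_mem ha]; exact one_mem _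

omit hF in
theorem supType_iff : (∀ F : FusionSystem S, F.IsSaturated p → Sup F) ↔
    (∀ F : FusionSystem S, F.IsSaturated p → F.IsNormal S) ∧ ∀ H : Subgroup (MulAut S),
      (Nat.card H).Coprime p → IsMulCommutative H ∧ ∀ h ∈ H, h ^ (p - 1) = 1 := by
  refine ⟨fun h => ⟨fun F hF => (h F hF).normal hS hF, fun H hH => ?_⟩,
    fun h F hF => sup_of_normal hS hF (h.1 F hF) fun H _ hH => h.2 H hH⟩
  obtain ⟨F, hF, hle⟩ := exists_saturated_aut hS H hH
  exact (h F hF).comm_pow hS H hle hH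

end Fusion

end Cfsg.Agent.H84
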