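import Cfsg.Agent.H84.XE3
import Cfsg.Agent.S0205

/-! The induction. -/

set_option autoImplicit false
set_option linter.unusedSectionVars false
set_option linter.unusedVariables false

namespace Cfsg.Agent.H84.XE

open Finset
open scoped commutatorElement

variable {E G A : Type*} [Group E] [Finite E] [Group G] [Finite G] [MulDistribMulAction G E]
  [Ring A] [Algebra ℂ A] {z : E} {ρ : E →* A} {τ : A →ₗ[ℂ] ℂ} {al : G → A →ₐ[ℂ] A}

theorem comm_lt {K : Subgroup G} (hK : Odd (Nat.card K)) (h : K ≠ ⊥) : ⁅K, K⁆ < K := by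
  haveI := S0205.result hK
  rw [← Subgroup.nontrivial_iff_ne_bot] at h
  rw [← K.range_subtype, MonoidHom.range_eq_map, ← Subgroup.map_commutator,
    Subgroup.map_subtype_lt_map_subtype]
  exact Group.IsSolvable.commutator_lt_top_of_nontrivial K

theorem conj_comm {K : Subgroup G} {g : G} (h : ∀ k ∈ K, g * k * g⁻¹ ∈ K) :
    ∀ k ∈ ⁅K, K⁆, g * k * g⁻¹ ∈ ⁅K, K⁆ := fun k hk => by
  have e : K.map (MulAut.conj g).toMonoidHom ≤ K := by rintro _ ⟨x, hx, rfl⟩; exact h x hx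
  have := Subgroup.mem_map_of_mem (MulAut.conj g).toMonoidHom hk
  rw [Subgroup.map_commutator] at this
  exact Subgroup.commutator_mono e e this

theorem exists_index_two {R : Type*} [Group R] [Finite R] (hR : IsPGroup 2 R) {N : Subgroup R}
    (hN : N ≠ ⊤) : ∃ M : Subgroup R, N ≤ M ∧ M.index = 2 := by
  obtain ⟨k, hk⟩ := hR.exists_card_eq
  obtain ⟨n, hn⟩ := (hR.to_subgroup N).exists_card_eq
  have h1 : Nat.card N < Nat.card R := lt_of_le_of_ne N.card_le_card_group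
    fun e => hN (Subgroup.eq_top_of_card_eq N e)
  rw [hk, hn, Nat.pow_lt_pow_iff_right one_lt_two] at h1
  obtain ⟨k, rfl⟩ : ∃ j, k = j + 1 := ⟨k - 1, by omega⟩
  obtain ⟨M, h2, h3⟩ := Sylow.exists_subgroup_card_pow_prime_le 2 (m := k)
    (hk ▸ pow_dvd_pow 2 k.le_succ) N hn (by omega)
  refine ⟨M, h3, ?_⟩
  have := M.card_mul_index
  rw [h2, hk, pow_succ] at this
  exact mul_left_cancel₀ (by positivity) this

theorem St_cen {L : Subgroup G} {F D : Subgroup E} (h : L ≤ St G F) (h' : L ≤ St G D) :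
    L ≤ St G (F ⊓ Subgroup.centralizer D) :=
  le_St fun g hg x hx => ⟨St.mem (h hg) hx.1, fun y hy => by
    rw [← sg_eq_one, ← sg_smul g⁻¹, inv_smul_smul, sg_eq_one]
    exact hx.2 _ (St.mem (h' (inv_mem hg)) hy)⟩

theorem card_lt {F D : Subgroup E} (h : D < F) : Nat.card D < Nat.card F :=
  lt_of_le_of_ne (Subgroup.card_le_of_le h.le) fun e => h.ne (Subgroup.eq_of_le_of_card_ge h.le e.ge)

theorem Top.main (h : Top z ρ τ al) (n : ℕ) : ∀ (F : Subgroup E) (K R : Subgroup G),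
    Nat.card F + Nat.card K < n → Nd z F → Odd (Nat.card K) → IsPGroup 2 R →
    (∀ r ∈ R, ∀ k ∈ K, r * k * r⁻¹ ∈ K) → K ≤ St G F → R ≤ St G F → (∀ x ∈ Fx K F, Zc z x) →
    ∃ U, LinD ρ F R U := by
  classical
  induction n with
  | zero => intro _ _ _ h; omega
  | succ n ih =>
  intro F K R hn a hK hR RK KF RF hfx
  by_cases hZ : ∀ x ∈ F, Zc z x
  · exact ⟨fun _ => 1, rfl, by simp, fun r _ => ⟨Sp_one _, fun f hf => by simp [h.fixZ r (hZ f hf)]⟩⟩
  by_cases ha : ∃ D < F, Nd z D ∧ K ≤ St G D ∧ R ≤ St G D ∧ ¬ ∀ x ∈ D, Zc z x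
  · obtain ⟨D, DF, b, KD, RD, hD⟩ := ha
    obtain ⟨e, c⟩ := b.split h.toCz a DF.le
    have l1 := card_lt DF
    have l2 : F ⊓ Subgroup.centralizer D < F := lt_of_le_of_ne inf_le_left fun e' =>
      hD fun x hx => b.2 x hx fun y hy => ((e'.ge (DF.le hx)).2 y hy).symm
    have l3 := card_lt l2
    obtain ⟨U, hU⟩ := ih D K R (by omega) b hK hR RK KD RD fun x hx => hfx x ⟨DF.le hx.1, hx.2⟩
    obtain ⟨W, hW⟩ := ih _ K R (by omega) c hK hR RK (St_cen KF KD) (St_cen RF RD)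
      fun x hx => hfx x ⟨hx.1.1, hx.2⟩
    exact ⟨_, e ▸ hU.prod h.toCz hW b.1 (fun x hx y hy => hy.2 x hx) (St_cen RF RD)⟩
  have ha' : ∀ D ≤ F, Nd z D → K ≤ St G D → R ≤ St G D → (¬ ∀ x ∈ D, Zc z x) → D = F :=
    fun D h1 h2 h3 h4 h5 => by_contra fun e => ha ⟨D, lt_of_le_of_ne h1 e, h2, h3, h4, h5⟩
  have od : ∀ B ≤ K, Odd (Nat.card B) := fun B hB => hK.of_dvd_nat (Subgroup.card_dvd_of_le hB)
  by_cases hc : ∃ K1 < K, (∀ r ∈ R, ∀ k ∈ K1, r * k * r⁻¹ ∈ K1) ∧ ∀ x ∈ Fx K1 F, Zc z x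
  · obtain ⟨K1, l1, h1, h2⟩ := hc
    have := card_lt l1
    exact ih F K1 R (by omega) a (od _ l1.le) hR h1 (l1.le.trans KF) RF h2
  have hc' : ∀ K1 < K, (∀ r ∈ K, ∀ k ∈ K1, r * k * r⁻¹ ∈ K1) → (∀ r ∈ R, ∀ k ∈ K1, r * k * r⁻¹ ∈ K1) →
      Fx K1 F = F := fun K1 l1 h1 h2 =>
    ha' _ (fun x hx => hx.1) (h.nd_Fx a (od _ l1.le) (l1.le.trans KF)) (St_Fx KF h1) (St_Fx RF h2)
      fun k => hc ⟨K1, l1, h2, k⟩
  have f0 : ¬ ∀ x ∈ Fx (⊥ : Subgroup G) F, Zc z x := fun k => hZ fun x hx =>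
    k x ⟨hx, fun b hb => by rw [Subgroup.mem_bot.1 hb, one_smul]⟩
  have hK' := hc' _ (comm_lt hK fun e => f0 (e ▸ hfx))
    (fun r hr => conj_comm fun k hk => mul_mem (mul_mem hr hk) (inv_mem hr)) fun r hr => conj_comm (RK r hr)
  obtain ⟨B, ⟨BK, hB⟩, mx⟩ := (Set.toFinite {B : Subgroup G | B ≤ K ∧ ¬ ∀ x ∈ Fx B F, Zc z x}).exists_maximal
    ⟨⊥, bot_le, f0⟩
  have mx' : ∀ B' ≤ K, ¬ B' ≤ B → ∀ x ∈ Fx B F, (∀ b ∈ B', b • x = x) → Zc z x :=
    fun B' h1 h2 x hx hx' => by_contra fun k => h2 (le_sup_right.trans (mx (y := B ⊔ B')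
      ⟨sup_le BK h1, fun k' => k (k' x (mem_Fx_sup hx hx'))⟩ le_sup_left))
  have KB : ⁅K, K⁆ ≤ B := by_contra fun k => hB fun x hx =>
    mx' _ (comm_lt hK fun e => f0 (e ▸ hfx)).le k x hx (hK'.ge hx.1).2
  have nB : ∀ k ∈ K, ∀ b ∈ B, k * b * k⁻¹ ∈ B := fun k hk b hb => by
    simpa [commutatorElement_def] using
      mul_mem (KB (Subgroup.commutator_mem_commutator hk (BK hb))) hb
  by_cases hN : R ≤ Subgroup.normalizer (B : Set G)
  · have eB := hc' B (lt_of_le_of_ne BK fun e => hB (e ▸ hfx)) nB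
      fun r hr k hk => (Subgroup.mem_normalizer_iff.1 (hN hr) k).1 hk
    haveI := Fintype.ofFinite F
    refine lin_of RF ((h.sys a).base2 hR _ (fun r => al r) (fun r f => h.hal r f)
      (P := (K.subgroupOf (St G F)).map (bar F)) (fun e => hZ fun x hx => hfx x ⟨hx, fun k hk => ?_⟩)
      ⟨⟨?_⟩⟩ hK ?_ ?_ ?_ fun k => hZ fun x hx => Zc_sub.1 (k ⟨x, hx⟩))
    · exact congrArg Subtype.val (DFunLike.congr_fun
        ((Subgroup.eq_bot_iff_forall _).1 e _ ⟨⟨k, KF hk⟩, hk, rfl⟩) ⟨x, hx⟩)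
    · rintro ⟨_, k, hk, rfl⟩ ⟨_, l, hl, rfl⟩
      refine Subtype.ext (commutatorElement_eq_one_iff_mul_comm.1 ?_)
      rw [← map_commutatorElement]
      exact MulEquiv.ext fun f => Subtype.ext
        ((hK'.ge f.2).2 _ (Subgroup.commutator_mem_commutator hk hl))
    · rintro _ ⟨k, hk, rfl⟩
      have := congrArg Subtype.val (pow_card_eq_one' (x := (⟨k, hk⟩ : K)))
      rw [← map_pow, show k ^ Nat.card K = 1 from Subtype.ext this, map_one]
    · rintro _ ⟨k, hk, rfl⟩ h1 e he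
      refine Zc_sub.2 (mx' (Subgroup.zpowers k.1) (Subgroup.zpowers_le.2 hk) (fun k1 => h1 ?_) _
        (eB.ge e.2) (Subgroup.zpowers_le.2 (congrArg Subtype.val he) :
          _ ≤ MulAction.stabilizer G e.1))
      exact MulEquiv.ext fun f => Subtype.ext ((eB.ge f.2).2 _ (k1 (Subgroup.mem_zpowers _)))
    · rintro r _ ⟨k, hk, rfl⟩
      exact ⟨⟨r, RF r.2⟩ * k * ⟨r, RF r.2⟩⁻¹, RK r r.2 k hk, by rw [map_mul, map_mul, map_inv]; rfl⟩
  obtain ⟨M, hM, hi⟩ := exists_index_two hR (N := (Subgroup.normalizer (B : Set G)).subgroupOf R)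
    (mt Subgroup.subgroupOf_eq_top.1 hN)
  let R0 := M.map R.subtype
  have h0 : R0 ≤ R := Subgroup.map_subtype_le M
  have hi' : (R0.subgroupOf R).index = 2 := by
    rwa [Subgroup.subgroupOf, Subgroup.comap_map_eq_self_of_injective R.subtype_injective]
  obtain ⟨t, ht, ht0⟩ : ∃ t ∈ R, t ∉ R0 := by
    by_contra hh
    push Not at hh
    rw [Subgroup.subgroupOf_eq_top.2 hh, Subgroup.index_top] at hi'
    omega
  have m : ∀ {a b}, a ∈ R → b ∈ R → (a * b ∈ R0 ↔ (a ∈ R0 ↔ b ∈ R0)) := fun {a b} ha hb =>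
    Subgroup.mul_mem_iff_of_index_two hi' (a := ⟨a, ha⟩) (b := ⟨b, hb⟩)
  have n1 := h.nd_Fx a (od B BK) (BK.trans KF)
  have K1 := St_Fx KF nB
  set F1 := Fx B F with hF1
  have c1 : ∀ r ∈ R, r ∉ Subgroup.normalizer (B : Set G) → Cm F1 (tw r F1) := fun r hr hr' x hx y hy => by
    have l : B.map (MulAut.conj r).toMonoidHom ≤ K := by
      rintro _ ⟨b, hb, rfl⟩; exact RK r hr b (BK hb)
    obtain ⟨w, hw, k⟩ := h.nrm a (od _ l) (D := F1) (fun x hx => hx.1) (l.trans K1) hx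
    have := mx' _ l (fun k => hr' (Subgroup.mem_normalizer_fintype fun b hb => k ⟨b, hb, rfl⟩)) w hw.1 hw.2
    rw [eq_comm, ← sg_eq_one, ← k y, sg_symm, sg_eq_one]
    · exact h.Zcomm this y
    · rintro _ ⟨b, hb, rfl⟩
      change (r * b * r⁻¹) • y = y
      rw [mul_smul, mul_smul, (mem_tw.1 hy).2 b hb, smul_inv_smul]
  have tt : ∀ r s : G, tw r (tw (r⁻¹ * s) F1) = tw s F1 := fun r s => Subgroup.ext fun x => by
    simp [mem_tw, mul_smul]
  have c2 : ∀ r ∈ R, ∀ s ∈ R, r⁻¹ * s ∉ Subgroup.normalizer (B : Set G) → Cm (tw r F1) (tw s F1) :=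
    fun r hr s hs k => tt r s ▸ (c1 _ (mul_mem (inv_mem hr) hs) k).tw r
  have c3 : ∀ r ∈ R, ∀ s ∈ R, tw r F1 = tw s F1 ∨ Cm (tw r F1) (tw s F1) := fun r hr s hs => by
    refine (em _).imp (fun k => ?_) (c2 r hr s hs)
    have : Subgroup.normalizer (B : Set G) ⊓ R ≤ St G F1 := St_Fx (inf_le_right.trans RF)
      fun g hg b hb => (Subgroup.mem_normalizer_iff.1 hg.1 b).1 hb
    rw [← tt r s]
    congr 1
    exact Subgroup.ext fun x => ((St G F1).inv_mem (this (Subgroup.mem_inf.2 ⟨k, mul_mem (inv_mem hr) hs⟩)) x).symm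
  haveI := Fintype.ofFinite G
  let s0 : Finset G := univ.filter (· ∈ R0)
  have ms : ∀ {r}, r ∈ s0 ↔ r ∈ R0 := by simp [s0]
  let F' := s0.sup fun r => tw r F1
  have le' : ∀ {r}, r ∈ R0 → tw r F1 ≤ F' := fun hr => le_sup (f := fun r => tw r F1) (ms.2 hr)
  have n2 : Nd z F' := nd_finsup h.toCz _ ⟨1, ms.2 (one_mem _)⟩ (fun r _ => h.nd_tw n1 r)
    fun r hr s hs => c3 r (h0 (ms.1 hr)) s (h0 (ms.1 hs))
  have F'F : F' ≤ F := Finset.sup_le fun r hr x hx =>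
    (inv_mem (RF (h0 (ms.1 hr))) x).1 (mem_tw.1 hx).1
  have tF : tw t F' ≤ F := fun x hx => (inv_mem (RF ht) x).1 (F'F hx)
  have KF' : K ≤ St G F' := le_St fun k hk => (Finset.sup_le fun r hr x hx =>
    le' (ms.1 hr) (St.mem (St_tw K1 (fun k hk => by simpa using RK _ (inv_mem (h0 (ms.1 hr))) k hk) hk) hx) :
      F' ≤ F'.comap (MulDistribMulAction.toMonoidHom E k))
  have RF' : R0 ≤ St G F' := le_St fun k hk => (Finset.sup_le fun r hr x hx =>
    le' (mul_mem hk (ms.1 hr)) (by simpa [mem_tw, mul_smul] using hx) :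
      F' ≤ F'.comap (MulDistribMulAction.toMonoidHom E k))
  have c4 : Cm F' (tw t F') := fun x hx y hy => by
    refine ((Finset.sup_le fun r hr x hx y hy => ?_ : F' ≤ Subgroup.centralizer (tw t F')) hx y hy).symm
    have : F' ≤ (Subgroup.centralizer (tw r F1)).comap (MulDistribMulAction.toMonoidHom E t) :=
      Finset.sup_le fun s hs w hw v hv => c2 r (h0 (ms.1 hr)) (t * s) (mul_mem ht (h0 (ms.1 hs)))
        (fun k => by
          have k1 : r⁻¹ * (t * s) ∈ R0 :=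
            ⟨⟨_, mul_mem (inv_mem (h0 (ms.1 hr))) (mul_mem ht (h0 (ms.1 hs)))⟩, hM k, rfl⟩
          exact ht0 ((R0.mul_mem_cancel_right (ms.1 hs)).1
            ((R0.mul_mem_cancel_left (inv_mem (ms.1 hr))).1 k1)))
        v hv _ (by simpa [mem_tw, mul_smul] using hw)
    simpa using (this (mem_tw.1 hy) x hx).symm
  have RJ : R ≤ St G (F' ⊔ tw t F') := St_sup fun r hr => by
    by_cases r0 : r ∈ R0
    · refine ⟨fun x hx => Subgroup.mem_sup_left (St.mem (RF' r0) hx), fun x hx =>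
        Subgroup.mem_sup_right (St.mem (St_tw RF' (fun k hk => ?_) r0) hx)⟩
      rw [m (mul_mem (inv_mem ht) (h0 hk)) ht, m (inv_mem ht) (h0 hk), inv_mem_iff]; tauto
    · refine ⟨fun x hx => Subgroup.mem_sup_right ?_, fun x hx => Subgroup.mem_sup_left ?_⟩
      · rw [mem_tw, ← mul_smul]
        exact St.mem (RF' (by rw [m (inv_mem ht) hr, inv_mem_iff]; tauto)) hx
      · simpa [mul_smul] using St.mem (RF' (show r * t ∈ R0 by rw [m hr ht]; tauto)) (mem_tw.1 hx)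
  obtain ⟨x, hx, hx'⟩ : ∃ x ∈ F', ¬ Zc z x := by
    push Not at hB
    obtain ⟨x, hx, hx'⟩ := hB
    exact ⟨x, le' (one_mem _) (by simpa [mem_tw] using hx), hx'⟩
  have eJ := ha' _ (sup_le F'F tF) (n2.sup h.toCz (h.nd_tw n2 t) c4) (St_sup fun k hk =>
    ⟨fun x hx => Subgroup.mem_sup_left (St.mem (KF' hk) hx), fun x hx => Subgroup.mem_sup_right
      (St.mem (St_tw KF' (fun k hk => by simpa using RK _ (inv_mem ht) k hk) hk) hx)⟩) RJ
    fun k => hx' (k x (Subgroup.mem_sup_left hx))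
  have l1 := card_lt (lt_of_le_of_ne F'F fun e => hx' (h.Zc_smul t (n2.2 _
    (e.ge (tF (smul_mem_tw t hx))) fun y hy => (c4 y hy _ (smul_mem_tw t hx)).symm)))
  obtain ⟨U, hU⟩ := ih F' K R0 (by omega) n2 hK (hR.to_le h0) (fun r hr => RK r (h0 hr)) KF' RF'
    fun x hx => hfx x ⟨F'F hx.1, hx.2⟩
  exact eJ ▸ h.swap hi' h0 ht ht0 n2 c4 RF' RJ hU

end Cfsg.Agent.H84.XE
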